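import Mathlib

/-!
# Normal subgroups with trivial centre and their centralizers (helper412)
-/

set_option autoImplicit false

namespace Cfsg.Agent.H412.NormalSimple

open Subgroup

variable {X : Type*} [Group X]

/-- An element of order prime to the index of a normal subgroup lies in it. -/
theorem mem_of_coprime (N : Subgroup X) [N.Normal] {x : X} (h : Nat.Coprime (orderOf x) N.index) : x ∈ N := by
  have h1 : orderOf (x : X ⧸ N) ∣ orderOf x := orderOf_map_dvd (QuotientGroup.mk' N) x
  have h2 : orderOf (x : X ⧸ N) ∣ N.index := orderOf_dvd_natCard _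
  have h3 : orderOf (x : X ⧸ N) = 1 := Nat.eq_one_of_dvd_coprimes h h1 h2
  rw [orderOf_eq_one_iff, QuotientGroup.eq_one_iff] at h3
  exact h3

/-- The image of an element of order prime to `|N|` has the same order. -/
theorem orderOf_mk_eq (N : Subgroup X) [N.Normal] {x : X} (h : Nat.Coprime (orderOf x) (Nat.card N)) :
    orderOf (x : X ⧸ N) = orderOf x := by
  apply Nat.dvd_antisymm (orderOf_map_dvd (QuotientGroup.mk' N) x)
  apply orderOf_dvd_of_pow_eq_one
  have h1 : x ^ orderOf (x : X ⧸ N) ∈ N := by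
    rw [← QuotientGroup.eq_one_iff, QuotientGroup.mk_pow, pow_orderOf_eq_one]
  have h2 : orderOf (x ^ orderOf (x : X ⧸ N)) ∣ Nat.card N := by
    have := orderOf_dvd_natCard (⟨_, h1⟩ : N)
    rwa [← Subgroup.orderOf_coe] at this
  have h3 : orderOf (x ^ orderOf (x : X ⧸ N)) ∣ orderOf x := orderOf_pow_dvd _
  rw [← orderOf_eq_one_iff]
  exact Nat.eq_one_of_dvd_coprimes h h3 h2

theorem comm_of_mem {S : Subgroup X} {s c : X} (hs : s ∈ S) (hc : c ∈ centralizer (S : Set X)) : s * c = c * s :=
  mem_centralizer_iff.1 hc s hs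

variable (S : Subgroup X) [S.Normal]

/-- elements of `S C(S)` -/
theorem exists_mul {x : X} (hx : x ∈ S ⊔ centralizer (S : Set X)) :
    ∃ s ∈ S, ∃ c ∈ centralizer (S : Set X), x = s * c := by
  obtain ⟨s, hs, c, hc, h⟩ := (mem_sup_of_normal_left (hs := inferInstance)).1 hx
  exact ⟨s, hs, c, hc, h.symm⟩

omit [S.Normal] in
/-- the order of a product -/
theorem orderOf_mul (hSC : S ⊓ centralizer (S : Set X) = ⊥) {s c : X} (hs : s ∈ S)
    (hc : c ∈ centralizer (S : Set X)) : orderOf (s * c) = Nat.lcm (orderOf s) (orderOf c) := by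
  have hcm : Commute s c := comm_of_mem hs hc
  apply Nat.dvd_antisymm hcm.orderOf_mul_dvd_lcm
  have h1 : (s * c) ^ orderOf (s * c) = 1 := pow_orderOf_eq_one _
  rw [hcm.mul_pow] at h1
  have h2 : s ^ orderOf (s * c) = (c ^ orderOf (s * c))⁻¹ := eq_inv_of_mul_eq_one_left h1
  have h3 : s ^ orderOf (s * c) ∈ S ⊓ centralizer (S : Set X) := by
    refine ⟨S.pow_mem hs _, ?_⟩
    rw [h2]
    exact Subgroup.inv_mem _ (Subgroup.pow_mem _ hc _)
  rw [hSC, mem_bot] at h3
  rw [h3, one_mul] at h1
  exact Nat.lcm_dvd (orderOf_dvd_of_pow_eq_one h3) (orderOf_dvd_of_pow_eq_one h1)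

/-- an element of order prime to `|C(S)|` and to `|X : S C(S)|` lies in `S` -/
theorem mem_of_coprime_coprime (hSC : S ⊓ centralizer (S : Set X) = ⊥) {x : X}
    (h1 : Nat.Coprime (orderOf x) (S ⊔ centralizer (S : Set X)).index)
    (h2 : Nat.Coprime (orderOf x) (Nat.card (centralizer (S : Set X)))) : x ∈ S := by
  obtain ⟨s, hs, c, hc, rfl⟩ := exists_mul S (mem_of_coprime (S ⊔ centralizer (S : Set X)) h1)
  rw [orderOf_mul S hSC hs hc] at h2
  have h3 : orderOf c ∣ Nat.lcm (orderOf s) (orderOf c) := Nat.dvd_lcm_right _ _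
  have h4 : orderOf c ∣ Nat.card (centralizer (S : Set X)) := by
    have := orderOf_dvd_natCard (⟨c, hc⟩ : centralizer (S : Set X))
    rwa [← Subgroup.orderOf_coe] at this
  have h5 : orderOf c = 1 := Nat.eq_one_of_dvd_coprimes h2 h3 h4
  rw [orderOf_eq_one_iff.1 h5, mul_one]
  exact hs

/-- `|X : S C(S)| |S|` divides `|Aut S|`. -/
theorem index_mul_card_dvd [Finite X] (hSC : S ⊓ centralizer (S : Set X) = ⊥) :
    (S ⊔ centralizer (S : Set X)).index * Nat.card S ∣ Nat.card (MulAut S) := by
  have hker : (MulAut.conjNormal (H := S) : X →* MulAut S).ker = centralizer (S : Set X) := by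
    ext x
    rw [MonoidHom.mem_ker, mem_centralizer_iff]
    constructor
    · intro h s hs
      have h1 : ((MulAut.conjNormal x (⟨s, hs⟩ : S) : S) : X) = s := by
        rw [h]
        rfl
      rw [MulAut.conjNormal_apply] at h1
      exact (mul_inv_eq_iff_eq_mul.1 h1).symm
    · intro h
      ext s
      rw [MulAut.conjNormal_apply]
      exact mul_inv_eq_iff_eq_mul.2 (h s s.2).symm
  have h1 : Nat.card (MulAut.conjNormal (H := S) : X →* MulAut S).range = (centralizer (S : Set X)).index := by
    rw [← hker, Subgroup.index_ker]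
  have h2 : (centralizer (S : Set X)).index ∣ Nat.card (MulAut S) := by
    rw [← h1]
    exact Subgroup.card_subgroup_dvd_card _
  have h3 := Subgroup.relIndex_mul_index (H := centralizer (S : Set X)) (K := S ⊔ centralizer (S : Set X)) le_sup_right
  have h4 : (centralizer (S : Set X)).relIndex (S ⊔ centralizer (S : Set X)) = Nat.card S := by
    rw [Subgroup.relIndex_sup_right, ← Subgroup.inf_relIndex_right, inf_comm, hSC, Subgroup.relIndex_bot_left]
  rw [← h3, h4, mul_comm] at h2
  exact h2

/-- The direct product decomposition. -/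
noncomputable def prodEquiv (hSC : S ⊓ centralizer (S : Set X) = ⊥) (htop : S ⊔ centralizer (S : Set X) = ⊤) :
    S × centralizer (S : Set X) ≃* X :=
  MulEquiv.ofBijective
    (MonoidHom.noncommCoprod S.subtype (centralizer (S : Set X)).subtype
      (fun s c => comm_of_mem s.2 c.2))
    (by
      constructor
      · rw [injective_iff_map_eq_one]
        rintro ⟨s, c⟩ h
        have h1 : (s : X) * (c : X) = 1 := h
        have h2 : (s : X) = (c : X)⁻¹ := eq_inv_of_mul_eq_one_left h1
        have h3 : (s : X) ∈ S ⊓ centralizer (S : Set X) := by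
          refine ⟨s.2, ?_⟩
          rw [h2]
          exact Subgroup.inv_mem _ c.2
        rw [hSC, mem_bot] at h3
        rw [h3, one_mul] at h1
        exact Prod.ext (Subtype.ext h3) (Subtype.ext h1)
      · intro x
        have hx : x ∈ S ⊔ centralizer (S : Set X) := by rw [htop]; trivial
        obtain ⟨s, hs, c, hc, rfl⟩ := exists_mul S hx
        exact ⟨(⟨s, hs⟩, ⟨c, hc⟩), rfl⟩)

theorem prodEquiv_apply (hSC : S ⊓ centralizer (S : Set X) = ⊥) (htop : S ⊔ centralizer (S : Set X) = ⊤)
    (y : S × centralizer (S : Set X)) : prodEquiv S hSC htop y = (y.1 : X) * (y.2 : X) := rfl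

/-- solvable normal subgroups of `C(S)` are solvable normal subgroups of `X = S C(S)` -/
theorem no_solvable (htop : S ⊔ centralizer (S : Set X) = ⊤)
    (hX : ∀ N : Subgroup X, N.Normal → Group.IsSolvable N → N = ⊥) (N : Subgroup (centralizer (S : Set X)))
    (hN : N.Normal) (hs : Group.IsSolvable N) : N = ⊥ := by
  have h1 : (N.map (centralizer (S : Set X)).subtype).Normal := by
    refine ⟨?_⟩
    rintro _ ⟨c, hc, rfl⟩ g
    have hg : g ∈ S ⊔ centralizer (S : Set X) := by rw [htop]; trivial
    obtain ⟨s, hs', d, hd, rfl⟩ := exists_mul S hg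
    refine ⟨⟨d, hd⟩ * c * ⟨d, hd⟩⁻¹, hN.conj_mem c hc _, ?_⟩
    change d * (c : X) * d⁻¹ = s * d * c * (s * d)⁻¹
    have h2 : d * (c : X) * d⁻¹ ∈ centralizer (S : Set X) :=
      Subgroup.mul_mem _ (Subgroup.mul_mem _ hd c.2) (Subgroup.inv_mem _ hd)
    have h3 := comm_of_mem hs' h2
    calc d * (c : X) * d⁻¹ = s * (d * (c : X) * d⁻¹) * s⁻¹ := by rw [h3]; group
      _ = s * d * c * (s * d)⁻¹ := by group
  have h2 : Group.IsSolvable (N.map (centralizer (S : Set X)).subtype) := by
    have e := N.equivMapOfInjective (centralizer (S : Set X)).subtype (Subgroup.subtype_injective _)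
    exact Group.isSolvable_of_surjective (f := e.toMonoidHom) e.surjective
  have h3 := hX _ h1 h2
  rw [Subgroup.map_eq_bot_iff_of_injective _ (Subgroup.subtype_injective _)] at h3
  exact h3

end Cfsg.Agent.H412.NormalSimple
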