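import Cfsg.Agent.H412.ReeSeq
import Cfsg.Agent.H412.NormalSimple
import Cfsg.Agent.S0811
import Cfsg.Agent.S0812
import Cfsg.Agent.S0813
import Cfsg.Agent.ClassicalGeometry.PSL2ElemOrder

/-!
# Excluding the factors `PSL(2, u)` (helper412)
-/

set_option autoImplicit false

namespace Cfsg.Agent.H412.PslCase

open Cfsg.Agent.H412.ReeArith Cfsg.Agent.H412.ReeSeq
open Cfsg.Agent.ClassicalGeometry Cfsg.Agent.ClassicalGeometry.PSLTorus

section Orders

variable {F : Type*} [Field F] [Fintype F]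

theorem exists_plus (hu : 12 ≤ Fintype.card F) : ∃ x : Matrix.ProjectiveSpecialLinearGroup (Fin 2) F,
    orderOf x = (Fintype.card F + 1) / Nat.gcd 2 (Fintype.card F - 1) := by
  obtain ⟨H, -, ⟨e⟩⟩ := Cfsg.Agent.S0811.result (F := F) rfl (by
    simp only [Finset.mem_insert, Finset.mem_singleton]
    omega)
  refine ⟨(e.symm (DihedralGroup.r 1) : H), ?_⟩
  rw [Subgroup.orderOf_coe, MulEquiv.orderOf_eq, DihedralGroup.orderOf_r_one]

theorem exists_minus (hu : 12 ≤ Fintype.card F) : ∃ x : Matrix.ProjectiveSpecialLinearGroup (Fin 2) F,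
    orderOf x = (Fintype.card F - 1) / Nat.gcd 2 (Fintype.card F - 1) := by
  obtain ⟨H, -, ⟨e⟩⟩ := Cfsg.Agent.S0812.result (F := F) rfl (by
    simp only [Finset.mem_insert, Finset.mem_singleton]
    omega)
  refine ⟨(e.symm (DihedralGroup.r 1) : H), ?_⟩
  rw [Subgroup.orderOf_coe, MulEquiv.orderOf_eq, DihedralGroup.orderOf_r_one]

theorem orders_even (h2 : (2 : F) = 0) (g : Matrix.ProjectiveSpecialLinearGroup (Fin 2) F) :
    orderOf g ∣ Fintype.card F - 1 ∨ orderOf g ∣ Fintype.card F + 1 ∨ orderOf g ∣ 4 := by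
  obtain ⟨A, rfl⟩ := pr_surjective F g
  have h2F : Fact (Nat.Prime 2) := ⟨Nat.prime_two⟩
  have hch : CharP F 2 := CharTwo.of_one_ne_zero_of_two_eq_zero one_ne_zero h2
  rcases SL2Order.pow_cases rfl 2 A with h | h | h
  · left
    apply orderOf_dvd_of_pow_eq_one
    rw [← map_pow, h, map_one]
  · right; left
    apply orderOf_dvd_of_pow_eq_one
    rw [← map_pow, h, map_one]
  · right; right
    apply orderOf_dvd_of_pow_eq_one
    have h4 : A ^ 4 = 1 := h
    rw [← map_pow, h4, map_one]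

theorem orders_odd (h2 : (2 : F) ≠ 0) (p : ℕ) [Fact p.Prime] [CharP F p]
    (g : Matrix.ProjectiveSpecialLinearGroup (Fin 2) F) :
    orderOf g ∣ (Fintype.card F - 1) / 2 ∨ orderOf g ∣ (Fintype.card F + 1) / 2 ∨ orderOf g ∣ p := by
  obtain ⟨A, rfl⟩ := pr_surjective F g
  have hodd : Odd (Fintype.card F) := (PSLTorus.two_ne_zero_iff_odd F).mp h2
  have hodd' := Nat.odd_iff.mp hodd
  rcases SL2Order.pow_cases rfl p A with h | h | h
  · left
    apply orderOf_dvd_of_pow_eq_one
    rw [← map_pow, pr_eq_one_iff]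
    apply PSL2ElemOrder.eq_one_or_of_sq h2
    rw [← pow_add, ← h]
    congr 1
    omega
  · right; left
    apply orderOf_dvd_of_pow_eq_one
    rw [← map_pow, pr_eq_one_iff]
    apply PSL2ElemOrder.eq_one_or_of_sq h2
    rw [← pow_add, ← h]
    congr 1
    omega
  · right; right
    apply orderOf_dvd_of_pow_eq_one
    rw [← map_pow, pr_eq_one_iff]
    apply PSL2ElemOrder.eq_one_or_of_sq h2
    rw [← pow_add, ← h]
    congr 1
    omega

end Orders

variable {P : ℕ → ℕ} {k : ℕ}

/-- the size bound -/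
theorem size (hP : Good P) {T : Type*} [Group T] (hT : ∀ x : T, Om P (k + 1) (orderOf x)) {F : Type*} [Field F]
    [Fintype F] (e : T ≃* Matrix.ProjectiveSpecialLinearGroup (Fin 2) F) (hu : 12 ≤ Fintype.card F) :
    Fintype.card F + 1 ≤ 4 * (Bd P k * 3 ^ P k) + 1 := by
  obtain ⟨x, hx⟩ := exists_plus (F := F) hu
  have h1 := Om_le hP (hT (e.symm x))
  rw [MulEquiv.orderOf_eq, hx, Bd_succ] at h1
  have h2 : Nat.gcd 2 (Fintype.card F - 1) ≤ 2 := Nat.gcd_le_left _ (by norm_num)
  have h3 : 0 < Nat.gcd 2 (Fintype.card F - 1) := Nat.gcd_pos_of_pos_left _ (by norm_num)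
  have h4 : (Fintype.card F + 1) / 2 ≤ (Fintype.card F + 1) / Nat.gcd 2 (Fintype.card F - 1) :=
    Nat.div_le_div_left h2 h3
  have h5 : Bd P k * (2 * 3 ^ P k) = 2 * (Bd P k * 3 ^ P k) := by ring
  rw [h5] at h1
  omega

/-- large primes do not divide `2 f` -/
theorem not_dvd_two_mul (hP : Good P) {j : Fin 4} {t : ℕ} (ht : B (P k) j t) {f : ℕ} (hf : 0 < f)
    (hsz : 2 ^ f ≤ 4 * (Bd P k * 3 ^ P k)) : ¬ t ∣ 2 * f := by
  intro h
  rcases (Nat.Prime.dvd_mul ht.1).1 h with h1 | h1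
  · exact ht.2.1 ((Nat.prime_dvd_prime_iff_eq ht.1 Nat.prime_two).1 h1)
  · have h2 := Nat.le_of_dvd hf h1
    have h3 := two_mul_lt (hP.prime k) (hP.ge17 k) ht
    have h4 : 2 ^ (2 * P k) ≤ 2 ^ f := Nat.pow_le_pow_right (by norm_num) (by omega)
    have h5 := hP.exp k
    have h6 : 2 ^ (2 * P k) = 4 ^ P k := by rw [pow_mul]; norm_num
    have h7 : 0 < Bd P k * 3 ^ P k := Nat.mul_pos (Bd_pos P k) (by positivity)
    have h8 : 10 ^ 6 * Bd P k * 3 ^ P k = 10 ^ 6 * (Bd P k * 3 ^ P k) := by ring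
    rw [h8] at h5
    omega

/-- `A' i` and `A' j` do not divide a common element order -/
theorem not_both (hP : Good P) {i j : Fin 4} (hij : i ≠ j) {n : ℕ} (hn : Om P (k + 1) n) (h1 : A' (P k) i ∣ n)
    (h2 : A' (P k) j ∣ n) : False := by
  obtain ⟨s, hs, hsd⟩ := Nat.exists_prime_and_dvd (one_lt_A' (hP.prime k) (hP.ge17 k) i).ne'
  obtain ⟨t, ht, htd⟩ := Nat.exists_prime_and_dvd (one_lt_A' (hP.prime k) (hP.ge17 k) j).ne'
  exact not_adj hP hij (B_of_dvd_A' (hP.prime k) (hP.ge17 k) hs hsd) (B_of_dvd_A' (hP.prime k) (hP.ge17 k) ht htd)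
    hn (hsd.trans h1) (htd.trans h2)

theorem three_indices (j0 : Fin 4) : ∃ a b c : Fin 4, a ≠ j0 ∧ b ≠ j0 ∧ c ≠ j0 ∧ a ≠ b ∧ a ≠ c ∧ b ≠ c := by
  revert j0
  decide

/-- **No `PSL(2, u)`.** -/
theorem no_psl (hP : Good P) {T : Type*} [Group T] (hT : ∀ x : T, Om P (k + 1) (orderOf x)) {F : Type*} [Field F]
    [Fintype F] (e : T ≃* Matrix.ProjectiveSpecialLinearGroup (Fin 2) F) (hu : 12 ≤ Fintype.card F) {j0 : Fin 4}
    (hA : ∀ j ≠ j0, ∃ x : T, orderOf x = A' (P k) j) : False := by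
  have hsz := size hP hT e hu
  have hp := hP.prime k
  have h17 := hP.ge17 k
  have hO : ∀ y : Matrix.ProjectiveSpecialLinearGroup (Fin 2) F, Om P (k + 1) (orderOf y) := by
    intro y
    have := hT (e.symm y)
    rwa [MulEquiv.orderOf_eq] at this
  have hA2 : ∀ j ≠ j0, ∃ y : Matrix.ProjectiveSpecialLinearGroup (Fin 2) F, orderOf y = A' (P k) j := by
    intro j hj
    obtain ⟨x, hx⟩ := hA j hj
    exact ⟨e x, by rw [MulEquiv.orderOf_eq, hx]⟩
  obtain ⟨xp, hxp⟩ := exists_plus (F := F) hu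
  obtain ⟨xm, hxm⟩ := exists_minus (F := F) hu
  have op := hO xp
  have om := hO xm
  rw [hxp] at op
  rw [hxm] at om
  obtain ⟨a, b, c, ha, hb, hc, hab, hac, hbc⟩ := three_indices j0
  obtain ⟨ya, hya⟩ := hA2 a ha
  obtain ⟨yb, hyb⟩ := hA2 b hb
  obtain ⟨yc, hyc⟩ := hA2 c hc
  by_cases h2 : (2 : F) = 0
  · -- even characteristic
    have hgcd : Nat.gcd 2 (Fintype.card F - 1) = 1 := by
      have hodd : ¬ Odd (Fintype.card F) := fun h => ((PSLTorus.two_ne_zero_iff_odd F).mpr h) h2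
      rw [Nat.not_odd_iff_even, Nat.even_iff] at hodd
      rw [← Nat.coprime_iff_gcd_eq_one, Nat.coprime_two_left, Nat.odd_iff]
      omega
    rw [hgcd, Nat.div_one] at op om
    have key : ∀ j, j ≠ j0 → A' (P k) j ∣ Fintype.card F - 1 ∨ A' (P k) j ∣ Fintype.card F + 1 := by
      intro j hj
      obtain ⟨y, hy⟩ := hA2 j hj
      have h1 := orders_even h2 y
      rw [hy] at h1
      rcases h1 with h1 | h1 | h1
      · exact Or.inl h1
      · exact Or.inr h1
      · exfalso
        have h3 := A'_odd hp h17 j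
        have h4 := one_lt_A' hp h17 j
        have h5 := Nat.le_of_dvd (by norm_num) h1
        have h6 : A' (P k) j = 3 := by omega
        rw [h6] at h1
        omega
    rcases key a ha with h1 | h1 <;> rcases key b hb with h3 | h3 <;> rcases key c hc with h4 | h4
    · exact not_both hP hab om h1 h3
    · exact not_both hP hab om h1 h3
    · exact not_both hP hac om h1 h4
    · exact not_both hP hbc op h3 h4
    · exact not_both hP hbc om h3 h4
    · exact not_both hP hac op h1 h4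
    · exact not_both hP hab op h1 h3
    · exact not_both hP hab op h1 h3
  · -- odd characteristic
    have hodd : Odd (Fintype.card F) := (PSLTorus.two_ne_zero_iff_odd F).mp h2
    have hodd' := Nat.odd_iff.mp hodd
    have hgcd : Nat.gcd 2 (Fintype.card F - 1) = 2 := by
      apply Nat.gcd_eq_left
      omega
    rw [hgcd] at op om
    obtain ⟨p₀, hch, ⟨f, hf⟩, hp₀, hcard⟩ := FiniteField.card' F
    have hF₀ : Fact p₀.Prime := ⟨hp₀⟩
    change Fintype.card F = p₀ ^ f at hcard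
    have key : ∀ j, j ≠ j0 → A' (P k) j ∣ (Fintype.card F - 1) / 2 ∨ A' (P k) j ∣ (Fintype.card F + 1) / 2 ∨
        A' (P k) j ∣ p₀ := by
      intro j hj
      obtain ⟨y, hy⟩ := hA2 j hj
      have h1 := orders_odd h2 p₀ y
      rwa [hy] at h1
    -- the three divisibilities are attained once
    have fin : ∀ a b c : Fin 4, a ≠ b → a ≠ c → b ≠ c → A' (P k) a ∣ p₀ →
        A' (P k) b ∣ (Fintype.card F - 1) / 2 → A' (P k) c ∣ (Fintype.card F + 1) / 2 → False := by
      intro a b c hab hac hbc h1 h3 h4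
      have h5 : A' (P k) a = p₀ := by
        rcases (Nat.dvd_prime hp₀).1 h1 with h5 | h5
        · have := one_lt_A' hp h17 a
          omega
        · exact h5
      by_cases hf1 : f = 1
      · rw [hf1, pow_one, ← h5] at hcard
        rw [hcard] at h3 h4
        exact no_prime hp h17 hab hac hbc h3 h4
      · have hf2 : 2 ≤ f := by omega
        have h6 : p₀ ^ 2 ≤ p₀ ^ f := Nat.pow_le_pow_right hp₀.pos hf2
        rw [← hcard, ← h5] at h6
        have h7 := le_A' hp h17 a
        have h8 : (3 ^ P k) ^ 2 ≤ (14 * A' (P k) a) ^ 2 := Nat.pow_le_pow_left h7 2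
        have h9 : (14 * A' (P k) a) ^ 2 = 196 * A' (P k) a ^ 2 := by ring
        rw [h9] at h8
        have h10 : (3 ^ P k) ^ 2 ≤ 784 * (Bd P k * 3 ^ P k) := by omega
        have h11 : 3 ^ P k * 3 ^ P k ≤ (784 * Bd P k) * 3 ^ P k := by
          calc 3 ^ P k * 3 ^ P k = (3 ^ P k) ^ 2 := by ring
            _ ≤ 784 * (Bd P k * 3 ^ P k) := h10
            _ = _ := by ring
        have h12 : 3 ^ P k ≤ 784 * Bd P k := Nat.le_of_mul_le_mul_right h11 (by positivity)
        have h13 := hP.lt_three k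
        have h14 := Bd_pos P k
        omega
    have two : ∀ a b : Fin 4, a ≠ b → A' (P k) a ∣ p₀ → A' (P k) b ∣ p₀ → False := by
      intro a b hab h1 h3
      have h5 : A' (P k) a = p₀ := by
        rcases (Nat.dvd_prime hp₀).1 h1 with h5 | h5
        · have := one_lt_A' hp h17 a
          omega
        · exact h5
      have h6 : A' (P k) b = p₀ := by
        rcases (Nat.dvd_prime hp₀).1 h3 with h5 | h5
        · have := one_lt_A' hp h17 b
          omega
        · exact h5
      have h7 := A'_coprime hp h17 hab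
      rw [h5, h6, Nat.coprime_self] at h7
      exact hp₀.one_lt.ne' h7
    have m2 : ∀ i j : Fin 4, i ≠ j → A' (P k) i ∣ (Fintype.card F - 1) / 2 → A' (P k) j ∣ (Fintype.card F - 1) / 2 →
      False := fun i j hij h1 h3 => not_both hP hij om h1 h3
    have p2 : ∀ i j : Fin 4, i ≠ j → A' (P k) i ∣ (Fintype.card F + 1) / 2 → A' (P k) j ∣ (Fintype.card F + 1) / 2 →
      False := fun i j hij h1 h3 => not_both hP hij op h1 h3
    rcases key a ha with h1 | h1 | h1 <;> rcases key b hb with h3 | h3 | h3 <;>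
      rcases key c hc with h4 | h4 | h4
    · exact m2 a b hab h1 h3
    · exact m2 a b hab h1 h3
    · exact m2 a b hab h1 h3
    · exact m2 a c hac h1 h4
    · exact p2 b c hbc h3 h4
    · exact fin c a b hac.symm hbc.symm hab h4 h1 h3
    · exact m2 a c hac h1 h4
    · exact fin b a c hab.symm hbc hac h3 h1 h4
    · exact two b c hbc h3 h4
    · exact m2 b c hbc h3 h4
    · exact p2 a c hac h1 h4
    · exact fin c b a hbc.symm hac.symm hab.symm h4 h3 h1
    · exact p2 a b hab h1 h3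
    · exact p2 a b hab h1 h3
    · exact p2 a b hab h1 h3
    · exact fin b c a hbc hab.symm hac.symm h3 h4 h1
    · exact p2 a c hac h1 h4
    · exact two b c hbc h3 h4
    · exact m2 b c hbc h3 h4
    · exact fin a b c hab hac hbc h1 h3 h4
    · exact two a c hac h1 h4
    · exact fin a c b hac hab hbc.symm h1 h4 h3
    · exact p2 b c hbc h3 h4
    · exact two a c hac h1 h4
    · exact two a b hab h1 h3
    · exact two a b hab h1 h3
    · exact two a b hab h1 h3

/-- the index of `S C(S)` for `S ≅ PSL(2, u)` -/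
theorem dvd_of_dvd_index {X : Type*} [Group X] [Finite X] (S : Subgroup X) [S.Normal]
    (hSC : S ⊓ Subgroup.centralizer (S : Set X) = ⊥) {F : Type*} [Field F]
    [Fintype F] (e : S ≃* Matrix.ProjectiveSpecialLinearGroup (Fin 2) F) (hu : 4 ≤ Fintype.card F)
    {p₀ f : ℕ} (hp₀ : p₀.Prime) (hf : 1 ≤ f) (hcard : Fintype.card F = p₀ ^ f) :
    (S ⊔ Subgroup.centralizer (S : Set X)).index ∣ 2 * f := by
  have hF₀ : Fact p₀.Prime := ⟨hp₀⟩
  have h1 := NormalSimple.index_mul_card_dvd S hSC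
  have h2 : Nat.card (MulAut S) = Nat.card (MulAut (Matrix.ProjectiveSpecialLinearGroup (Fin 2) F)) :=
    Nat.card_congr (MulAut.congr e).toEquiv
  have h3 : Nat.card S = Nat.card (Matrix.ProjectiveSpecialLinearGroup (Fin 2) F) := Nat.card_congr e.toEquiv
  rw [h2, h3, Cfsg.Agent.S0813.result p₀ f hf hcard 2 le_rfl (fun _ => by rwa [← hcard]), if_pos rfl, one_mul,
    PSL2Basic.card_PGL2, ← PSL2Basic.card_PSL2_gcd] at h1
  have h4 : (S ⊔ Subgroup.centralizer (S : Set X)).index * Nat.card (Matrix.ProjectiveSpecialLinearGroup (Fin 2) F) ∣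
      (f * Nat.gcd 2 (Fintype.card F - 1)) * Nat.card (Matrix.ProjectiveSpecialLinearGroup (Fin 2) F) := by
    have h5 : f * (Nat.card (Matrix.ProjectiveSpecialLinearGroup (Fin 2) F) * Nat.gcd 2 (Fintype.card F - 1)) =
      (f * Nat.gcd 2 (Fintype.card F - 1)) * Nat.card (Matrix.ProjectiveSpecialLinearGroup (Fin 2) F) := by ring
    rwa [h5] at h1
  have h6 := Nat.dvd_of_mul_dvd_mul_right Nat.card_pos h4
  refine h6.trans ?_
  rw [mul_comm 2 f]
  exact Nat.mul_dvd_mul_left _ (Nat.gcd_dvd_left _ _)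

end Cfsg.Agent.H412.PslCase
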