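import Cfsg.Agent.CpAutRee.Ree
import Cfsg.Agent.S0813
import Cfsg.Agent.H412.NormalSimple

/-!
# Outer automorphisms of groups of Janko-Ree type (helper412)

An automorphism of `t`-power order of a group of Janko-Ree type over the field of order `p₀^f`, fixing an
involution, is inner if `t` is a prime not dividing `2 f`.
-/

set_option autoImplicit false

namespace Cfsg.Agent.H412.ReeOut

open Subgroup Cfsg
open Cfsg.Agent.Walter Cfsg.Agent.Walter.Types
open Cfsg.Agent.CpAutRee.Abs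
open Cfsg.Agent.ClassicalGeometry

section PSL

variable {F : Type*} [Field F] [Fintype F]

theorem psl_noncomm (h4 : 4 ≤ Fintype.card F) :
    ∃ a b : Matrix.ProjectiveSpecialLinearGroup (Fin 2) F, a * b ≠ b * a := by
  by_contra hcon
  push Not at hcon
  exact Cfsg.Agent.ClassicalGeometry.PSL2Solvable.not_isSolvable_psl F (by omega)
    (Group.isSolvable_of_comm hcon)

theorem psl_center (h4 : 4 ≤ Fintype.card F) :
    center (Matrix.ProjectiveSpecialLinearGroup (Fin 2) F) = ⊥ := by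
  have hPs : IsSimpleGroup (Matrix.ProjectiveSpecialLinearGroup (Fin 2) F) :=
    Matrix.ProjectiveSpecialLinearGroup.rank_two_simple (by rw [Nat.card_eq_fintype_card]; omega)
  obtain ⟨a, b, hab⟩ := psl_noncomm h4
  rcases (inferInstance : (center (Matrix.ProjectiveSpecialLinearGroup (Fin 2) F)).Normal).eq_bot_or_eq_top with h | h
  · exact h
  · exact absurd (mem_center_iff.1 (by rw [h]; exact mem_top b) a) hab

/-- `|Aut PSL(2, q)| = f gcd(2, q - 1) |PSL(2, q)|` -/
theorem card_mulAut {p₀ f : ℕ} (hp : p₀.Prime) (hf : 1 ≤ f) (hF : Fintype.card F = p₀ ^ f)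
    (h4 : 4 ≤ Fintype.card F) : Nat.card (MulAut (Matrix.ProjectiveSpecialLinearGroup (Fin 2) F)) =
      f * Nat.gcd 2 (Fintype.card F - 1) * Nat.card (Matrix.ProjectiveSpecialLinearGroup (Fin 2) F) := by
  have := Fact.mk hp
  rw [Cfsg.Agent.S0813.result p₀ f hf hF 2 le_rfl (fun _ => by rwa [← hF]), if_pos rfl, one_mul,
    PSL2Basic.card_PGL2, ← PSL2Basic.card_PSL2_gcd]
  ring

theorem conj_injective {G : Type*} [Group G] (h : center G = ⊥) :
    Function.Injective (MulAut.conj : G →* MulAut G) := by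
  rw [← MonoidHom.ker_eq_bot_iff, eq_bot_iff, ← h]
  intro g hg
  rw [mem_center_iff]
  intro x
  have h1 : MulAut.conj g x = x := by
    rw [MonoidHom.mem_ker] at hg
    rw [hg]
    rfl
  rw [MulAut.conj_apply, mul_inv_eq_iff_eq_mul] at h1
  exact h1.symm

theorem conj_range_normal (G : Type*) [Group G] : (MulAut.conj : G →* MulAut G).range.Normal := by
  refine ⟨?_⟩
  rintro _ ⟨g, rfl⟩ φ
  refine ⟨φ g, ?_⟩
  ext x
  change φ g * x * (φ g)⁻¹ = φ (g * (φ⁻¹ x) * g⁻¹)
  rw [map_mul, map_mul, map_inv]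
  congr 2
  exact (φ.apply_symm_apply x).symm

/-- an automorphism of `PSL(2, q)` of order prime to `2 f` is inner -/
theorem psl_inner {p₀ f : ℕ} (hp : p₀.Prime) (hf : 1 ≤ f) (hF : Fintype.card F = p₀ ^ f)
    (h4 : 4 ≤ Fintype.card F) {n : ℕ} (hn : Nat.Coprime n (2 * f))
    {α : MulAut (Matrix.ProjectiveSpecialLinearGroup (Fin 2) F)} (hα : α ^ n = 1) :
    ∃ g, α = MulAut.conj g := by
  have hN := conj_range_normal (Matrix.ProjectiveSpecialLinearGroup (Fin 2) F)
  have h1 := Subgroup.card_mul_index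
    (MulAut.conj : Matrix.ProjectiveSpecialLinearGroup (Fin 2) F →* MulAut _).range
  have h2 : Nat.card (MulAut.conj : Matrix.ProjectiveSpecialLinearGroup (Fin 2) F →* MulAut _).range =
      Nat.card (Matrix.ProjectiveSpecialLinearGroup (Fin 2) F) :=
    Nat.card_congr (MonoidHom.ofInjective (conj_injective (psl_center h4))).symm.toEquiv
  rw [card_mulAut hp hf hF h4, h2, mul_comm] at h1
  have h3 : (MulAut.conj : Matrix.ProjectiveSpecialLinearGroup (Fin 2) F →* MulAut _).range.index =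
      f * Nat.gcd 2 (Fintype.card F - 1) := Nat.eq_of_mul_eq_mul_right Nat.card_pos h1
  have h5 : (MulAut.conj : Matrix.ProjectiveSpecialLinearGroup (Fin 2) F →* MulAut _).range.index ∣ 2 * f := by
    rw [h3, mul_comm 2 f]
    exact Nat.mul_dvd_mul_left _ (Nat.gcd_dvd_left _ _)
  have h6 : Nat.Coprime (orderOf α) (MulAut.conj : Matrix.ProjectiveSpecialLinearGroup (Fin 2) F →* MulAut _).range.index :=
    (hn.coprime_dvd_left (orderOf_dvd_of_pow_eq_one hα)).coprime_dvd_right h5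
  obtain ⟨g, hg⟩ := NormalSimple.mem_of_coprime _ h6
  exact ⟨g, hg.symm⟩

end PSL

section Ind

variable {P : Type*} [Group P] [IsSimpleGroup P] [Finite P]

theorem ind_apply_pow (hna : ∃ a b : P, a * b ≠ b * a) (β : MulAut (Multiplicative (ZMod 2) × P)) (n : ℕ)
    (u : P) : (β ^ n) (1, u) = (1, (ind hna β ^ n) u) := by
  induction n with
  | zero => rfl
  | succ n ih =>
    rw [pow_succ', pow_succ', MulAut.mul_apply, MulAut.mul_apply, ih, apply_one hna]

theorem ind_pow' (hna : ∃ a b : P, a * b ≠ b * a) {β : MulAut (Multiplicative (ZMod 2) × P)} {n : ℕ}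
    (hβ : β ^ n = 1) : ind hna β ^ n = 1 := by
  ext u
  have h1 := ind_apply_pow hna β n u
  rw [hβ] at h1
  exact (congrArg Prod.snd h1).symm

end Ind

section JR

variable {K : Type*} [Group K] [Finite K]

theorem odd_of_pow {G : Type*} [Group G] {x : G} {n : ℕ} (hn : Odd n) (hx : x ^ n = 1) : Odd (orderOf x) :=
  hn.of_dvd_nat (orderOf_dvd_of_pow_eq_one hx)

/-- **Main lemma.** -/
theorem inner [IsSimpleGroup K] (hJ : IsJR K) (hB : AutFacts.Bender K) (hna : ∃ a b : K, a * b ≠ b * a)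
    {F : Type*} [Field F] [Fintype F] {p₀ f : ℕ} (hp : p₀.Prime) (hf : 1 ≤ f) (hF : Fintype.card F = p₀ ^ f)
    (h5 : 5 ≤ Fintype.card F)
    {x : MulAut K} {n : ℕ} (hn : Nat.Coprime n (2 * f)) (hx : x ^ n = 1) {s : K} (hs2 : orderOf s = 2)
    (hxs : x s = s) (hC : Nonempty (centralizer ({s} : Set K) ≃*
          Multiplicative (ZMod 2) × Matrix.ProjectiveSpecialLinearGroup (Fin 2) F)) :
    ∃ g : K, x = MulAut.conj g := by
  have h2 : Fact (Nat.Prime 2) := ⟨Nat.prime_two⟩
  obtain ⟨e⟩ := hC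
  have hnodd : Odd n := by
    have h1 : Nat.Coprime n 2 := hn.coprime_dvd_right (Dvd.intro _ rfl)
    exact Nat.coprime_two_right.1 h1
  have hPs : IsSimpleGroup (Matrix.ProjectiveSpecialLinearGroup (Fin 2) F) :=
    Matrix.ProjectiveSpecialLinearGroup.rank_two_simple (by rw [Nat.card_eq_fintype_card]; omega)
  have hPna := psl_noncomm (F := F) (by omega)
  have hPc := psl_center (F := F) (by omega)
  let D := centralizer ({s} : Set K)
  let s' : D := ⟨s, mem_centralizer_singleton_iff.2 rfl⟩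
  let β : MulAut (Multiplicative (ZMod 2) × Matrix.ProjectiveSpecialLinearGroup (Fin 2) F) :=
    MulAut.congr e (res x hxs)
  have hβe : ∀ d : D, β (e d) = e (res x hxs d) := by
    intro d
    change e (res x hxs (e.symm (e d))) = _
    rw [e.symm_apply_apply]
  have hresn : ∀ (m : ℕ) (d : D), (((res x hxs ^ m) d : D) : K) = (x ^ m) (d : K) := by
    intro m
    induction m with
    | zero => intro d; rfl
    | succ m ih =>
      intro d
      rw [pow_succ', pow_succ', MulAut.mul_apply, MulAut.mul_apply, coe_res, ih]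
  have hres3 : res x hxs ^ n = 1 := by
    ext d
    rw [hresn, hx]
    rfl
  have hβ3 : β ^ n = 1 := by
    change (MulAut.congr e (res x hxs)) ^ n = 1
    rw [← map_pow, hres3, map_one]
  have hs'c : ∀ d : D, s' * d = d * s' := by
    intro d
    exact Subtype.ext (mem_centralizer_singleton_iff.1 d.2).symm
  have hs1 : s ≠ 1 := by
    rintro rfl
    rw [orderOf_one] at hs2
    omega
  -- `e s' = (z, 1)`
  have hes2 : (e s').2 = 1 := by
    have h3 : (e s').2 ∈ center (Matrix.ProjectiveSpecialLinearGroup (Fin 2) F) := by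
      rw [mem_center_iff]
      intro u
      have h4 := congrArg e (hs'c (e.symm (1, u)))
      rw [map_mul, map_mul, e.apply_symm_apply] at h4
      exact (congrArg Prod.snd h4).symm
    rwa [hPc, mem_bot] at h3
  have hz : (e s').1 ≠ 1 := by
    intro h3
    have h4 : e s' = 1 := Prod.ext h3 hes2
    rw [← map_one e] at h4
    exact hs1 (congrArg Subtype.val (e.injective h4))
  have hes : e s' = ((e s').1, 1) := Prod.ext rfl hes2
  have hβs : β ((e s').1, 1) = ((e s').1, 1) := by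
    rw [← hes, hβe]
    congr 1
    exact Subtype.ext hxs
  have hα3 := ind_pow' hPna hβ3
  obtain ⟨g, hg⟩ := psl_inner hp hf hF (by omega) hn hα3
  let y : D := e.symm (1, g)
  have hy : e y = (1, g) := e.apply_symm_apply _
  have hconj : ∀ d : D, x (d : K) = y * d * (y : K)⁻¹ := by
    intro d
    have h3 : e (res x hxs d) = e (y * d * y⁻¹) := by
      rw [← hβe, map_mul, map_mul, map_inv, hy]
      have h4 : e d = ((e d).1, 1) * (1, (e d).2) := by
        rw [Prod.mk_mul_mk, mul_one, one_mul]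
      have h5 : β ((e d).1, 1) = ((e d).1, 1) := by
        rcases exists_z hz (e d).1 with h6 | h6
        · rw [h6]
          exact map_one β
        · rw [h6]
          exact hβs
      rw [h4, map_mul, h5, apply_one hPna, hg, MulAut.conj_apply]
      ext
      · simp
      · simp
    exact congrArg Subtype.val (e.injective h3)
  have hxy : x (y : K) = y := by rw [hconj]; group
  have hg3 : g ^ n = 1 := by
    rw [hg, ← map_pow] at hα3
    exact conj_injective hPc (hα3.trans (map_one _).symm)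
  have hy3 : (y : K) ^ n = 1 := by
    have h3 : e (y ^ n) = 1 := by
      rw [map_pow, hy, Prod.pow_mk, hg3, one_pow]
      rfl
    rw [← map_one e] at h3
    exact congrArg Subtype.val (e.injective h3)
  -- `φ` centralizes `C(s)`
  let φ : MulAut K := (MulAut.conj (y : K))⁻¹ * x
  have hφ : ∀ d ∈ D, φ d = d := by
    intro d hd
    change (MulAut.conj (y : K))⁻¹ (x d) = d
    rw [hconj ⟨d, hd⟩, ← map_inv, MulAut.conj_apply]
    group
  have hcm : x * MulAut.conj (y : K) = MulAut.conj (y : K) * x := by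
    ext d
    rw [MulAut.mul_apply, MulAut.mul_apply, MulAut.conj_apply, MulAut.conj_apply, map_mul, map_mul, map_inv, hxy]
  have hφ3 : φ ^ n = 1 := by
    have h3 : Commute (MulAut.conj (y : K))⁻¹ x := (Commute.inv_left (show Commute (MulAut.conj (y : K)) x from hcm.symm))
    change ((MulAut.conj (y : K))⁻¹ * x) ^ n = 1
    rw [h3.mul_pow, hx, inv_pow, ← map_pow, hy3, map_one, inv_one, mul_one]
  obtain ⟨S, hS⟩ : ∃ S : Sylow 2 K, s ∈ (S : Subgroup K) := by
    have h3 : IsPGroup 2 (zpowers s) := IsPGroup.of_card (n := 1) (by rw [Nat.card_zpowers, hs2, pow_one])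
    obtain ⟨S, hS⟩ := h3.exists_le_sylow
    exact ⟨S, hS (mem_zpowers s)⟩
  obtain ⟨f1, f2, f3⟩ := PSLFacts.IsJR.facts hJ S
  have h3 := AutFacts.aut_eq_one hB hna S f1 (by rw [f2]; norm_num) f3 hS hs1 φ (odd_of_pow hnodd hφ3) hφ
  refine ⟨y, ?_⟩
  have h4 : (MulAut.conj (y : K))⁻¹ * x = 1 := h3
  exact (inv_mul_eq_one.1 h4).symm

end JR

/-! ### Normal subgroups of Janko-Ree type -/

section Normal

variable {X : Type*} [Group X] [Finite X] (S : Subgroup X) [S.Normal]

/-- the primes dividing `|X : S C(S)|` divide `2 f` -/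
theorem dvd_of_dvd_index [IsSimpleGroup S] (hJ : IsJR S) (hB : AutFacts.Bender S)
    (hna : ∃ a b : S, a * b ≠ b * a)
    {F : Type*} [Field F] [Fintype F] {p₀ f : ℕ} (hp : p₀.Prime) (hf : 1 ≤ f) (hF : Fintype.card F = p₀ ^ f)
    (h5 : 5 ≤ Fintype.card F)
    (hC : ∀ s : S, orderOf s = 2 → Nonempty (centralizer ({s} : Set S) ≃*
          Multiplicative (ZMod 2) × Matrix.ProjectiveSpecialLinearGroup (Fin 2) F))
    (hconj : ∀ s t : S, orderOf s = 2 → orderOf t = 2 → ∃ g : S, g * s * g⁻¹ = t)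
    {t : ℕ} (ht : t.Prime) (hd : t ∣ (S ⊔ centralizer (S : Set X)).index) : t ∣ 2 * f := by
  classical
  have hFt := Fact.mk ht
  by_contra hnd
  -- an involution of `S`
  obtain ⟨s, hs⟩ : ∃ s : S, orderOf s = 2 := by
    obtain ⟨T, hT, -⟩ := hJ.1
    have h2 : Fact (Nat.Prime 2) := ⟨Nat.prime_two⟩
    apply exists_prime_orderOf_dvd_card' 2
    have h1 : Nat.card T ∣ Nat.card S := Subgroup.card_subgroup_dvd_card _
    rw [hT] at h1
    exact Dvd.dvd.trans (by norm_num) h1
  set N : Subgroup X := S ⊔ centralizer (S : Set X) with hN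
  -- `X = S C(s)`
  have hsup : ∀ x : X, ∃ g ∈ S, g * x ∈ centralizer ({(s : X)} : Set X) := by
    intro x
    have h1 : orderOf (⟨x * s * x⁻¹, (inferInstance : S.Normal).conj_mem s s.2 x⟩ : S) = 2 := by
      have h3 : orderOf (MulAut.conj x (s : X)) = orderOf (s : X) := MulEquiv.orderOf_eq _ _
      rw [← Subgroup.orderOf_coe]
      change orderOf (MulAut.conj x (s : X)) = 2
      rw [h3, Subgroup.orderOf_coe, hs]
    obtain ⟨g, hg⟩ := hconj _ s h1 hs
    refine ⟨g, g.2, ?_⟩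
    rw [mem_centralizer_singleton_iff]
    have h3 : (g : X) * (x * s * x⁻¹) * (g : X)⁻¹ = s := congrArg Subtype.val hg
    calc (g : X) * x * s = ((g : X) * (x * s * x⁻¹) * (g : X)⁻¹) * (g * x) := by group
      _ = s * (g * x) := by rw [h3]
  -- an element of order `t` modulo `N`
  have hd' : t ∣ Nat.card (X ⧸ N) := hd
  obtain ⟨y, hy⟩ := exists_prime_orderOf_dvd_card' t hd'
  obtain ⟨x, rfl⟩ := QuotientGroup.mk_surjective y
  obtain ⟨g, hg, hgx⟩ := hsup x
  set w : X := g * x with hw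
  have hwx : (w : X ⧸ N) = (x : X ⧸ N) := by
    rw [hw, QuotientGroup.mk_mul, (QuotientGroup.eq_one_iff g).2 (hN ▸ mem_sup_left hg), one_mul]
  rw [← hwx] at hy
  -- the `t`-part of `w`
  obtain ⟨m, r, hr, hor⟩ := Nat.exists_eq_pow_mul_and_not_dvd (orderOf_pos w).ne' t ht.ne_one
  set v : X := w ^ r with hv
  have hvt : v ^ t ^ m = 1 := by
    rw [hv, ← pow_mul, mul_comm, ← hor, pow_orderOf_eq_one]
  have hvN : v ∉ N := by
    intro h1
    rw [← QuotientGroup.eq_one_iff, hv, QuotientGroup.mk_pow, ← orderOf_dvd_iff_pow_eq_one, hy] at h1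
    exact hr h1
  have hvs : v ∈ centralizer ({(s : X)} : Set X) := Subgroup.pow_mem _ hgx _
  -- the automorphism induced by `v`
  have hcop : Nat.Coprime (t ^ m) (2 * f) := Nat.Coprime.pow_left _ ((Nat.Prime.coprime_iff_not_dvd ht).2 hnd)
  have hφ : (MulAut.conjNormal v : MulAut S) ^ (t ^ m) = 1 := by
    rw [← map_pow, hvt, map_one]
  have hφs : (MulAut.conjNormal v : MulAut S) s = s := by
    apply Subtype.ext
    rw [MulAut.conjNormal_apply]
    exact mul_inv_eq_iff_eq_mul.2 (mem_centralizer_singleton_iff.1 hvs)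
  obtain ⟨k, hk⟩ := inner hJ hB hna hp hf hF h5 hcop hφ hs hφs (hC s hs)
  apply hvN
  -- `k⁻¹ v` centralizes `S`
  have h1 : (k : X)⁻¹ * v ∈ centralizer (S : Set X) := by
    rw [mem_centralizer_iff]
    intro a ha
    have h3 : ((MulAut.conjNormal v : MulAut S) ⟨a, ha⟩ : X) = k * a * (k : X)⁻¹ := by
      rw [hk]
      rfl
    rw [MulAut.conjNormal_apply] at h3
    have h4 : v * a * v⁻¹ = k * a * (k : X)⁻¹ := h3
    have h5 : v * a = k * a * (k : X)⁻¹ * v := by rw [← h4]; group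
    calc a * ((k : X)⁻¹ * v) = (k : X)⁻¹ * (k * a * (k : X)⁻¹ * v) := by group
      _ = (k : X)⁻¹ * (v * a) := by rw [h5]
      _ = (k : X)⁻¹ * v * a := by group
  have h2 : v = k * ((k : X)⁻¹ * v) := by group
  rw [h2]
  exact Subgroup.mul_mem _ (mem_sup_left k.2) (mem_sup_right h1)

end Normal

/-! ### Ree groups -/

section Ree

variable {K : Type} [Field K] [Fintype K] {m : ℕ}

/-- the facts for the Ree groups -/
theorem ree_facts (hm : 1 ≤ m) (hK : Fintype.card K = 3 ^ (2 * m + 1)) :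
    IsSimpleGroup ↥(Cfsg.Lie.twistedG2 K (3 ^ m)) ∧ (∃ a b : ↥(Cfsg.Lie.twistedG2 K (3 ^ m)), a * b ≠ b * a) ∧
      IsJR ↥(Cfsg.Lie.twistedG2 K (3 ^ m)) ∧ 5 ≤ Fintype.card K ∧
      (∀ s t : ↥(Cfsg.Lie.twistedG2 K (3 ^ m)), orderOf s = 2 → orderOf t = 2 → ∃ g, g * s * g⁻¹ = t) ∧
      ∀ t : ↥(Cfsg.Lie.twistedG2 K (3 ^ m)), orderOf t = 2 →
        Nonempty (centralizer ({t} : Set ↥(Cfsg.Lie.twistedG2 K (3 ^ m))) ≃*
          Multiplicative (ZMod 2) × Matrix.ProjectiveSpecialLinearGroup (Fin 2) K) := by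
  have h2 : Fact (Nat.Prime 2) := ⟨Nat.prime_two⟩
  obtain ⟨hsimp, hc⟩ := Cfsg.Agent.S1073.result hm hK
  have hna : ∃ a b : ↥(Cfsg.Lie.twistedG2 K (3 ^ m)), a * b ≠ b * a := by
    by_contra hcon
    push Not at hcon
    exact hc ⟨⟨hcon⟩⟩
  obtain ⟨a, haH, ha1, ha2⟩ := Cfsg.Agent.S1157.exists_involution hK
  obtain ⟨⟨e⟩, hS⟩ := Cfsg.Agent.S1152.result hK a haH ha1 ha2
  have hao : orderOf a = 2 := orderOf_eq_prime (by rw [sq, ha2]) ha1
  have hq8 := Cfsg.Agent.CpAutRee.Ree.pow_mod_eight m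
  have hq27 : 27 ≤ 3 ^ (2 * m + 1) := by
    calc 27 = 3 ^ 3 := by norm_num
      _ ≤ 3 ^ (2 * m + 1) := Nat.pow_le_pow_right (by norm_num) (by omega)
  have hcen : ∀ t : ↥(Cfsg.Lie.twistedG2 K (3 ^ m)), orderOf t = 2 →
        Nonempty (centralizer ({t} : Set ↥(Cfsg.Lie.twistedG2 K (3 ^ m))) ≃*
          Multiplicative (ZMod 2) × Matrix.ProjectiveSpecialLinearGroup (Fin 2) K) := by
    intro t ht
    obtain ⟨g, rfl⟩ := Cfsg.Agent.CpAutRee.Ree.exists_conj hna hS hao ht
    obtain ⟨f⟩ := Cfsg.Agent.CpAutRee.Ree.cent_conj a g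
    exact ⟨f.symm.trans e⟩
  have hJ : IsJR ↥(Cfsg.Lie.twistedG2 K (3 ^ m)) :=
    ⟨⟨default, hS default⟩, K, inferInstance, inferInstance, Or.inl (by rw [hK, hq8]), by rw [hK]; omega, hcen⟩
  exact ⟨hsimp, hna, hJ, by rw [hK]; omega, fun s t hs ht => Cfsg.Agent.CpAutRee.Ree.exists_conj hna hS hs ht, hcen⟩

variable {X : Type*} [Group X] [Finite X] (S : Subgroup X) [S.Normal]

/-- the primes dividing `|X : S C(S)|`, `S` a normal Ree group -/
theorem ree_dvd (hm : 1 ≤ m) (hK : Fintype.card K = 3 ^ (2 * m + 1))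
    (e : S ≃* ↥(Cfsg.Lie.twistedG2 K (3 ^ m))) (hB : AutFacts.Bender S)
    {t : ℕ} (ht : t.Prime) (hd : t ∣ (S ⊔ centralizer (S : Set X)).index) : t ∣ 2 * (2 * m + 1) := by
  obtain ⟨hsimp, ⟨a, b, hab⟩, hJ, h5, hconj, hcen⟩ := ree_facts hm hK
  have hS : IsSimpleGroup S := (MulEquiv.isSimpleGroup_congr e).2 hsimp
  have hna : ∃ a b : S, a * b ≠ b * a := by
    refine ⟨e.symm a, e.symm b, fun h => hab ?_⟩
    have := congrArg e h
    rwa [map_mul, map_mul, e.apply_symm_apply, e.apply_symm_apply] at this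
  have ho : ∀ s : S, orderOf (e s) = orderOf s := fun s => MulEquiv.orderOf_eq e s
  refine dvd_of_dvd_index S (hJ.congr e.symm) hB hna Nat.prime_three (by omega) hK h5 ?_ ?_ ht hd
  · intro s hs
    obtain ⟨g⟩ := centralizer_congr e s
    obtain ⟨f⟩ := hcen (e s) (by rw [ho, hs])
    exact ⟨g.trans f⟩
  · intro s t hs ht
    obtain ⟨g, hg⟩ := hconj (e s) (e t) (by rw [ho, hs]) (by rw [ho, ht])
    refine ⟨e.symm g, ?_⟩
    apply e.injective
    rw [map_mul, map_mul, map_inv, e.apply_symm_apply]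
    exact hg

end Ree

end Cfsg.Agent.H412.ReeOut
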