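import Cfsg.Agent.Walter.AbStruct
import Cfsg.Agent.H395.Coclique
import Cfsg.Agent.S0205

/-!
# Cocliques of the prime graph and components (helper412)

If `X` has no nontrivial solvable normal subgroup and abelian Sylow 2-subgroups, and `s 0, s 1, s 2` are
pairwise non-adjacent primes dividing `|X|`, then some normal component has order divisible by two of them.
-/

set_option autoImplicit false

namespace Cfsg.Agent.H412.CoComp

open Subgroup Cfsg
open Cfsg.Agent.SignalizersComponents
open Cfsg.Agent.SignalizersComponents.Components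
open Cfsg.Agent.Walter

variable {X : Type*} [Group X] [Finite X]

/-- a prime dividing the order of the join of normal subgroups divides one of the orders -/
theorem dvd_card_iSup {Y ι : Type*} [Group Y] [Finite Y] (T : Finset ι) (K : ι → Subgroup Y)
    (hK : ∀ i, (K i).Normal) {s : ℕ} (hs : s.Prime) (h : s ∣ Nat.card (⨆ i ∈ T, K i : Subgroup Y)) :
    ∃ i ∈ T, s ∣ Nat.card (K i) := by
  classical
  induction T using Finset.induction_on with
  | empty =>
    simp only [Finset.notMem_empty, iSup_false, iSup_bot, Subgroup.card_bot, Nat.dvd_one] at h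
    exact absurd h hs.one_lt.ne'
  | insert i T hi ih =>
    rw [Finset.iSup_insert] at h
    have hn := hK i
    have h1 := h.trans (Lib.Cores.card_sup_dvd (K i) (⨆ x ∈ T, K x) hn)
    rcases (Nat.Prime.dvd_mul hs).1 h1 with h2 | h2
    · exact ⟨i, Finset.mem_insert_self _ _, h2⟩
    · obtain ⟨j, hj, hd⟩ := ih h2
      exact ⟨j, Finset.mem_insert_of_mem hj, hd⟩

/-- a prime dividing `|E(X)|` divides the order of a component -/
theorem exists_component {s : ℕ} (hs : s.Prime) (h : s ∣ Nat.card (layer X)) :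
    ∃ K : Subgroup X, IsComponent K ∧ s ∣ Nat.card K := by
  classical
  have : Finite {K : Subgroup X // IsComponent K} := inferInstance
  have := Fintype.ofFinite {K : Subgroup X // IsComponent K}
  let K : {K : Subgroup X // IsComponent K} → Subgroup (layer X) := fun K => K.1.subgroupOf (layer X)
  have hK : ∀ i, (K i).Normal := fun i => component_normal_in_layer i.2
  have htop : (⨆ i ∈ (Finset.univ : Finset {K : Subgroup X // IsComponent K}), K i) = ⊤ := by
    simp only [Finset.mem_univ, iSup_pos]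
    apply Subgroup.map_injective (layer X).subtype_injective
    rw [Subgroup.map_iSup, ← MonoidHom.range_eq_map, Subgroup.range_subtype]
    have h1 : ∀ i, (K i).map (layer X).subtype = i.1 := by
      intro i
      rw [Subgroup.subgroupOf_map_subtype, inf_eq_left]
      exact component_le_layer i.2
    rw [iSup_congr h1]
    unfold layer
    rw [sSup_eq_iSup']
    rfl
  have h2 : s ∣ Nat.card (⨆ i ∈ (Finset.univ : Finset {K : Subgroup X // IsComponent K}), K i : Subgroup (layer X)) := by
    rw [htop, Subgroup.card_top]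
    exact h
  obtain ⟨i, -, hi⟩ := dvd_card_iSup Finset.univ K hK hs h2
  refine ⟨i.1, i.2, ?_⟩
  rwa [Nat.card_congr (subgroupOfEquivOfLe (component_le_layer i.2)).toEquiv] at hi

/-- elements of orders `s`, `t` in commuting subgroups -/
theorem adj {H L : Subgroup X} (hc : ∀ a ∈ H, ∀ b ∈ L, a * b = b * a) {s t : ℕ} (hs : s.Prime) (ht : t.Prime)
    (hst : s ≠ t) (h1 : s ∣ Nat.card H) (h2 : t ∣ Nat.card L) : ∃ x : X, orderOf x = s * t := by
  have := Fact.mk hs
  have := Fact.mk ht
  obtain ⟨a, ha⟩ := exists_prime_orderOf_dvd_card' s h1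
  obtain ⟨b, hb⟩ := exists_prime_orderOf_dvd_card' t h2
  exact H395.Coclique.exists_mul_of_commute hs ht hst (by rwa [Subgroup.orderOf_coe]) (by rwa [Subgroup.orderOf_coe])
    (hc a a.2 b b.2)

omit [Finite X] in
theorem comm_of_component {K L : Subgroup X} (hK : IsComponent K) (hL : IsComponent L) (h : K ≠ L) :
    ∀ a ∈ K, ∀ b ∈ L, a * b = b * a := by
  have h1 := component_le_centralizer_of_ne hK hL h
  intro a ha b hb
  exact (mem_centralizer_iff.1 (h1 ha) b hb).symm

/-- two non-adjacent primes dividing `|E(X)|` divide the order of the same component, which is normal -/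
theorem exists_normal_component {s t : ℕ} (hs : s.Prime) (ht : t.Prime) (hst : s ≠ t)
    (hn : ¬ ∃ x : X, orderOf x = s * t) (h1 : s ∣ Nat.card (layer X)) (h2 : t ∣ Nat.card (layer X)) :
    ∃ K : Subgroup X, IsComponent K ∧ K.Normal ∧ s ∣ Nat.card K ∧ t ∣ Nat.card K := by
  obtain ⟨K, hK, hsK⟩ := exists_component hs h1
  obtain ⟨L, hL, htL⟩ := exists_component ht h2
  obtain rfl : K = L := by
    by_contra hne
    exact hn (adj (comm_of_component hK hL hne) hs ht hst hsK htL)
  refine ⟨K, hK, ?_, hsK, htL⟩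
  refine ⟨fun a ha g => ?_⟩
  have hL' : IsComponent (K.map (MulAut.conj g).toMonoidHom) := isComponent_conj g hK
  have heq : K = K.map (MulAut.conj g).toMonoidHom := by
    by_contra hne
    apply hn
    refine adj (comm_of_component hK hL' hne) hs ht hst hsK ?_
    have hc : Nat.card (K.map (MulAut.conj g).toMonoidHom) = Nat.card K :=
      Nat.card_congr (K.equivMapOfInjective (MulAut.conj g).toMonoidHom (MulAut.conj g).injective).symm.toEquiv
    rw [hc]
    exact htL
  rw [heq]
  exact ⟨a, ha, rfl⟩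

/-- the order of an element of a quotient is an element order -/
theorem exists_lift {N : Subgroup X} [N.Normal] {n : ℕ} (h : ∃ x : X ⧸ N, orderOf x = n) : ∃ x : X, orderOf x = n := by
  obtain ⟨x, rfl⟩ := h
  obtain ⟨y, rfl⟩ := QuotientGroup.mk_surjective x
  obtain ⟨k, hk⟩ : orderOf (y : X ⧸ N) ∣ orderOf y := orderOf_map_dvd (QuotientGroup.mk' N) y
  have h0 : orderOf y ≠ 0 := (orderOf_pos y).ne'
  refine ⟨y ^ k, ?_⟩
  have hk0 : k ≠ 0 := by
    rintro rfl
    rw [mul_zero] at hk
    exact h0 hk
  rw [orderOf_pow' y hk0, hk, Nat.gcd_eq_right (Dvd.intro_left _ rfl)]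
  exact Nat.mul_div_cancel _ (Nat.pos_of_ne_zero hk0)

/-- Modulo a normal subgroup `E` with solvable quotient at most one of three pairwise non-adjacent primes
does not divide `|E|`. -/
theorem two_dvd (E : Subgroup X) [E.Normal] (hE : Group.IsSolvable (X ⧸ E)) {r s t : ℕ} (hr : r.Prime)
    (hs : s.Prime) (ht : t.Prime) (hrs : r ≠ s) (hrt : r ≠ t) (hst : s ≠ t)
    (h1 : ¬ ∃ x : X, orderOf x = r * s) (h2 : ¬ ∃ x : X, orderOf x = r * t)
    (h3 : ¬ ∃ x : X, orderOf x = s * t) (hrX : r ∣ Nat.card X) (hsX : s ∣ Nat.card X) (htX : t ∣ Nat.card X)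
    (hrE : ¬ r ∣ Nat.card E) (hsE : ¬ s ∣ Nat.card E) : False := by
  have hidx : ∀ {n : ℕ}, n.Prime → n ∣ Nat.card X → ¬ n ∣ Nat.card E → n ∣ Nat.card (X ⧸ E) := by
    intro n hn hX hE'
    have h4 := Subgroup.card_mul_index E
    rw [← h4] at hX
    rcases (Nat.Prime.dvd_mul hn).1 hX with h5 | h5
    · exact absurd h5 hE'
    · exact h5
  have hr' := hidx hr hrX hrE
  have hs' := hidx hs hsX hsE
  have htop : Group.IsSolvable (⊤ : Subgroup (X ⧸ E)) :=
    Group.isSolvable_of_surjective (f := (Subgroup.topEquiv (G := X ⧸ E)).symm.toMonoidHom)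
      (Subgroup.topEquiv (G := X ⧸ E)).symm.surjective
  by_cases htE : t ∣ Nat.card E
  · -- a normal subgroup of the quotient with order divisible by exactly one of `r`, `s`
    obtain ⟨M, hM, -, hd⟩ := H395.Coclique.exists_sep hr hs hrs _ (⊤ : Subgroup (X ⧸ E)) inferInstance htop rfl
      (Or.inl (by rwa [Subgroup.card_top]))
    have key : ∀ {a b : ℕ}, a.Prime → b.Prime → b ∣ Nat.card (X ⧸ E) → a ∣ Nat.card M → ¬ b ∣ Nat.card M →
        a ∣ E.relIndex (M.comap (QuotientGroup.mk' E)) ∧ b ∣ (M.comap (QuotientGroup.mk' E)).index := by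
      intro a b ha hb hbX haM hbM
      constructor
      · have h5 : E.relIndex (M.comap (QuotientGroup.mk' E)) = Nat.card M := by
          have h6 := Subgroup.relIndex_ker (M.comap (QuotientGroup.mk' E)) (QuotientGroup.mk' E)
          rw [QuotientGroup.ker_mk', Subgroup.map_comap_eq_self_of_surjective (QuotientGroup.mk'_surjective E)] at h6
          exact h6
        rw [h5]
        exact haM
      · rw [Subgroup.index_comap_of_surjective _ (QuotientGroup.mk'_surjective E)]
        have h5 := Subgroup.card_mul_index M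
        rw [← h5] at hbX
        exact ((Nat.Prime.dvd_mul hb).1 hbX).resolve_left hbM
    have hMn : (M.comap (QuotientGroup.mk' E)).Normal := hM.comap _
    have hEM : E ≤ M.comap (QuotientGroup.mk' E) := by
      intro e he
      rw [Subgroup.mem_comap, QuotientGroup.mk'_apply, (QuotientGroup.eq_one_iff e).2 he]
      exact M.one_mem
    rcases hd with ⟨h5, h6⟩ | ⟨h5, h6⟩
    · obtain ⟨h7, h8⟩ := key hr hs hs' h5 h6
      rcases H395.Coclique.main' E (M.comap (QuotientGroup.mk' E)) hEM t r s ht hr hs hrt.symm hst.symm hrs htE h7 h8 with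
        h9 | h9 | h9
      · rw [mul_comm] at h9
        exact h2 h9
      · rw [mul_comm] at h9
        exact h3 h9
      · exact h1 h9
    · obtain ⟨h7, h8⟩ := key hs hr hr' h5 h6
      rcases H395.Coclique.main' E (M.comap (QuotientGroup.mk' E)) hEM t s r ht hs hr hst.symm hrt.symm hrs.symm htE h7 h8 with
        h9 | h9 | h9
      · rw [mul_comm] at h9
        exact h3 h9
      · rw [mul_comm] at h9
        exact h2 h9
      · rw [mul_comm] at h9
        exact h1 h9
  · have ht' := hidx ht htX htE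
    refine H395.Coclique.coclique hr hs ht hrs hrt hst (fun h => h1 (exists_lift h)) (fun h => h2 (exists_lift h))
      (fun h => h3 (exists_lift h)) ⊤ htop ?_ ?_ ht'
    · rwa [Subgroup.card_top]
    · rwa [Subgroup.card_top]

/-- **The main result of this file.** -/
theorem exists_normal (hX : ∀ N : Subgroup X, N.Normal → Group.IsSolvable N → N = ⊥) (S : Sylow 2 X)
    (hS : ∀ a ∈ (S : Subgroup X), ∀ b ∈ (S : Subgroup X), a * b = b * a) {r s t : ℕ} (hr : r.Prime)
    (hs : s.Prime) (ht : t.Prime) (hrs : r ≠ s) (hrt : r ≠ t) (hst : s ≠ t)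
    (h1 : ¬ ∃ x : X, orderOf x = r * s) (h2 : ¬ ∃ x : X, orderOf x = r * t)
    (h3 : ¬ ∃ x : X, orderOf x = s * t) (hrX : r ∣ Nat.card X) (hsX : s ∣ Nat.card X) (htX : t ∣ Nat.card X) :
    pPrimeCore 2 X = ⊥ ∧ ∃ K : Subgroup X, IsComponent K ∧ K.Normal ∧
      ((r ∣ Nat.card K ∧ s ∣ Nat.card K) ∨ (r ∣ Nat.card K ∧ t ∣ Nat.card K) ∨
        (s ∣ Nat.card K ∧ t ∣ Nat.card K)) := by
  have hO : pPrimeCore 2 X = ⊥ := by
    apply hX _ (Lib.Cores.pPrimeCore_normal (G := X) 2)
    apply Cfsg.Agent.S0205.result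
    rw [← Nat.coprime_two_right]
    exact Lib.Cores.pPrimeCore_coprime 2
  refine ⟨hO, ?_⟩
  have hO2 : pCore 2 X = ⊥ := by
    apply hX _ (Lib.Cores.pCore_normal (G := X) 2)
    have h4 : Group.IsNilpotent (pCore 2 X) := Lib.Cores.pCore_isNilpotent 2
    infer_instance
  have hodd := AbStruct.odd_index (S := S) hO hS
  have hE : generalizedFittingSubgroup X = layer X := by
    rw [AbStruct.genFitting_eq hO, hO2, bot_sup_eq]
  rw [hE] at hodd
  have hn : (layer X).Normal := layer_normal X
  have hsol : Group.IsSolvable (X ⧸ layer X) := Cfsg.Agent.S0205.result hodd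
  by_cases hrE : r ∣ Nat.card (layer X)
  · by_cases hsE : s ∣ Nat.card (layer X)
    · obtain ⟨K, hK, hKn, a, b⟩ := exists_normal_component hr hs hrs h1 hrE hsE
      exact ⟨K, hK, hKn, Or.inl ⟨a, b⟩⟩
    · by_cases htE : t ∣ Nat.card (layer X)
      · obtain ⟨K, hK, hKn, a, b⟩ := exists_normal_component hr ht hrt h2 hrE htE
        exact ⟨K, hK, hKn, Or.inr (Or.inl ⟨a, b⟩)⟩
      · exfalso
        refine two_dvd (layer X) hsol hs ht hr hst hrs.symm hrt.symm h3 ?_ ?_ hsX htX hrX hsE htE
        · rwa [mul_comm]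
        · rwa [mul_comm]
  · have hsE : s ∣ Nat.card (layer X) := by
      by_contra hsE
      exact two_dvd (layer X) hsol hr hs ht hrs hrt hst h1 h2 h3 hrX hsX htX hrE hsE
    have htE : t ∣ Nat.card (layer X) := by
      by_contra htE
      refine two_dvd (layer X) hsol hr ht hs hrt hrs hst.symm h2 h1 ?_ hrX htX hsX hrE htE
      rwa [mul_comm]
    obtain ⟨K, hK, hKn, a, b⟩ := exists_normal_component hs ht hst h3 hsE htE
    exact ⟨K, hK, hKn, Or.inr (Or.inr ⟨a, b⟩)⟩

end Cfsg.Agent.H412.CoComp
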