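import Cfsg.Agent.H412.ReeArith

/-!
# Element orders of products of small Ree groups: fast growing sequences of primes (helper412)
-/

set_option autoImplicit false

namespace Cfsg.Agent.H412.ReeSeq

open Cfsg.Agent.H412.ReeArith

/-- a bound for the element orders of the product of the first `k` groups -/
def Bd (P : ℕ → ℕ) (k : ℕ) : ℕ := ∏ l ∈ Finset.range k, 2 * 3 ^ P l

/-- the set of element orders of the product of the first `k` groups -/
def Om (P : ℕ → ℕ) (k n : ℕ) : Prop :=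
  ∃ f : ℕ → ℕ, (∀ l < k, Om1 (P l) (f l)) ∧ n ∣ (Finset.range k).lcm f

/-- fast growing sequences of primes -/
structure Good (P : ℕ → ℕ) : Prop where
  prime : ∀ i, (P i).Prime
  growth : ∀ k, 10 ^ 6 * Bd P k ≤ P k

theorem Bd_zero (P : ℕ → ℕ) : Bd P 0 = 1 := rfl

theorem Bd_succ (P : ℕ → ℕ) (k : ℕ) : Bd P (k + 1) = Bd P k * (2 * 3 ^ P k) :=
  Finset.prod_range_succ _ _

theorem Bd_pos (P : ℕ → ℕ) (k : ℕ) : 0 < Bd P k := by
  apply Finset.prod_pos
  intro l _
  positivity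

/-- a prime at least `n` -/
noncomputable def np (n : ℕ) : ℕ := Classical.choose (Nat.exists_infinite_primes n)

theorem np_le (n : ℕ) : n ≤ np n := (Classical.choose_spec (Nat.exists_infinite_primes n)).1

theorem np_prime (n : ℕ) : (np n).Prime := (Classical.choose_spec (Nat.exists_infinite_primes n)).2

/-- the bounds -/
noncomputable def T : ℕ → ℕ
  | 0 => 1
  | k + 1 => T k * (2 * 3 ^ np (10 ^ 6 * T k))

/-- the sequence of primes -/
noncomputable def P0 (k : ℕ) : ℕ := np (10 ^ 6 * T k)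

theorem Bd_P0 (k : ℕ) : Bd P0 k = T k := by
  induction k with
  | zero => rfl
  | succ k ih =>
    rw [Bd_succ, ih]
    rfl

theorem good_P0 : Good P0 where
  prime i := np_prime _
  growth k := by
    rw [Bd_P0]
    exact np_le _

variable {P : ℕ → ℕ}

namespace Good

theorem ge (h : Good P) (k : ℕ) : 10 ^ 6 ≤ P k := by
  have h1 := h.growth k
  have h2 := Bd_pos P k
  nlinarith

theorem ge17 (h : Good P) (k : ℕ) : 17 ≤ P k := le_trans (by norm_num) (h.ge k)

theorem odd (h : Good P) (k : ℕ) : Odd (P k) := odd_of_prime (h.prime k) (le_trans (by norm_num) (h.ge k))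

theorem three_pow_lt (h : Good P) {l k : ℕ} (hlk : l < k) : 2 * 3 ^ P l < P k := by
  have h1 := h.growth k
  have h2 : 2 * 3 ^ P l ≤ Bd P k := by
    unfold Bd
    exact Finset.single_le_prod' (f := fun l => 2 * 3 ^ P l) (fun i _ => by
      have : 0 < 3 ^ P i := by positivity
      omega) (Finset.mem_range.2 hlk)
  have h3 := Bd_pos P k
  omega

theorem strictMono (h : Good P) : StrictMono P := by
  apply strictMono_nat_of_lt_succ
  intro k
  have h1 := h.three_pow_lt (Nat.lt_succ_self k)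
  have h2 : P k < 3 ^ P k := Nat.lt_pow_self (by norm_num)
  have h3 : k.succ = k + 1 := rfl
  rw [h3] at h1
  omega

theorem injective (h : Good P) : Function.Injective P := h.strictMono.injective

end Good

/-- the exponential growth -/
theorem mul_pow_lt {x : ℕ} (hx : 10 ≤ x) : x * 3 ^ x < 4 ^ x := by
  induction x, hx using Nat.le_induction with
  | base => norm_num
  | succ n hn ih =>
    rw [pow_succ, pow_succ]
    have h1 : (n + 1) * 3 ≤ n * 4 := by omega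
    calc (n + 1) * (3 ^ n * 3) = ((n + 1) * 3) * 3 ^ n := by ring
      _ ≤ (n * 4) * 3 ^ n := Nat.mul_le_mul_right _ h1
      _ = (n * 3 ^ n) * 4 := by ring
      _ < 4 ^ n * 4 := by
        apply Nat.mul_lt_mul_of_pos_right ih (by norm_num)

theorem Good.exp (h : Good P) (k : ℕ) : 10 ^ 6 * Bd P k * 3 ^ P k < 4 ^ P k :=
  lt_of_le_of_lt (Nat.mul_le_mul_right _ (h.growth k)) (mul_pow_lt (le_trans (by norm_num) (h.ge k)))

theorem Good.lt_three (h : Good P) (k : ℕ) : 10 ^ 6 * Bd P k < 3 ^ P k :=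
  lt_of_le_of_lt (h.growth k) (Nat.lt_pow_self (by norm_num))

/-! ### The set `Om` -/

theorem Om1_ne_zero {p d : ℕ} (hp : Odd p) (h5 : 5 ≤ p) (h : Om1 p d) : d ≠ 0 := by
  rintro rfl
  rcases h with h | h | ⟨j, h⟩
  · rw [zero_dvd_iff] at h
    omega
  · rw [zero_dvd_iff] at h
    omega
  · rw [zero_dvd_iff] at h
    have := A_pos hp h5 j
    omega

theorem Om1_le {p d : ℕ} (hp : Odd p) (h5 : 5 ≤ p) (h : Om1 p d) : d ≤ 2 * 3 ^ p := by
  have h1 : 3 ^ 5 ≤ 3 ^ p := Nat.pow_le_pow_right (by norm_num) h5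
  norm_num at h1
  rcases h with h | h | ⟨j, h⟩
  · have := Nat.le_of_dvd (by norm_num) h
    omega
  · have := Nat.le_of_dvd (by norm_num) h
    omega
  · have h2 := Nat.le_of_dvd (by have := A_pos hp h5 j; omega) h
    exact h2.trans (A_le hp h5 j)

theorem Om1_of_dvd {p d e : ℕ} (h : Om1 p d) (he : e ∣ d) : Om1 p e := by
  rcases h with h | h | ⟨j, h⟩
  · exact Or.inl (he.trans h)
  · exact Or.inr (Or.inl (he.trans h))
  · exact Or.inr (Or.inr ⟨j, he.trans h⟩)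

theorem Om1_one (p : ℕ) : Om1 p 1 := Or.inl (one_dvd _)

theorem Om_of_dvd {k n m : ℕ} (h : Om P k n) (hm : m ∣ n) : Om P k m := by
  obtain ⟨f, h1, h2⟩ := h
  exact ⟨f, h1, hm.trans h2⟩

theorem lcm_ne_zero {k : ℕ} {f : ℕ → ℕ} (h : ∀ l < k, f l ≠ 0) : (Finset.range k).lcm f ≠ 0 := by
  intro h0
  rw [Finset.lcm_eq_zero_iff] at h0
  obtain ⟨l, hl, hl0⟩ := h0
  exact h l (Finset.mem_range.1 hl) hl0

theorem Om_ne_zero (hP : Good P) {k n : ℕ} (h : Om P k n) : n ≠ 0 := by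
  obtain ⟨f, h1, h2⟩ := h
  rintro rfl
  rw [zero_dvd_iff] at h2
  exact lcm_ne_zero (fun l hl => Om1_ne_zero (hP.odd l) (le_trans (by norm_num) (hP.ge l)) (h1 l hl)) h2

theorem Om_zero {n : ℕ} (h : Om P 0 n) : n = 1 := by
  obtain ⟨f, -, h2⟩ := h
  rw [Finset.range_zero, Finset.lcm_empty] at h2
  exact Nat.dvd_one.1 h2

theorem pow_dvd_lcm {s e m n : ℕ} (hs : s.Prime) (h : s ^ e ∣ Nat.lcm m n) : s ^ e ∣ m ∨ s ^ e ∣ n := by
  rcases Nat.eq_zero_or_pos m with rfl | hm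
  · exact Or.inl (dvd_zero _)
  rcases Nat.eq_zero_or_pos n with rfl | hn
  · exact Or.inr (dvd_zero _)
  rw [hs.pow_dvd_iff_le_factorization (Nat.lcm_ne_zero hm.ne' hn.ne'), Nat.factorization_lcm hm.ne' hn.ne',
    Finsupp.sup_apply, le_sup_iff] at h
  rwa [hs.pow_dvd_iff_le_factorization hm.ne', hs.pow_dvd_iff_le_factorization hn.ne']

theorem prime_dvd_lcm {s k : ℕ} (hs : s.Prime) {e : ℕ} {f : ℕ → ℕ} (h : s ^ e ∣ (Finset.range k).lcm f)
    (he : e ≠ 0) : ∃ l < k, s ^ e ∣ f l := by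
  classical
  induction k with
  | zero =>
    rw [Finset.range_zero, Finset.lcm_empty] at h
    have := Nat.dvd_one.1 h
    rw [Nat.pow_eq_one] at this
    rcases this with h1 | h1
    · exact absurd h1 hs.one_lt.ne'
    · exact absurd h1 he
  | succ k ih =>
    rw [Finset.range_add_one, Finset.lcm_insert] at h
    rcases pow_dvd_lcm hs h with h1 | h1
    · exact ⟨k, Nat.lt_succ_self k, h1⟩
    · obtain ⟨l, hl, hd⟩ := ih h1
      exact ⟨l, by omega, hd⟩

theorem prime_dvd_lcm' {s k : ℕ} (hs : s.Prime) {f : ℕ → ℕ} (h : s ∣ (Finset.range k).lcm f) :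
    ∃ l < k, s ∣ f l := by
  have h1 : s ^ 1 ∣ (Finset.range k).lcm f := by rwa [pow_one]
  obtain ⟨l, hl, hd⟩ := prime_dvd_lcm hs h1 one_ne_zero
  exact ⟨l, hl, by rwa [pow_one] at hd⟩

/-- a large prime `s ∈ B l j` dividing the lcm divides `f l`, and `f l ∣ A l j` -/
theorem large (hP : Good P) {k l : ℕ} {j : Fin 4} {s : ℕ} (hs : B (P l) j s) {f : ℕ → ℕ}
    (hf : ∀ l < k, Om1 (P l) (f l)) (h : s ∣ (Finset.range k).lcm f) :
    l < k ∧ s ∣ f l ∧ f l ∣ A (P l) j := by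
  obtain ⟨l', hl', hd⟩ := prime_dvd_lcm' hs.1 h
  by_cases hne : l = l'
  · subst hne
    exact ⟨hl', hd, dvd_torus (hP.odd l) (le_trans (by norm_num) (hP.ge l)) hs (hf l hl') hd⟩
  · exact absurd hd (not_dvd_of_ne' (hP.prime l) (hP.ge17 l) hs (hP.prime l') (hP.ge17 l')
      (fun h => hne (hP.injective h)) (hf l' hl'))

/-- two large primes for the same group but different tori are not adjacent -/
theorem not_adj (hP : Good P) {k l : ℕ} {i j : Fin 4} (hij : i ≠ j) {s t : ℕ} (hs : B (P l) i s)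
    (ht : B (P l) j t) {n : ℕ} (hn : Om P k n) (h1 : s ∣ n) (h2 : t ∣ n) : False := by
  obtain ⟨f, hf, hd⟩ := hn
  obtain ⟨-, -, h3⟩ := large hP hs hf (h1.trans hd)
  obtain ⟨-, h4, -⟩ := large hP ht hf (h2.trans hd)
  exact hij (coprime_torus ht.1 ht.2.1 (hP.odd l) (le_trans (by norm_num) (hP.ge l)) (h4.trans h3) ht.2.2.2.2)

/-- the size bound -/
theorem Om_le (hP : Good P) {k n : ℕ} (h : Om P k n) : n ≤ Bd P k := by
  obtain ⟨f, hf, hd⟩ := h
  have h0 : (Finset.range k).lcm f ≠ 0 :=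
    lcm_ne_zero (fun l hl => Om1_ne_zero (hP.odd l) (le_trans (by norm_num) (hP.ge l)) (hf l hl))
  have h1 : (Finset.range k).lcm f ∣ ∏ l ∈ Finset.range k, f l := Finset.lcm_dvd_prod _ _
  have h2 : ∏ l ∈ Finset.range k, f l ≤ Bd P k :=
    Finset.prod_le_prod' (fun l hl => Om1_le (hP.odd l) (le_trans (by norm_num) (hP.ge l))
      (hf l (Finset.mem_range.1 hl)))
  have h3 : 0 < ∏ l ∈ Finset.range k, f l := by
    apply Finset.prod_pos
    intro l hl
    exact Nat.pos_of_ne_zero (Om1_ne_zero (hP.odd l) (le_trans (by norm_num) (hP.ge l))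
      (hf l (Finset.mem_range.1 hl)))
  exact (Nat.le_of_dvd h3 (hd.trans h1)).trans h2

/-- no elements of order 4 -/
theorem not_four (hP : Good P) {k n : ℕ} (h : Om P k n) : ¬ 4 ∣ n := by
  intro h4
  obtain ⟨f, hf, hd⟩ := h
  have h1 : 2 ^ 2 ∣ (Finset.range k).lcm f := by
    refine Dvd.dvd.trans ?_ (h4.trans hd)
    norm_num
  obtain ⟨l, hl, h2⟩ := prime_dvd_lcm Nat.prime_two h1 (by norm_num)
  rcases hf l hl with h3 | h3 | ⟨j, h3⟩
  · have := h2.trans h3
    omega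
  · have := h2.trans h3
    omega
  · exact four_not_dvd (hP.odd l) (le_trans (by norm_num) (hP.ge l)) j (by
      have := h2.trans h3
      norm_num at this
      exact this)

/-- `p_k` does not divide an element order -/
theorem not_self (hP : Good P) {k n : ℕ} (h : Om P (k + 1) n) : ¬ P k ∣ n := by
  intro hd'
  obtain ⟨f, hf, hd⟩ := h
  obtain ⟨l, hl, h1⟩ := prime_dvd_lcm' (hP.prime k) (hd'.trans hd)
  have hk := hP.ge k
  have h10 : (10 : ℕ) ^ 6 = 1000000 := by norm_num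
  rcases hf l hl with h3 | h3 | ⟨j, h3⟩
  · have := Nat.le_of_dvd (by norm_num) (h1.trans h3)
    omega
  · have := Nat.le_of_dvd (by norm_num) (h1.trans h3)
    omega
  · have h4 := h1.trans h3
    rcases Nat.lt_succ_iff_lt_or_eq.1 hl with h5 | h5
    · have h6 := hP.three_pow_lt h5
      have h7 := A_le (hP.odd l) (le_trans (by norm_num) (hP.ge l)) j
      have h8 := A_pos (hP.odd l) (le_trans (by norm_num) (hP.ge l)) j
      have h9 := Nat.le_of_dvd (by omega) h4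
      omega
    · subst h5
      exact self_not_dvd (hP.prime l) (hP.ge17 l) j h4

/-- restriction: peeling off the last factor -/
theorem Om_restrict (hP : Good P) {k n : ℕ} (h : ∀ j : Fin 4, ∀ s, B (P k) j s → Om P (k + 1) (Nat.lcm n s)) :
    Om P k n := by
  -- no large prime divides `n`
  have h1 : ∀ j : Fin 4, ∀ s, B (P k) j s → ¬ s ∣ n := by
    intro j s hs hsn
    obtain ⟨i, hij⟩ : ∃ i : Fin 4, i ≠ j := exists_ne j
    obtain ⟨t, ht⟩ := exists_B (hP.prime k) (hP.ge17 k) i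
    exact not_adj hP hij ht hs (h i t ht) (Nat.dvd_lcm_right _ _) (hsn.trans (Nat.dvd_lcm_left _ _))
  -- choose the torus without 7
  obtain ⟨j, hj7, hj2⟩ : ∃ j : Fin 4, ¬ 7 ∣ A (P k) j ∧ A (P k) j % 2 = 1 := by
    by_cases h7 : 7 ∣ A (P k) 2
    · refine ⟨3, ?_, odd_three (hP.odd k) (le_trans (by norm_num) (hP.ge k))⟩
      intro h7'
      have := coprime_torus (by norm_num : Nat.Prime 7) (by norm_num) (hP.odd k) (le_trans (by norm_num) (hP.ge k)) h7 h7'
      revert this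
      decide
    · exact ⟨2, h7, odd_two (hP.odd k) (le_trans (by norm_num) (hP.ge k))⟩
  obtain ⟨s, hs⟩ := exists_B (hP.prime k) (hP.ge17 k) j
  obtain ⟨f, hf, hd⟩ := h j s hs
  obtain ⟨-, -, h2⟩ := large hP hs hf ((Nat.dvd_lcm_right n s).trans hd)
  refine ⟨f, fun l hl => hf l (by omega), ?_⟩
  have h3 : n ∣ Nat.lcm (f k) ((Finset.range k).lcm f) := by
    have := (Nat.dvd_lcm_left n s).trans hd
    rw [Finset.range_add_one, Finset.lcm_insert] at this
    exact this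
  have h4 : Nat.Coprime n (f k) := by
    rw [Nat.coprime_iff_gcd_eq_one]
    by_contra hcon
    obtain ⟨t, ht, htd⟩ := Nat.exists_prime_and_dvd hcon
    have h5 : t ∣ A (P k) j := (htd.trans (Nat.gcd_dvd_right _ _)).trans h2
    refine h1 j t ⟨ht, ?_, ?_, ?_, h5⟩ (htd.trans (Nat.gcd_dvd_left _ _))
    · rintro rfl
      omega
    · rintro rfl
      exact three_not_dvd (hP.odd k) (le_trans (by norm_num) (hP.ge k)) j h5
    · rintro rfl
      exact hj7 h5
  exact h4.dvd_of_dvd_mul_left (h3.trans (Nat.lcm_dvd_mul _ _))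

/-! ### Excluding `PSL(2, u)`, `u` odd -/

/-- the linear form of the torus orders: `E_j A'_j = q + e_j` -/
theorem linear {p : ℕ} (hp : p.Prime) (h17 : 17 ≤ p) (j : Fin 4) : ∃ (E : ℤ) (e r q : ℤ),
    q = 3 ^ p ∧ 3 * q = r ^ 2 ∧ r = 3 ^ ((p + 1) / 2) ∧ 1 ≤ E ∧ E ≤ 7 ∧ E * A' p j = q + e ∧
      ((j = 0 ∧ e = -1) ∨ (j = 1 ∧ e = 1) ∨ (j = 2 ∧ e = 1 - r) ∨ (j = 3 ∧ e = 1 + r)) := by
  obtain ⟨m, x, -, -, hx, hq, hr, h0, h1, h2, h3⟩ := param (odd_of_prime hp (by omega)) (by omega : 5 ≤ p)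
  have e0 := mul_A' p 0
  have e1 := mul_A' p 1
  have e2 := mul_A' p 2
  have e3 := mul_A' p 3
  have hq' : (3 : ℤ) ^ p = 3 * x ^ 2 := by exact_mod_cast hq
  have hr' : (3 : ℤ) ^ ((p + 1) / 2) = 3 * x := by exact_mod_cast hr
  have h9 : 9 * x ≤ x ^ 2 := by nlinarith
  have hA0 : (A p 0 : ℤ) = 3 * x ^ 2 - 1 := by
    rw [h0, Nat.cast_sub (by omega)]
    push_cast
    ring
  have hA1 : 2 * (A p 1 : ℤ) = 3 * x ^ 2 + 1 := by exact_mod_cast h1
  have hA2 : (A p 2 : ℤ) + 3 * x = 3 * x ^ 2 + 1 := by exact_mod_cast h2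
  have hA3 : (A p 3 : ℤ) = 3 * x ^ 2 + 3 * x + 1 := by exact_mod_cast h3
  have f0 : (D p 0 : ℤ) * A' p 0 = A p 0 := by exact_mod_cast e0
  have f1 : (D p 1 : ℤ) * A' p 1 = A p 1 := by exact_mod_cast e1
  have f2 : (D p 2 : ℤ) * A' p 2 = A p 2 := by exact_mod_cast e2
  have f3 : (D p 3 : ℤ) * A' p 3 = A p 3 := by exact_mod_cast e3
  fin_cases j
  · refine ⟨2, -1, 3 * x, 3 * x ^ 2, hq'.symm, by ring, hr'.symm, by norm_num, by norm_num, ?_, Or.inl ⟨rfl, rfl⟩⟩
    change 2 * (A' p 0 : ℤ) = _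
    rw [D_zero hp h17] at f0
    push_cast at f0
    linarith
  · refine ⟨4, 1, 3 * x, 3 * x ^ 2, hq'.symm, by ring, hr'.symm, by norm_num, by norm_num, ?_,
      Or.inr (Or.inl ⟨rfl, rfl⟩)⟩
    change 4 * (A' p 1 : ℤ) = _
    rw [D_one hp h17] at f1
    push_cast at f1
    linarith
  · refine ⟨D p 2, 1 - 3 * x, 3 * x, 3 * x ^ 2, hq'.symm, by ring, hr'.symm, ?_, ?_, ?_,
      Or.inr (Or.inr (Or.inl ⟨rfl, rfl⟩))⟩
    · rcases D_two hp h17 with h | h <;> rw [h] <;> norm_num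
    · rcases D_two hp h17 with h | h <;> rw [h] <;> norm_num
    · change (D p 2 : ℤ) * (A' p 2 : ℤ) = _
      linarith
  · refine ⟨D p 3, 1 + 3 * x, 3 * x, 3 * x ^ 2, hq'.symm, by ring, hr'.symm, ?_, ?_, ?_,
      Or.inr (Or.inr (Or.inr ⟨rfl, rfl⟩))⟩
    · rcases D_three hp h17 with h | h <;> rw [h] <;> norm_num
    · rcases D_three hp h17 with h | h <;> rw [h] <;> norm_num
    · change (D p 3 : ℤ) * (A' p 3 : ℤ) = _
      linarith

/-- the main elimination -/
theorem elim {p : ℕ} (hp : p.Prime) (h17 : 17 ≤ p) {a y : Fin 4} {δ : ℤ} (hδ : δ = 1 ∨ δ = -1) {c : ℕ}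
    (h : 2 * (c : ℤ) * A' p y = A' p a + δ) : (a = 0 ∨ a = 1) ∧ (y = 0 ∨ y = 1) ∨ a = y := by
  obtain ⟨Ea, ea, r, q, hq, hqr, hr, hE1, hE7, hEa, hja⟩ := linear hp h17 a
  obtain ⟨Ey, ey, r', q', hq', -, hr', hE1', hE7', hEy, hjy⟩ := linear hp h17 y
  obtain rfl : q = q' := hq.trans hq'.symm
  obtain rfl : r = r' := hr.trans hr'.symm
  -- `r` is large
  have hr9 : (3 : ℤ) ^ 9 ≤ r := by
    rw [hr]
    exact pow_le_pow_right₀ (by norm_num) (by omega)
  norm_num at hr9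
  have hqr' : 6561 * r ≤ q := by nlinarith
  have hea : ea ≤ 1 + r ∧ -(1 + r) ≤ ea := by
    rcases hja with ⟨-, h⟩ | ⟨-, h⟩ | ⟨-, h⟩ | ⟨-, h⟩ <;> rw [h] <;> constructor <;> linarith
  have hey : ey ≤ 1 + r ∧ -(1 + r) ≤ ey := by
    rcases hjy with ⟨-, h⟩ | ⟨-, h⟩ | ⟨-, h⟩ | ⟨-, h⟩ <;> rw [h] <;> constructor <;> linarith
  have hAa : (0 : ℤ) ≤ A' p a := by positivity
  have hAy : (0 : ℤ) ≤ A' p y := by positivity
  -- bound for `c`
  have hc8 : (c : ℤ) ≤ 7 := by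
    by_contra hcon
    push Not at hcon
    have h1 : 2 * 8 * (A' p y : ℤ) ≤ A' p a + δ := by
      rw [← h]
      have : (8 : ℤ) ≤ c := hcon
      nlinarith
    have h2 : (A' p a : ℤ) ≤ q + ea := by
      rw [← hEa]
      nlinarith
    have h3 : q + ey ≤ 7 * (A' p y : ℤ) := by
      rw [← hEy]
      nlinarith
    have h4 : δ ≤ 1 := by rcases hδ with h | h <;> rw [h] <;> norm_num
    linarith [hea.1, hea.2, hey.1, hey.2]
  have hc0 : (0 : ℤ) ≤ c := by positivity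
  -- the linear relation
  have key : 2 * (c : ℤ) * Ea * (q + ey) = Ey * (q + ea + δ * Ea) := by
    rw [← hEy, ← hEa]
    linear_combination Ea * Ey * h
  have hδ' : -1 ≤ δ ∧ δ ≤ 1 := by rcases hδ with h | h <;> rw [h] <;> norm_num
  -- the leading coefficients agree
  have hN : Ey = 2 * c * Ea := by
    have hcE : 0 ≤ 2 * (c : ℤ) * Ea := by positivity
    have hcE' : 2 * (c : ℤ) * Ea ≤ 98 := by nlinarith
    have hδE : -7 ≤ δ * Ea ∧ δ * Ea ≤ 7 := by
      rcases hδ with h | h <;> rw [h] <;> constructor <;> linarith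
    have b1 : Ey * (ea + δ * Ea) ≤ 7 * (1 + r + 7) := by
      have t1 : ea + δ * Ea ≤ 1 + r + 7 := by linarith [hea.1, hδE.2]
      calc Ey * (ea + δ * Ea) ≤ Ey * (1 + r + 7) := by
            apply mul_le_mul_of_nonneg_left t1 (by linarith)
        _ ≤ 7 * (1 + r + 7) := by
            apply mul_le_mul_of_nonneg_right hE7' (by linarith)
    have b2 : -(7 * (1 + r + 7)) ≤ Ey * (ea + δ * Ea) := by
      have t1 : -(1 + r + 7) ≤ ea + δ * Ea := by linarith [hea.2, hδE.1]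
      have t2 : Ey * (-(1 + r + 7)) ≤ Ey * (ea + δ * Ea) := mul_le_mul_of_nonneg_left t1 (by linarith)
      have t3 : Ey * (1 + r + 7) ≤ 7 * (1 + r + 7) := mul_le_mul_of_nonneg_right hE7' (by linarith)
      linarith
    have b3 : 2 * (c : ℤ) * Ea * ey ≤ 98 * (1 + r) := by
      calc 2 * (c : ℤ) * Ea * ey ≤ 2 * (c : ℤ) * Ea * (1 + r) := mul_le_mul_of_nonneg_left hey.1 hcE
        _ ≤ 98 * (1 + r) := mul_le_mul_of_nonneg_right hcE' (by linarith)
    have b4 : -(98 * (1 + r)) ≤ 2 * (c : ℤ) * Ea * ey := by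
      have t2 : 2 * (c : ℤ) * Ea * (-(1 + r)) ≤ 2 * (c : ℤ) * Ea * ey := mul_le_mul_of_nonneg_left hey.2 hcE
      have t3 : 2 * (c : ℤ) * Ea * (1 + r) ≤ 98 * (1 + r) := mul_le_mul_of_nonneg_right hcE' (by linarith)
      linarith
    have key' : (2 * c * Ea - Ey) * q = Ey * (ea + δ * Ea) - 2 * c * Ea * ey := by
      linear_combination key
    have hqpos : 0 < q := by linarith
    rcases lt_trichotomy (2 * (c : ℤ) * Ea - Ey) 0 with h1 | h1 | h1
    · exfalso
      have h2 : 2 * (c : ℤ) * Ea - Ey ≤ -1 := by linarith [Int.le_sub_one_of_lt h1]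
      have h3 : (2 * (c : ℤ) * Ea - Ey) * q ≤ -1 * q := mul_le_mul_of_nonneg_right h2 hqpos.le
      linarith
    · linarith
    · exfalso
      have h2 : 1 ≤ 2 * (c : ℤ) * Ea - Ey := h1
      have h3 : 1 * q ≤ (2 * (c : ℤ) * Ea - Ey) * q := mul_le_mul_of_nonneg_right h2 hqpos.le
      linarith
  have hey' : ey = ea + δ * Ea := by
    rw [← hN] at key
    have h1 : Ey * (ey - (ea + δ * Ea)) = 0 := by linear_combination key
    rcases mul_eq_zero.1 h1 with h2 | h2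
    · linarith
    · linarith
  have hδE : -7 ≤ δ * Ea ∧ δ * Ea ≤ 7 := by
    rcases hδ with h | h <;> rw [h] <;> constructor <;> linarith
  rcases hja with ⟨h1, h2⟩ | ⟨h1, h2⟩ | ⟨h1, h2⟩ | ⟨h1, h2⟩ <;>
    rcases hjy with ⟨h3, h4⟩ | ⟨h3, h4⟩ | ⟨h3, h4⟩ | ⟨h3, h4⟩
  · right; rw [h1, h3]
  · left; exact ⟨Or.inl h1, Or.inr h3⟩
  · exfalso; linarith
  · exfalso; linarith
  · left; exact ⟨Or.inr h1, Or.inl h3⟩
  · right; rw [h1, h3]
  · exfalso; linarith
  · exfalso; linarith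
  · exfalso; linarith
  · exfalso; linarith
  · right; rw [h1, h3]
  · exfalso; linarith
  · exfalso; linarith
  · exfalso; linarith
  · exfalso; linarith
  · right; rw [h1, h3]

/-- the case `u` prime -/
theorem no_prime {p : ℕ} (hp : p.Prime) (h17 : 17 ≤ p) {a b c : Fin 4} (hab : a ≠ b) (hac : a ≠ c)
    (hbc : b ≠ c) (h1 : A' p b ∣ (A' p a - 1) / 2) (h2 : A' p c ∣ (A' p a + 1) / 2) : False := by
  have hodd := A'_odd hp h17 a
  have hpos := one_lt_A' hp h17 a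
  obtain ⟨c1, hc1⟩ := h1
  obtain ⟨c2, hc2⟩ := h2
  have e1 : 2 * (c1 : ℤ) * A' p b = A' p a + (-1) := by
    have : 2 * (A' p b * c1) = A' p a - 1 := by omega
    have h3 : ((2 * (A' p b * c1) : ℕ) : ℤ) = ((A' p a - 1 : ℕ) : ℤ) := by rw [this]
    rw [Nat.cast_sub (by omega)] at h3
    push_cast at h3
    linear_combination h3
  have e2 : 2 * (c2 : ℤ) * A' p c = A' p a + 1 := by
    have : 2 * (A' p c * c2) = A' p a + 1 := by omega
    have h3 : ((2 * (A' p c * c2) : ℕ) : ℤ) = ((A' p a + 1 : ℕ) : ℤ) := by rw [this]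
    push_cast at h3
    linear_combination h3
  have g1 := (elim hp h17 (Or.inr rfl) e1).resolve_right hab
  have g2 := (elim hp h17 (Or.inl rfl) e2).resolve_right hac
  rcases g1 with ⟨ha, hb⟩
  rcases g2 with ⟨-, hc⟩
  rcases ha with rfl | rfl <;> rcases hb with rfl | rfl <;> rcases hc with rfl | rfl
  all_goals first | exact hab rfl | exact hac rfl | exact hbc rfl

end Cfsg.Agent.H412.ReeSeq
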