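import Cfsg.Agent.H412.ProdMod
import Cfsg.Agent.H412.ReeSeq

/-!
# Extensions of products of small Ree groups have new element orders (helper412)
-/

set_option autoImplicit false

namespace Cfsg.Agent.H412.KernelFree

open Finset
open Cfsg.Agent.H412.FrobAct Cfsg.Agent.H412.ProdMod Cfsg.Agent.H412.ReeArith Cfsg.Agent.H412.ReeSeq

/-- The facts about the small Ree group `²G₂(3^p)` which are needed. -/
structure Facts (p : ℕ) (R : Type*) [Group R] : Prop where
  simple : IsSimpleGroup R
  orders : ∀ x : R, Om1 p (orderOf x)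
  exists_order : ∀ d, Om1 p d → ∃ x : R, orderOf x = d
  fp7 : ∀ t, t.Prime → t ≠ 2 → ∃ g : R, FP R t 7 g
  fps : ∀ t, t.Prime → t ≠ 3 → ∃ s, B p 0 s ∧ ∃ g : R, FP R t s g
  fp6 : ∃ g : R, FP R 3 6 g

theorem FP.order {R : Type*} [Group R] {t n : ℕ} {g : R} (h : FP R t n g) : orderOf g = n := by
  obtain ⟨Q, -, -, h, -⟩ := h
  exact h

section Pi

variable {ι : Type*} {R : ι → Type*} [∀ l, Group (R l)]

theorem orderOf_apply_dvd (g : (l : ι) → R l) (l : ι) : orderOf (g l) ∣ orderOf g := by
  apply orderOf_dvd_of_pow_eq_one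
  have h := congrFun (pow_orderOf_eq_one g) l
  exact h

theorem orderOf_dvd_prod [Fintype ι] (g : (l : ι) → R l) : orderOf g ∣ ∏ l, orderOf (g l) := by
  apply orderOf_dvd_of_pow_eq_one
  funext l
  change g l ^ (∏ l, orderOf (g l)) = 1
  rw [← orderOf_dvd_iff_pow_eq_one]
  exact Finset.dvd_prod_of_mem _ (Finset.mem_univ l)

theorem not_dvd_orderOf [Fintype ι] {t : ℕ} (ht : t.Prime) {g : (l : ι) → R l}
    (h : ∀ l, ¬ t ∣ orderOf (g l)) : ¬ t ∣ orderOf g := by
  intro h1
  obtain ⟨l, -, hl⟩ := (Nat.Prime.prime ht).exists_mem_finset_dvd (h1.trans (orderOf_dvd_prod g))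
  exact h l hl

end Pi

section Ext

variable {G : Type*} [Group G] [Finite G] {ι : Type*} [DecidableEq ι] [Fintype ι] {R : ι → Type*}
  [∀ l, Group (R l)] (π : G →* ((l : ι) → R l)) (hπ : Function.Surjective π)
  (hV : ∀ a ∈ π.ker, ∀ b ∈ π.ker, a * b = b * a)

omit [Finite G] [DecidableEq ι] [Fintype ι] in
theorem rho_eq {x y : G} (h : π x = π y) : rho π.ker hV x = rho π.ker hV y := by
  let := addGp π.ker hV
  apply AddMonoidHom.ext
  intro a
  apply Additive.toMul.injective
  apply Subtype.ext
  have e1 := rho_apply π.ker hV x a.toMul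
  have e2 := rho_apply π.ker hV y a.toMul
  have hv : y⁻¹ * x ∈ π.ker := by rw [MonoidHom.mem_ker, map_mul, map_inv, h, inv_mul_cancel]
  have hc := hV _ hv _ a.toMul.2
  refine e1.trans (Eq.trans ?_ e2.symm)
  calc x * (a.toMul : G) * x⁻¹ = y * ((y⁻¹ * x) * (a.toMul : G)) * x⁻¹ := by group
    _ = y * ((a.toMul : G) * (y⁻¹ * x)) * x⁻¹ := by rw [hc]
    _ = y * (a.toMul : G) * y⁻¹ := by group

/-- the representation of `G / V` on `V` -/
noncomputable def rep : letI := addGp π.ker hV; ((l : ι) → R l) →* AddMonoid.End (Additive π.ker) :=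
  letI := addGp π.ker hV
  { toFun := fun p => rho π.ker hV (Function.surjInv hπ p)
    map_one' := by
      rw [rho_eq π hV (x := Function.surjInv hπ 1) (y := 1) (by rw [Function.surjInv_eq hπ, map_one]), map_one]
    map_mul' := by
      intro p q
      rw [← map_mul]
      apply rho_eq π hV
      rw [Function.surjInv_eq hπ, map_mul, Function.surjInv_eq hπ, Function.surjInv_eq hπ] }

omit [Finite G] [DecidableEq ι] [Fintype ι] in
theorem rep_apply (x : G) : rep π hπ hV (π x) = rho π.ker hV x := by
  apply rho_eq π hV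
  rw [Function.surjInv_eq hπ]

omit [Finite G] [DecidableEq ι] [Fintype ι] in
theorem orderOf_mk (x : G) : orderOf (x : G ⧸ π.ker) = orderOf (π x) := by
  have h := orderOf_injective (QuotientGroup.kerLift π) (QuotientGroup.kerLift_injective π) (x : G ⧸ π.ker)
  rw [← h]
  rfl

omit [DecidableEq ι] [Fintype ι] in
/-- nonzero norms give new element orders -/
theorem exists_of_sum {t : ℕ} (ht : t.Prime) (hexp : ∀ a ∈ π.ker, a ^ t = 1) (g : (l : ι) → R l) {n : ℕ}
    (hn : orderOf g = n)
    (h : letI := addGp π.ker hV; ∃ a : Additive π.ker, ∑ j ∈ range n, rep π hπ hV (g ^ j) a ≠ 0) :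
    ∃ x : G, orderOf x = t * n := by
  let := addGp π.ker hV
  obtain ⟨a, ha⟩ := h
  obtain ⟨x, rfl⟩ := hπ g
  have hn0 : 0 < n := by
    rw [← hn]
    exact (isOfFinOrder_iff_pow_eq_one.2 ⟨orderOf x, orderOf_pos x, by rw [← map_pow, pow_orderOf_eq_one, map_one]⟩).orderOf_pos
  refine exists_orderOf π.ker ht hexp x (n := n) (by rw [orderOf_mk, hn]) (Or.inr ⟨a.toMul, a.toMul.2, ?_⟩) hn0
  intro h1
  rw [mul_pow_eq π.ker hV x a.toMul n, mul_eq_right] at h1
  apply ha
  have h2 : (∑ j ∈ range n, rho π.ker hV (x ^ j) a).toMul = 1 := Subtype.ext h1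
  have h3 : ∀ j, rep π hπ hV ((π x) ^ j) = rho π.ker hV (x ^ j) := by
    intro j
    rw [← map_pow, rep_apply]
  rw [Finset.sum_congr rfl (fun j _ => by rw [h3 j])]
  exact h2

omit [DecidableEq ι] [Fintype ι] in
/-- fixed points give new element orders -/
theorem exists_of_fixed {t : ℕ} (ht : t.Prime) (hexp : ∀ a ∈ π.ker, a ^ t = 1) (g : (l : ι) → R l)
    (hg : ¬ t ∣ orderOf g)
    (h : letI := addGp π.ker hV; ∃ a : Additive π.ker, a ≠ 0 ∧ rep π hπ hV g a = a) :
    ∃ x : G, orderOf x = t * orderOf g := by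
  let := addGp π.ker hV
  obtain ⟨a, ha0, ha⟩ := h
  refine exists_of_sum π hπ hV ht hexp g rfl ⟨a, ?_⟩
  have h1 : ∀ j, rep π hπ hV (g ^ j) a = a := fun j => rho_pow_fixed (rep π hπ hV) ha j
  rw [Finset.sum_congr rfl (fun j _ => h1 j), Finset.sum_const, Finset.card_range]
  intro h2
  apply ha0
  have h3 : t • a = 0 := by
    change Additive.ofMul (a.toMul ^ t) = Additive.ofMul 1
    congr 1
    exact Subtype.ext (hexp _ a.toMul.2)
  have h4 : addOrderOf a ∣ t := addOrderOf_dvd_iff_nsmul_eq_zero.2 h3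
  have h5 : addOrderOf a ∣ orderOf g := addOrderOf_dvd_iff_nsmul_eq_zero.2 h2
  have h6 : Nat.Coprime t (orderOf g) := (Nat.Prime.coprime_iff_not_dvd ht).2 hg
  exact AddMonoid.addOrderOf_eq_one_iff.1 (Nat.eq_one_of_dvd_coprimes h6 h4 h5)

omit [Finite G] [DecidableEq ι] [Fintype ι] in
/-- minimal normal subgroups are irreducible -/
theorem irr (hmin : ∀ N : Subgroup G, N.Normal → N ≤ π.ker → N = ⊥ ∨ N = π.ker) :
    letI := addGp π.ker hV; Irr (rep π hπ hV) := by
  let := addGp π.ker hV
  intro W hW
  let N : Subgroup G :=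
    { carrier := {x | ∃ h : x ∈ π.ker, (Additive.ofMul (⟨x, h⟩ : π.ker)) ∈ W}
      mul_mem' := by
        rintro x y ⟨hx, hx'⟩ ⟨hy, hy'⟩
        exact ⟨mul_mem hx hy, W.add_mem hx' hy'⟩
      one_mem' := ⟨one_mem _, W.zero_mem⟩
      inv_mem' := by
        rintro x ⟨hx, hx'⟩
        exact ⟨inv_mem hx, W.neg_mem hx'⟩ }
  have hN : N.Normal := by
    refine ⟨?_⟩
    rintro x ⟨hx, hx'⟩ g
    refine ⟨(inferInstance : π.ker.Normal).conj_mem x hx g, ?_⟩
    have h1 := hW (π g) _ hx'
    rw [rep_apply] at h1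
    have h2 : rho π.ker hV g (Additive.ofMul (⟨x, hx⟩ : π.ker)) =
        Additive.ofMul (⟨g * x * g⁻¹, (inferInstance : π.ker.Normal).conj_mem x hx g⟩ : π.ker) := by
      apply Additive.toMul.injective
      exact Subtype.ext (rho_apply π.ker hV g ⟨x, hx⟩)
    rwa [h2] at h1
  have hNle : N ≤ π.ker := by
    rintro x ⟨hx, -⟩
    exact hx
  rcases hmin N hN hNle with h | h
  · left
    rw [eq_bot_iff]
    intro a ha
    have h1 : (a.toMul : G) ∈ N := ⟨a.toMul.2, ha⟩
    rw [h, Subgroup.mem_bot] at h1
    rw [AddSubgroup.mem_bot]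
    exact Additive.toMul.injective (Subtype.ext h1)
  · right
    rw [eq_top_iff]
    intro a _
    have h1 : (a.toMul : G) ∈ N := by rw [h]; exact a.toMul.2
    obtain ⟨hx, h2⟩ := h1
    exact h2

end Ext

/-! ### The main theorem -/

section Main

variable {P : ℕ → ℕ}

theorem not_om_lt {p : ℕ} {d : ℕ} (hp : Odd p) (h5 : 5 ≤ p) (h : Om1 p d) : ¬ 27 ∣ d := by
  intro h1
  rcases h with h2 | h2 | ⟨j, h2⟩
  · have := Nat.le_of_dvd (by norm_num) (h1.trans h2)
    omega
  · have := Nat.le_of_dvd (by norm_num) (h1.trans h2)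
    omega
  · exact three_not_dvd hp h5 j (Dvd.dvd.trans (by norm_num) (h1.trans h2))

theorem not_21 {p : ℕ} {d : ℕ} (hp : Odd p) (h5 : 5 ≤ p) (h : Om1 p d) : ¬ (3 ∣ d ∧ 7 ∣ d) := by
  rintro ⟨h1, h7⟩
  rcases h with h2 | h2 | ⟨j, h2⟩
  · have := Nat.le_of_dvd (by norm_num) (h7.trans h2)
    omega
  · have := h7.trans h2
    omega
  · exact three_not_dvd hp h5 j (h1.trans h2)

theorem not_14 {p : ℕ} {d : ℕ} (hp : p.Prime) (h17 : 17 ≤ p) (h : Om1 p d) : ¬ (2 ∣ d ∧ 7 ∣ d) := by
  rintro ⟨h1, h7⟩
  rcases h with h2 | h2 | ⟨j, h2⟩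
  · have := Nat.le_of_dvd (by norm_num) (h7.trans h2)
    omega
  · have := h7.trans h2
    omega
  · have e2 := odd_two (odd_of_prime hp (by omega)) (by omega : 5 ≤ p)
    have e3 := odd_three (odd_of_prime hp (by omega)) (by omega : 5 ≤ p)
    have e0 := seven_not_dvd_zero hp (by omega : 5 ≤ p)
    have e1 := seven_not_dvd_one hp (by omega : 5 ≤ p)
    have a7 := h7.trans h2
    have a2 := h1.trans h2
    fin_cases j
    · exact e0 a7
    · exact e1 a7
    · have : 2 ∣ A p 2 := a2
      omega
    · have : 2 ∣ A p 3 := a2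
      omega

theorem not_nine {p : ℕ} {d : ℕ} (hp : Odd p) (h5 : 5 ≤ p) (h : Om1 p d) (h9 : 9 ∣ d) : d ∣ 9 := by
  rcases h with h2 | h2 | ⟨j, h2⟩
  · have := Nat.le_of_dvd (by norm_num) (h9.trans h2)
    omega
  · exact h2
  · exact absurd (Dvd.dvd.trans (by norm_num : 3 ∣ 9) (h9.trans h2)) (three_not_dvd hp h5 j)

/-- a torus of odd order prime to `7` -/
theorem exists_good {p : ℕ} (hp : p.Prime) (h17 : 17 ≤ p) :
    ∃ (j : Fin 4) (s : ℕ), B p j s ∧ ¬ 7 ∣ A p j ∧ A p j % 2 = 1 := by
  by_cases h7 : 7 ∣ A p 2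
  · obtain ⟨s, hs⟩ := exists_B hp h17 3
    refine ⟨3, s, hs, ?_, odd_three (odd_of_prime hp (by omega)) (by omega)⟩
    intro h7'
    have := coprime_torus (by norm_num : Nat.Prime 7) (by norm_num) (odd_of_prime hp (by omega)) (by omega) h7 h7'
    revert this
    decide
  · obtain ⟨s, hs⟩ := exists_B hp h17 2
    exact ⟨2, s, hs, h7, odd_two (odd_of_prime hp (by omega)) (by omega)⟩


variable {k : ℕ} {R : Fin k → Type*} [∀ l, Group (R l)] [∀ l, Finite (R l)]
  {G : Type*} [Group G] [Finite G]

/-- an element all of whose components have large prime order -/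
theorem om_false_of_large (hP : Good P) {t n : ℕ} (ht : t.Prime) (htn : t ∣ n) {j : Fin k → Fin 4}
    {s : Fin k → ℕ} (hs : ∀ l : Fin k, B (P l) (j l) (s l)) (hsn : ∀ l, s l ∣ n)
    (hj : ∀ l : Fin k, ¬ t ∣ A (P l) (j l)) :
    ¬ Om P k n := by
  rintro ⟨f, hf, hd⟩
  obtain ⟨l, hl, htl⟩ := prime_dvd_lcm' ht (htn.trans hd)
  obtain ⟨-, -, h1⟩ := large hP (hs ⟨l, hl⟩) hf ((hsn ⟨l, hl⟩).trans hd)
  exact hj ⟨l, hl⟩ (htl.trans h1)

/-- **Main theorem.** -/
theorem main (hP : Good P) (hF : ∀ l : Fin k, Facts (P l) (R l)) (π : G →* ((l : Fin k) → R l))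
    (hπ : Function.Surjective π) (hV : ∀ a ∈ π.ker, ∀ b ∈ π.ker, a * b = b * a) {t : ℕ} (ht : t.Prime)
    (hexp : ∀ a ∈ π.ker, a ^ t = 1) (hbot : π.ker ≠ ⊥)
    (hmin : ∀ N : Subgroup G, N.Normal → N ≤ π.ker → N = ⊥ ∨ N = π.ker) :
    ∃ x : G, ¬ Om P k (orderOf x) := by
  classical
  let := addGp π.ker hV
  have hsimple : ∀ l, IsSimpleGroup (R l) := fun l => (hF l).simple
  have hirr : Irr (rep π hπ hV) := irr π hπ hV hmin
  set ρ := rep π hπ hV with hρ
  have hA : ∀ a : Additive π.ker, t • a = 0 := by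
    intro a
    change Additive.ofMul (a.toMul ^ t) = Additive.ofMul 1
    congr 1
    exact Subtype.ext (hexp _ a.toMul.2)
  have hnt : Nontrivial (Additive π.ker) := by
    have := (Subgroup.nontrivial_iff_ne_bot _).2 hbot
    infer_instance
  have h5 : ∀ l, 5 ≤ P l := fun l => le_trans (by norm_num) (hP.ge l)
  -- fixed points for a choice of elements
  have fixed : ∀ g : (l : Fin k) → R l, (∀ l, Fix ρ l (g l)) → (∀ l, ¬ t ∣ orderOf (g l)) →
      ∃ x : G, orderOf x = t * orderOf g := by
    intro g hg ho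
    obtain ⟨a, ha, ha0⟩ := exists_ne_zero (fixT_ne_bot ρ g Finset.univ (fun l _ => hg l))
    exact exists_of_fixed π hπ hV ht hexp g (not_dvd_orderOf ht ho)
      ⟨a, ha0, rho_fixed ρ (fun l => ha l (Finset.mem_univ l))⟩
  -- the good torus elements
  have hgood : ∀ l : Fin k, ∃ (j : Fin 4) (s : ℕ) (x : R l), B (P l) j s ∧ ¬ 7 ∣ A (P l) j ∧
      A (P l) j % 2 = 1 ∧ orderOf x = s := by
    intro l
    obtain ⟨j, s, hs, h7, h2⟩ := exists_good (hP.prime l) (hP.ge17 l)
    obtain ⟨x, hx⟩ := (hF l).exists_order s (Or.inr (Or.inr ⟨j, hs.2.2.2.2⟩))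
    exact ⟨j, s, x, hs, h7, h2, hx⟩
  choose jj bb xx hbb h7 hodd hxx using hgood
  by_cases ht2 : t = 2
  · subst ht2
    by_cases htriv : ∀ l, Triv ρ l
    · obtain ⟨x, hx⟩ := fixed xx (fun l => Fix_of_triv ρ (htriv l) _) (fun l => by
        rw [hxx, Nat.prime_dvd_prime_iff_eq ht (hbb l).1]
        exact fun h => (hbb l).2.1 h.symm)
      refine ⟨x, ?_⟩
      rw [hx]
      refine om_false_of_large hP ht (Dvd.intro _ rfl) hbb (fun l => ?_) (fun l h => ?_)
      · rw [← hxx l]
        exact (orderOf_apply_dvd xx l).mul_left _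
      · have := hodd l
        omega
    · push Not at htriv
      obtain ⟨l, hl⟩ := htriv
      obtain ⟨z, hz⟩ := (hF l).exists_order 2 (Or.inl (by norm_num))
      have hz1 : z ≠ 1 := by
        rintro rfl
        rw [orderOf_one] at hz
        omega
      have hgo : orderOf (Pi.mulSingle l z : (l : Fin k) → R l) = 2 := by
        rw [orderOf_piMulSingle, hz]
      by_cases hsum : ∃ a, ∑ j ∈ range 2, ρ ((Pi.mulSingle l z : (l : Fin k) → R l) ^ j) a ≠ 0
      · obtain ⟨x, hx⟩ := exists_of_sum π hπ hV ht hexp _ hgo hsum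
        refine ⟨x, fun h => ?_⟩
        rw [hx] at h
        exact not_four hP h (by norm_num)
      · push Not at hsum
        exfalso
        apply hl
        intro r a
        refine triv_elem ρ (W := ⊤) (fun _ _ _ => trivial) hz1 ?_ r a trivial
        intro b _
        have h1 := hsum b
        rw [Finset.sum_range_succ, Finset.sum_range_one, pow_zero, pow_one, map_one_apply] at h1
        rw [res_apply]
        have h3 : b + b = 0 := by rw [← two_nsmul]; exact hA b
        exact (add_left_cancel (h1.trans h3.symm))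
  by_cases ht3 : t = 3
  · subst ht3
    have hA3 : ∀ a : Additive π.ker, 3 • a = 0 := hA
    set I : Finset (Fin k) := Finset.univ.filter (fun l => ¬ Triv ρ l) with hI
    have hmemI : ∀ l, l ∈ I ↔ ¬ Triv ρ l := by
      intro l
      rw [hI, Finset.mem_filter]
      simp
    have hb3 : ∀ l, ¬ 3 ∣ bb l := by
      intro l h
      rw [Nat.prime_dvd_prime_iff_eq ht (hbb l).1] at h
      exact (hbb l).2.2.1 h.symm
    by_cases hcard3 : 2 < I.card
    · -- three nontrivial factors
      obtain ⟨i, j, m, hi, hj, hm, hij, him, hjm⟩ := Finset.two_lt_card_iff.1 hcard3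
      rw [hmemI] at hi hj hm
      have h9 : ∀ l : Fin k, ∃ x : R l, x ^ 9 = 1 ∧ x ^ 3 ≠ 1 := by
        intro l
        obtain ⟨x, hx⟩ := (hF l).exists_order 9 (Or.inr (Or.inl (dvd_refl _)))
        refine ⟨x, by rw [← hx, pow_orderOf_eq_one], fun h => ?_⟩
        have := Nat.le_of_dvd (by norm_num) (orderOf_dvd_of_pow_eq_one h)
        omega
      obtain ⟨x, hx, hx3⟩ := h9 i
      obtain ⟨y, hy, hy3⟩ := h9 j
      obtain ⟨z, hz, hz3⟩ := h9 m
      obtain ⟨a, ha⟩ := nine ρ hirr hA3 hij him hjm hi hj hm hx hx3 hy hy3 hz hz3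
      set g : (l : Fin k) → R l := Pi.mulSingle i x * Pi.mulSingle j y * Pi.mulSingle m z with hg
      have hgi : g i = x := by
        rw [hg, Pi.mul_apply, Pi.mul_apply, Pi.mulSingle_eq_same, Pi.mulSingle_eq_of_ne hij,
          Pi.mulSingle_eq_of_ne him, mul_one, mul_one]
      have hg9 : g ^ 9 = 1 := by
        have c1 : Commute (Pi.mulSingle i x * Pi.mulSingle j y : (l : Fin k) → R l) (Pi.mulSingle m z) :=
          (Pi.mulSingle_commute him x z).mul_left (Pi.mulSingle_commute hjm y z)
        have c2 : Commute (Pi.mulSingle i x : (l : Fin k) → R l) (Pi.mulSingle j y) := Pi.mulSingle_commute hij x y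
        rw [hg, c1.mul_pow, c2.mul_pow, ← Pi.mulSingle_pow, ← Pi.mulSingle_pow, ← Pi.mulSingle_pow, hx, hy, hz]
        simp
      have hgo : orderOf g = 9 := by
        have := orderOf_eq_prime_pow (p := 3) (n := 1) (x := g) (by
          rw [pow_one]
          intro h
          apply hx3
          have := congrFun h i
          rw [Pi.pow_apply, hgi] at this
          exact this) (by norm_num; exact hg9)
        rw [this]
        norm_num
      obtain ⟨w, hw⟩ := exists_of_sum π hπ hV ht hexp g hgo ⟨a, ha⟩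
      refine ⟨w, ?_⟩
      rintro ⟨f, hf, hd⟩
      rw [hw] at hd
      have h27 : 3 ^ 3 ∣ (Finset.range k).lcm f := Dvd.dvd.trans (by norm_num) hd
      obtain ⟨l, hl, h28⟩ := prime_dvd_lcm Nat.prime_three h27 (by norm_num)
      exact not_om_lt (hP.odd l) (le_trans (by norm_num) (hP.ge l)) (hf l hl) h28
    · by_cases hcard2 : I.card = 2
      · -- two nontrivial factors
        obtain ⟨i, m, him, hIe⟩ := Finset.card_eq_two.1 hcard2
        have hi : ¬ Triv ρ i := by rw [← hmemI, hIe]; simp
        have hm : ¬ Triv ρ m := by rw [← hmemI, hIe]; simp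
        have hothers : ∀ l, l ≠ i → l ≠ m → Triv ρ l := by
          intro l h1 h2
          by_contra h3
          rw [← hmemI, hIe] at h3
          simp [h1, h2] at h3
        obtain ⟨u, hu⟩ := (hF i).fp7 3 ht (by norm_num)
        obtain ⟨v, hv⟩ := (hF m).fp6
        have huo := FP.order hu
        have hvo := FP.order hv
        -- the element
        set g : (l : Fin k) → R l := Function.update (Function.update xx i u) m v with hg
        have hgi : g i = u := by rw [hg, Function.update_of_ne him, Function.update_self]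
        have hgm : g m = v := by rw [hg, Function.update_self]
        have hgl : ∀ l, l ≠ i → l ≠ m → g l = xx l := by
          intro l h1 h2
          rw [hg, Function.update_of_ne h2, Function.update_of_ne h1]
        -- the fixed points of all but the `m`-th component
        set T : Finset (Fin k) := Finset.univ.erase m with hT
        have hW : fixT ρ g T ≠ ⊥ := by
          apply fixT_ne_bot
          intro l hl
          have hlm : l ≠ m := Finset.ne_of_mem_erase hl
          by_cases hli : l = i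
          · subst hli
            rw [hgi]
            exact Fix_of_FP ρ hA3 (by norm_num) hu
          · exact Fix_of_triv ρ (hothers l hli hlm) _
        obtain ⟨a, ha, hsum⟩ := exists_sum_ne ρ hirr hm hW (inv_fixT ρ g (by rw [hT]; simp)) hA3 (by norm_num) hv
        -- the action of the powers of `g` on `a`
        have hpow : ∀ j : ℕ, ρ (g ^ j) a = res ρ m (v ^ j) a := by
          intro j
          have e1 : g ^ j = Pi.mulSingle m (v ^ j) * (Function.update g m 1) ^ j := by
            funext l
            rw [Pi.mul_apply, Pi.pow_apply, Pi.pow_apply]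
            by_cases hlm : l = m
            · subst hlm
              rw [Pi.mulSingle_eq_same, Function.update_self, one_pow, mul_one, hgm]
            · rw [Pi.mulSingle_eq_of_ne hlm, Function.update_of_ne hlm, one_mul]
          rw [e1, map_mul_apply]
          have e2 : ρ (Function.update g m 1) a = a := by
            apply rho_fixed
            intro l
            by_cases hlm : l = m
            · subst hlm
              rw [Function.update_self, res_one_apply]
            · rw [Function.update_of_ne hlm]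
              exact ha l (Finset.mem_erase.2 ⟨hlm, Finset.mem_univ l⟩)
          rw [rho_pow_fixed ρ e2]
          rfl
        -- the order of `g`
        have h6 : 6 ∣ orderOf g := by
          rw [← hvo, ← hgm]
          exact orderOf_apply_dvd g m
        have h7' : 7 ∣ orderOf g := by
          rw [← huo, ← hgi]
          exact orderOf_apply_dvd g i
        have hbl : ∀ l, l ≠ i → l ≠ m → bb l ∣ orderOf g := by
          intro l h1 h2
          rw [← hxx l, ← hgl l h1 h2]
          exact orderOf_apply_dvd g l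
        obtain ⟨c, hc⟩ := h6
        have hc3 : ¬ 3 ∣ c := by
          intro h
          -- `g ^ (2 * ...)`
          have h9 : ¬ 3 ∣ orderOf (g ^ 3) := by
            apply not_dvd_orderOf ht
            intro l
            rw [Pi.pow_apply]
            by_cases hli : l = i
            · subst hli
              rw [hgi]
              intro h1
              have := h1.trans (orderOf_pow_dvd (x := u) 3)
              rw [huo] at this
              omega
            · by_cases hlm : l = m
              · subst hlm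
                rw [hgm]
                intro h1
                have h2 : orderOf (v ^ 3) ∣ 2 := by
                  apply orderOf_dvd_of_pow_eq_one
                  rw [← pow_mul, show 3 * 2 = 6 by norm_num, ← hvo, pow_orderOf_eq_one]
                have := Nat.le_of_dvd (by norm_num) (h1.trans h2)
                omega
              · rw [hgl l hli hlm]
                intro h1
                have := h1.trans (orderOf_pow_dvd (x := xx l) 3)
                rw [hxx] at this
                exact hb3 l this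
          apply h9
          rw [orderOf_pow' g (by norm_num), hc]
          obtain ⟨d, rfl⟩ := h
          rw [Nat.gcd_eq_right (by exact ⟨6 * d, by ring⟩)]
          exact ⟨2 * d, by rw [show 6 * (3 * d) = 3 * (2 * d) * 3 by ring, Nat.mul_div_cancel _ (by norm_num)]⟩
        have hper : ∀ j, res ρ m (v ^ (j + 6)) a = res ρ m (v ^ j) a := by
          intro j
          have : v ^ 6 = 1 := by rw [← hvo, pow_orderOf_eq_one]
          rw [pow_add, this, mul_one]
        have hsum' : ∀ c : ℕ, ∑ j ∈ range (6 * c), ρ (g ^ j) a = c • ∑ j ∈ range 6, res ρ m (v ^ j) a := by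
          intro c
          rw [Finset.sum_congr rfl (fun j _ => hpow j)]
          induction c with
          | zero => simp
          | succ c ih =>
            rw [show 6 * (c + 1) = 6 * c + 6 by ring, Finset.sum_range_add, ih, succ_nsmul]
            congr 1
            apply Finset.sum_congr rfl
            intro j _
            have : v ^ (6 * c) = 1 := by rw [pow_mul, ← hvo, pow_orderOf_eq_one, one_pow]
            rw [pow_add, this, one_mul]
        obtain ⟨w, hw⟩ := exists_of_sum π hπ hV ht hexp g rfl ⟨a, by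
          rw [hc, hsum']
          intro h0
          have h1 : addOrderOf (∑ j ∈ range 6, res ρ m (v ^ j) a) ∣ c := addOrderOf_dvd_iff_nsmul_eq_zero.2 h0
          have h2 : addOrderOf (∑ j ∈ range 6, res ρ m (v ^ j) a) ∣ 3 := addOrderOf_dvd_iff_nsmul_eq_zero.2 (hA3 _)
          have h3 : Nat.Coprime 3 c := (Nat.Prime.coprime_iff_not_dvd ht).2 hc3
          exact hsum (AddMonoid.addOrderOf_eq_one_iff.1 (Nat.eq_one_of_dvd_coprimes h3 h2 h1))⟩
        refine ⟨w, ?_⟩
        rintro ⟨f, hf, hd⟩
        rw [hw] at hd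
        -- the components outside `i, m`
        have hout : ∀ l : Fin k, l ≠ i → l ≠ m → f l ∣ A (P l) (jj l) := by
          intro l h1 h2
          exact (large hP (hbb l) hf (((hbl l h1 h2).mul_left 3).trans hd)).2.2
        have h9 : 3 ^ 2 ∣ (Finset.range k).lcm f := by
          refine Dvd.dvd.trans ?_ hd
          rw [hc]
          exact ⟨2 * c, by ring⟩
        have h2d : 2 ∣ (Finset.range k).lcm f := by
          refine Dvd.dvd.trans ?_ hd
          rw [hc]
          exact ⟨9 * c, by ring⟩
        have h7d : 7 ∣ (Finset.range k).lcm f := (h7'.mul_left 3).trans hd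
        obtain ⟨l1, hl1, e1⟩ := prime_dvd_lcm Nat.prime_three h9 (by norm_num)
        obtain ⟨l2, hl2, e2⟩ := prime_dvd_lcm' Nat.prime_two h2d
        obtain ⟨l3, hl3, e3⟩ := prime_dvd_lcm' (by norm_num : Nat.Prime 7) h7d
        have m1 : (⟨l1, hl1⟩ : Fin k) = i ∨ (⟨l1, hl1⟩ : Fin k) = m := by
          by_contra hcon
          push Not at hcon
          exact three_not_dvd (hP.odd l1) (le_trans (by norm_num) (hP.ge l1)) _
            (Dvd.dvd.trans (by norm_num : 3 ∣ 3 ^ 2) (e1.trans (hout ⟨l1, hl1⟩ hcon.1 hcon.2)))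
        have m2 : (⟨l2, hl2⟩ : Fin k) = i ∨ (⟨l2, hl2⟩ : Fin k) = m := by
          by_contra hcon
          push Not at hcon
          have h1 := hodd ⟨l2, hl2⟩
          have h2 : 2 ∣ A (P l2) (jj ⟨l2, hl2⟩) := e2.trans (hout ⟨l2, hl2⟩ hcon.1 hcon.2)
          have h1' : A (P l2) (jj ⟨l2, hl2⟩) % 2 = 1 := h1
          omega
        have m3 : (⟨l3, hl3⟩ : Fin k) = i ∨ (⟨l3, hl3⟩ : Fin k) = m := by
          by_contra hcon
          push Not at hcon
          exact h7 ⟨l3, hl3⟩ (e3.trans (hout ⟨l3, hl3⟩ hcon.1 hcon.2))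
        have f9 : f l1 ∣ 9 := not_nine (hP.odd l1) (le_trans (by norm_num) (hP.ge l1)) (hf l1 hl1)
          (Dvd.dvd.trans (by norm_num) e1)
        have n12 : l1 ≠ l2 := by
          rintro rfl
          have := e2.trans f9
          omega
        have n13 : l1 ≠ l3 := by
          rintro rfl
          have := e3.trans f9
          omega
        have n23 : l2 = l3 := by
          rcases m1 with m1 | m1 <;> rcases m2 with m2 | m2 <;> rcases m3 with m3 | m3
          · exact absurd (congrArg Fin.val (m1.trans m2.symm)) n12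
          · exact absurd (congrArg Fin.val (m1.trans m2.symm)) n12
          · exact absurd (congrArg Fin.val (m1.trans m3.symm)) n13
          · exact congrArg Fin.val (m2.trans m3.symm)
          · exact congrArg Fin.val (m2.trans m3.symm)
          · exact absurd (congrArg Fin.val (m1.trans m3.symm)) n13
          · exact absurd (congrArg Fin.val (m1.trans m2.symm)) n12
          · exact absurd (congrArg Fin.val (m1.trans m2.symm)) n12
        subst n23
        exact not_14 (hP.prime l2) (hP.ge17 l2) (hf l2 hl2) ⟨e2, e3⟩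
      · -- at most one nontrivial factor
        have hcard1 : I.card ≤ 1 := by omega
        by_cases hI0 : ∃ i, ¬ Triv ρ i
        · obtain ⟨i, hi⟩ := hI0
          have hothers : ∀ l, l ≠ i → Triv ρ l := by
            intro l hl
            by_contra h3
            exact hl (Finset.card_le_one.1 hcard1 l ((hmemI l).2 h3) i ((hmemI i).2 hi))
          obtain ⟨u, hu⟩ := (hF i).fp7 3 ht (by norm_num)
          have huo := FP.order hu
          set g : (l : Fin k) → R l := Function.update xx i u with hg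
          have hgi : g i = u := by rw [hg, Function.update_self]
          have hgl : ∀ l, l ≠ i → g l = xx l := by
            intro l h1
            rw [hg, Function.update_of_ne h1]
          obtain ⟨x, hx⟩ := fixed g (by
            intro l
            by_cases hli : l = i
            · subst hli
              rw [hgi]
              exact Fix_of_FP ρ hA3 (by norm_num) hu
            · exact Fix_of_triv ρ (hothers l hli) _) (by
            intro l
            by_cases hli : l = i
            · subst hli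
              rw [hgi, huo]
              norm_num
            · rw [hgl l hli, hxx]
              exact hb3 l)
          refine ⟨x, ?_⟩
          rintro ⟨f, hf, hd⟩
          rw [hx] at hd
          have hout : ∀ l : Fin k, l ≠ i → f l ∣ A (P l) (jj l) := by
            intro l h1
            refine (large hP (hbb l) hf (Dvd.dvd.trans ?_ hd)).2.2
            apply Dvd.dvd.mul_left
            rw [← hxx l, ← hgl l h1]
            exact orderOf_apply_dvd g l
          obtain ⟨l1, hl1, e1⟩ := prime_dvd_lcm' Nat.prime_three ((Dvd.intro _ rfl : 3 ∣ 3 * orderOf g).trans hd)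
          obtain ⟨l3, hl3, e3⟩ := prime_dvd_lcm' (by norm_num : Nat.Prime 7)
            (Dvd.dvd.trans (Dvd.dvd.mul_left (by rw [← huo, ← hgi]; exact orderOf_apply_dvd g i) 3) hd)
          have m1 : (⟨l1, hl1⟩ : Fin k) = i := by
            by_contra hcon
            exact three_not_dvd (hP.odd l1) (le_trans (by norm_num) (hP.ge l1)) _ (e1.trans (hout ⟨l1, hl1⟩ hcon))
          have m3 : (⟨l3, hl3⟩ : Fin k) = i := by
            by_contra hcon
            exact h7 ⟨l3, hl3⟩ (e3.trans (hout ⟨l3, hl3⟩ hcon))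
          have n13 : l1 = l3 := congrArg Fin.val (m1.trans m3.symm)
          subst n13
          exact not_21 (hP.odd l1) (le_trans (by norm_num) (hP.ge l1)) (hf l1 hl1) ⟨e1, e3⟩
        · push Not at hI0
          obtain ⟨x, hx⟩ := fixed xx (fun l => Fix_of_triv ρ (hI0 l) _) (fun l => by
            rw [hxx]
            exact hb3 l)
          refine ⟨x, ?_⟩
          rw [hx]
          refine om_false_of_large hP ht (Dvd.intro _ rfl) hbb (fun l => ?_) (fun l => ?_)
          · rw [← hxx l]
            exact (orderOf_apply_dvd xx l).mul_left _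
          · exact three_not_dvd (hP.odd l) (h5 l) _
  -- `t ≥ 5`
  have hchoice : ∀ l : Fin k, ∃ g : R l, Fix ρ l g ∧ ¬ t ∣ orderOf g ∧
      ((¬ t ∣ A (P l) 0 ∧ ∃ s, B (P l) 0 s ∧ s ∣ orderOf g) ∨ (t ∣ A (P l) 0 ∧ 7 ∣ orderOf g)) := by
    intro l
    by_cases htA : t ∣ A (P l) 0
    · obtain ⟨g, hg⟩ := (hF l).fp7 t ht ht2
      refine ⟨g, Fix_of_FP ρ hA (by norm_num) hg, ?_, Or.inr ⟨htA, by rw [FP.order hg]⟩⟩
      rw [FP.order hg, Nat.prime_dvd_prime_iff_eq ht (by norm_num)]
      rintro rfl
      exact seven_not_dvd_zero (hP.prime l) (h5 l) htA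
    · obtain ⟨s, hs, g, hg⟩ := (hF l).fps t ht ht3
      refine ⟨g, Fix_of_FP ρ hA hs.1.pos hg, ?_, Or.inl ⟨htA, s, hs, by rw [FP.order hg]⟩⟩
      rw [FP.order hg, Nat.prime_dvd_prime_iff_eq ht hs.1]
      rintro rfl
      exact htA hs.2.2.2.2
  choose g hg1 hg2 hg3 using hchoice
  obtain ⟨x, hx⟩ := fixed g hg1 hg2
  refine ⟨x, ?_⟩
  rintro ⟨f, hf, hd⟩
  rw [hx] at hd
  have hord : ∀ l, orderOf (g l) ∣ (Finset.range k).lcm f := fun l =>
    ((orderOf_apply_dvd g l).mul_left t).trans hd
  have hA0 : ∀ l : Fin k, ¬ t ∣ A (P l) 0 → f l ∣ A (P l) 0 := by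
    intro l hl
    rcases hg3 l with ⟨-, s, hs, hsd⟩ | ⟨h1, -⟩
    · exact (large hP hs hf (hsd.trans (hord l))).2.2
    · exact absurd h1 hl
  obtain ⟨l0, hl0, e0⟩ := prime_dvd_lcm' ht ((Dvd.intro _ rfl : t ∣ t * orderOf g).trans hd)
  have htA : t ∣ A (P l0) 0 := by
    by_contra hcon
    exact hcon (e0.trans (hA0 ⟨l0, hl0⟩ hcon))
  have htB : B (P l0) 0 t := by
    refine ⟨ht, ht2, ht3, ?_, htA⟩
    rintro rfl
    exact seven_not_dvd_zero (hP.prime l0) (le_trans (by norm_num) (hP.ge l0)) htA
  have h7g : 7 ∣ orderOf (g ⟨l0, hl0⟩) := by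
    rcases hg3 ⟨l0, hl0⟩ with ⟨h1, -⟩ | ⟨-, h1⟩
    · exact absurd htA h1
    · exact h1
  obtain ⟨l7, hl7, e7⟩ := prime_dvd_lcm' (by norm_num : Nat.Prime 7) (h7g.trans (hord ⟨l0, hl0⟩))
  have hl07 : f l7 ∣ A (P l7) 0 := by
    by_cases hne : l7 = l0
    · subst hne
      exact (large hP htB hf ((Dvd.intro _ rfl : t ∣ t * orderOf g).trans hd)).2.2
    · apply hA0 ⟨l7, hl7⟩
      exact not_dvd_of_ne (hP.prime l0) (hP.ge17 l0) htB (hP.prime l7) (hP.ge17 l7)
        (fun h => hne (hP.injective h).symm) 0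
  exact seven_not_dvd_zero (hP.prime l7) (le_trans (by norm_num) (hP.ge l7)) (e7.trans hl07)

end Main

end Cfsg.Agent.H412.KernelFree
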