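import Cfsg.Agent.H412.FrobAct

/-!
# Modules for direct products of simple groups (helper412)
-/

set_option autoImplicit false

namespace Cfsg.Agent.H412.ProdMod

open Finset

/-- A Frobenius pair: `g` of order `n` acts on the nontrivial subgroup `Q` (order prime to `t`) with all
nontrivial powers acting freely. -/
def FP (R : Type*) [Group R] (t n : ℕ) (g : R) : Prop :=
  ∃ Q : Subgroup R, Q ≠ ⊥ ∧ Nat.Coprime t (Nat.card Q) ∧ orderOf g = n ∧ (∀ y ∈ Q, g⁻¹ * y * g ∈ Q) ∧
    ∀ j, 0 < j → j < n → ∀ y ∈ Q, g ^ j * y = y * g ^ j → y = 1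

theorem exists_ne_zero {A : Type*} [AddCommGroup A] {W : AddSubgroup A} (hW : W ≠ ⊥) : ∃ a ∈ W, a ≠ 0 :=
  (AddSubgroup.bot_or_exists_ne_zero W).resolve_left hW

theorem ne_bot_of {A : Type*} [AddCommGroup A] {W : AddSubgroup A} {a : A} (ha : a ∈ W) (h0 : a ≠ 0) : W ≠ ⊥ := by
  rintro rfl
  exact h0 (AddSubgroup.mem_bot.1 ha)

section

variable {ι : Type*} [DecidableEq ι] {R : ι → Type*} [∀ l, Group (R l)] {A : Type*} [AddCommGroup A]
  (ρ : ((l : ι) → R l) →* AddMonoid.End A)

omit [DecidableEq ι] in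
theorem map_mul_apply (x y : (l : ι) → R l) (a : A) : ρ (x * y) a = ρ x (ρ y a) := by
  rw [map_mul]
  rfl

omit [DecidableEq ι] in
theorem map_one_apply (a : A) : ρ 1 a = a := by
  rw [map_one]
  rfl

/-- restriction to a factor -/
def res (l : ι) : R l →* AddMonoid.End A := ρ.comp (MonoidHom.mulSingle R l)

theorem res_apply (l : ι) (r : R l) : res ρ l r = ρ (Pi.mulSingle l r) := rfl

theorem res_mul_apply (l : ι) (x y : R l) (a : A) : res ρ l (x * y) a = res ρ l x (res ρ l y a) := by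
  rw [map_mul]
  rfl

theorem res_one_apply (l : ι) (a : A) : res ρ l 1 a = a := by
  rw [map_one]
  rfl

theorem res_inv_apply (l : ι) (x : R l) (a : A) : res ρ l x⁻¹ (res ρ l x a) = a := by
  rw [← res_mul_apply, inv_mul_cancel, res_one_apply]

theorem res_apply_inv (l : ι) (x : R l) (a : A) : res ρ l x (res ρ l x⁻¹ a) = a := by
  rw [← res_mul_apply, mul_inv_cancel, res_one_apply]

theorem res_comm {l m : ι} (h : l ≠ m) (x : R l) (y : R m) : Commute (res ρ l x) (res ρ m y) := by
  have h1 : Commute (Pi.mulSingle l x : (l : ι) → R l) (Pi.mulSingle m y) := Pi.mulSingle_commute h x y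
  exact h1.map ρ

theorem res_comm_apply {l m : ι} (h : l ≠ m) (x : R l) (y : R m) (a : A) :
    res ρ l x (res ρ m y a) = res ρ m y (res ρ l x a) :=
  DFunLike.congr_fun (res_comm ρ h x y) a

/-- `W` is invariant under the factor `l` -/
def Inv (l : ι) (W : AddSubgroup A) : Prop := ∀ (r : R l), ∀ a ∈ W, res ρ l r a ∈ W

/-- `g` has fixed points on every nonzero invariant subgroup -/
def Fix (l : ι) (g : R l) : Prop :=
  ∀ W : AddSubgroup A, W ≠ ⊥ → Inv ρ l W → ∃ a ∈ W, a ≠ 0 ∧ res ρ l g a = a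

/-- the factor `l` acts trivially -/
def Triv (l : ι) : Prop := ∀ (r : R l) (a : A), res ρ l r a = a

theorem Fix_of_triv {l : ι} (h : Triv ρ l) (g : R l) : Fix ρ l g := by
  intro W hW _
  obtain ⟨a, ha, ha0⟩ := exists_ne_zero hW
  exact ⟨a, ha, ha0, h g a⟩

/-- a nontrivial element acting trivially: the whole (simple) factor acts trivially -/
theorem triv_elem {l : ι} [IsSimpleGroup (R l)] {W : AddSubgroup A} (hW : Inv ρ l W) {y : R l}
    (hy1 : y ≠ 1) (h : ∀ a ∈ W, res ρ l y a = a) (r : R l) : ∀ a ∈ W, res ρ l r a = a := by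
  let N : Subgroup (R l) :=
    { carrier := {r | ∀ a ∈ W, res ρ l r a = a}
      mul_mem' := by
        intro x y hx hy a ha
        rw [res_mul_apply, hy a ha, hx a ha]
      one_mem' := by
        intro a _
        exact res_one_apply ρ l a
      inv_mem' := by
        intro x hx a ha
        have h1 := hx a ha
        calc res ρ l x⁻¹ a = res ρ l x⁻¹ (res ρ l x a) := by rw [h1]
          _ = a := res_inv_apply ρ l x a }
  have hN : N.Normal := by
    refine ⟨fun x hx g a ha => ?_⟩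
    rw [res_mul_apply, res_mul_apply, hx _ (hW g⁻¹ a ha), res_apply_inv]
  have hyN : y ∈ N := h
  rcases hN.eq_bot_or_eq_top with h1 | h1
  · rw [h1, Subgroup.mem_bot] at hyN
    exact absurd hyN hy1
  · have : r ∈ N := by rw [h1]; trivial
    exact this

/-- a nontrivial subgroup acting trivially: the whole (simple) factor acts trivially -/
theorem triv_on {l : ι} [IsSimpleGroup (R l)] {W : AddSubgroup A} (hW : Inv ρ l W) {Q : Subgroup (R l)}
    (hQ : Q ≠ ⊥) (h : ∀ y ∈ Q, ∀ a ∈ W, res ρ l y a = a) (r : R l) : ∀ a ∈ W, res ρ l r a = a := by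
  obtain ⟨y, hy, hy1⟩ := Q.bot_or_exists_ne_one.resolve_left hQ
  exact triv_elem ρ hW hy1 (h y hy) r

theorem Fix_of_FP {l : ι} [IsSimpleGroup (R l)] [Finite (R l)] {t n : ℕ} (ht : ∀ a : A, t • a = 0)
    (hn : 0 < n) {g : R l} (h : FP (R l) t n g) : Fix ρ l g := by
  intro W hW hinv
  obtain ⟨Q, hQ, hcop, hord, hnorm, hfree⟩ := h
  by_cases htriv : ∀ y ∈ Q, ∀ a ∈ W, res ρ l y a = a
  · obtain ⟨a, ha, ha0⟩ := exists_ne_zero hW
    exact ⟨a, ha, ha0, triv_on ρ hinv hQ htriv g a ha⟩
  · push Not at htriv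
    obtain ⟨y, hy, a, ha, hne⟩ := htriv
    exact FrobAct.exists_fixed (res ρ l) W Q ht hcop g hn (by rw [← hord, pow_orderOf_eq_one]) hnorm hfree
      (fun y _ => hinv y) (hinv g) ⟨y, hy, a, ha, hne⟩

/-- the common fixed space -/
def fixT (g : (l : ι) → R l) (T : Finset ι) : AddSubgroup A where
  carrier := {a | ∀ l ∈ T, res ρ l (g l) a = a}
  add_mem' := by
    intro a b ha hb l hl
    rw [map_add, ha l hl, hb l hl]
  zero_mem' := by
    intro l _
    exact map_zero _
  neg_mem' := by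
    intro a ha l hl
    rw [map_neg, ha l hl]

theorem mem_fixT {g : (l : ι) → R l} {T : Finset ι} {a : A} :
    a ∈ fixT ρ g T ↔ ∀ l ∈ T, res ρ l (g l) a = a := Iff.rfl

theorem inv_fixT (g : (l : ι) → R l) {T : Finset ι} {m : ι} (hm : m ∉ T) : Inv ρ m (fixT ρ g T) := by
  intro r a ha l hl
  have hlm : l ≠ m := fun h => hm (h ▸ hl)
  rw [res_comm_apply ρ hlm, ha l hl]

theorem fixT_ne_bot [Nontrivial A] (g : (l : ι) → R l) (T : Finset ι) (h : ∀ l ∈ T, Fix ρ l (g l)) :
    fixT ρ g T ≠ ⊥ := by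
  induction T using Finset.induction_on with
  | empty =>
    obtain ⟨a, ha⟩ := exists_ne (0 : A)
    exact ne_bot_of (a := a) (by intro l hl; exact absurd hl (Finset.notMem_empty l)) ha
  | insert m T hm ih =>
    have h1 := ih (fun l hl => h l (Finset.mem_insert_of_mem hl))
    obtain ⟨a, ha, ha0, hfix⟩ := h m (Finset.mem_insert_self m T) _ h1 (inv_fixT ρ g hm)
    refine ne_bot_of (a := a) ?_ ha0
    intro l hl
    rcases Finset.mem_insert.1 hl with rfl | hl
    · exact hfix
    · exact ha l hl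

theorem rho_fixed [Fintype ι] {g : (l : ι) → R l} {a : A} (h : ∀ l, res ρ l (g l) a = a) : ρ g a = a := by
  let H : Subgroup ((l : ι) → R l) :=
    { carrier := {x | ρ x a = a}
      mul_mem' := by
        intro x y hx hy
        change ρ (x * y) a = a
        rw [map_mul_apply, show ρ y a = a from hy, show ρ x a = a from hx]
      one_mem' := map_one_apply ρ a
      inv_mem' := by
        intro x hx
        change ρ x⁻¹ a = a
        calc ρ x⁻¹ a = ρ x⁻¹ (ρ x a) := by rw [show ρ x a = a from hx]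
          _ = ρ (x⁻¹ * x) a := (map_mul_apply ρ _ _ _).symm
          _ = a := by rw [inv_mul_cancel, map_one_apply] }
  have h1 : g ∈ H := Subgroup.pi_mem_of_mulSingle_mem g (fun l => h l)
  exact h1

omit [DecidableEq ι] in
/-- powers of an element fixing a vector -/
theorem rho_pow_fixed {x : (l : ι) → R l} {a : A} (h : ρ x a = a) (j : ℕ) : ρ (x ^ j) a = a := by
  induction j with
  | zero => rw [pow_zero, map_one_apply]
  | succ j ih => rw [pow_succ, map_mul_apply, h, ih]

/-! ### Irreducible modules -/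

/-- no invariant subgroups -/
def Irr : Prop := ∀ W : AddSubgroup A, (∀ x, ∀ a ∈ W, ρ x a ∈ W) → W = ⊥ ∨ W = ⊤

theorem mulSingle_mul (x : (l : ι) → R l) (i : ι) (r : R i) :
    (Pi.mulSingle i r : (l : ι) → R l) * x = x * Pi.mulSingle i ((x i)⁻¹ * r * x i) := by
  funext l
  rw [Pi.mul_apply, Pi.mul_apply]
  by_cases h : l = i
  · subst h
    rw [Pi.mulSingle_eq_same, Pi.mulSingle_eq_same]
    group
  · rw [Pi.mulSingle_eq_of_ne h, Pi.mulSingle_eq_of_ne h, one_mul, mul_one]

theorem fixed_eq_zero (hirr : Irr ρ) {l : ι} (hl : ¬ Triv ρ l) {a : A} (ha : ∀ r, res ρ l r a = a) : a = 0 := by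
  let W : AddSubgroup A :=
    { carrier := {a | ∀ r, res ρ l r a = a}
      add_mem' := by
        intro a b ha hb r
        rw [map_add, ha r, hb r]
      zero_mem' := fun r => map_zero _
      neg_mem' := by
        intro a ha r
        rw [map_neg, ha r] }
  have hW : ∀ x, ∀ a ∈ W, ρ x a ∈ W := by
    intro x a ha r
    rw [res_apply, ← map_mul_apply, mulSingle_mul, map_mul_apply]
    congr 1
    exact ha _
  rcases hirr W hW with h | h
  · have h1 : a ∈ W := ha
    rw [h] at h1
    exact AddSubgroup.mem_bot.1 h1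
  · exfalso
    apply hl
    intro r b
    have h1 : b ∈ W := by rw [h]; trivial
    exact h1 r

/-- the norm of a Frobenius pair is nonzero on every nonzero invariant subgroup -/
theorem exists_sum_ne (hirr : Irr ρ) {l : ι} [IsSimpleGroup (R l)] [Finite (R l)] (hl : ¬ Triv ρ l)
    {W : AddSubgroup A} (hW : W ≠ ⊥) (hinv : Inv ρ l W) {t n : ℕ} (ht : ∀ a : A, t • a = 0)
    (hn : 0 < n) {g : R l} (h : FP (R l) t n g) : ∃ a ∈ W, ∑ j ∈ range n, res ρ l (g ^ j) a ≠ 0 := by
  by_contra hcon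
  push Not at hcon
  obtain ⟨Q, hQ, hcop, hord, hnorm, hfree⟩ := h
  have h1 := FrobAct.sum_eq_zero_imp (res ρ l) W Q ht hcop g hn hnorm hfree (fun y _ => hinv y) hcon
  obtain ⟨a, ha, ha0⟩ := exists_ne_zero hW
  exact ha0 (fixed_eq_zero ρ hirr hl (fun r => triv_on ρ hinv hQ h1 r a ha))

/-- **Tensor products.** -/
theorem tensor (hirr : Irr ρ) (i : ι) {α β : AddMonoid.End A} (hα : α ≠ 0) (hβ : β ≠ 0)
    (h1 : ∀ x : (l : ι) → R l, x i = 1 → Commute α (ρ x)) (h2 : ∀ r : R i, Commute β (res ρ i r)) :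
    α * β ≠ 0 := by
  intro h0
  let U : AddSubgroup A :=
    { carrier := {a | ∀ x, α (ρ x a) = 0}
      add_mem' := by
        intro a b ha hb x
        rw [map_add, map_add, ha x, hb x, add_zero]
      zero_mem' := fun x => by rw [map_zero, map_zero]
      neg_mem' := by
        intro a ha x
        rw [map_neg, map_neg, ha x, neg_zero] }
  have hU : ∀ x, ∀ a ∈ U, ρ x a ∈ U := by
    intro x a ha y
    rw [← map_mul_apply]
    exact ha _
  rcases hirr U hU with h | h
  · apply hβ
    ext b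
    have hb : β b ∈ U := by
      intro x
      have hx : x = Function.update x i 1 * Pi.mulSingle i (x i) := by
        funext l
        rw [Pi.mul_apply]
        by_cases hl : l = i
        · subst hl
          rw [Function.update_self, Pi.mulSingle_eq_same, one_mul]
        · rw [Function.update_of_ne hl, Pi.mulSingle_eq_of_ne hl, mul_one]
      rw [hx, map_mul_apply]
      have e1 : ρ (Pi.mulSingle i (x i)) (β b) = β (res ρ i (x i) b) :=
        (DFunLike.congr_fun (h2 (x i)) b).symm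
      have e2 : ∀ c : A, α (ρ (Function.update x i 1) c) = ρ (Function.update x i 1) (α c) := fun c =>
        DFunLike.congr_fun (h1 _ (Function.update_self i 1 x)) c
      rw [e1, e2]
      have e3 : α (β (res ρ i (x i) b)) = 0 := DFunLike.congr_fun h0 (res ρ i (x i) b)
      rw [e3, map_zero]
    rw [h] at hb
    exact AddSubgroup.mem_bot.1 hb
  · apply hα
    ext a
    have ha : a ∈ U := by rw [h]; trivial
    have := ha 1
    rwa [map_one_apply] at this

end

/-! ### Nilpotent elements -/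

section Nil

theorem nil_aux {C : Type*} [CommRing C] {u z : C} {m : ℕ} (h : u ^ (m + 1) * z = 0) (n : ℕ) :
    (1 + u) ^ n * (u ^ m * z) = u ^ m * z := by
  induction n with
  | zero => rw [pow_zero, one_mul]
  | succ n ih =>
    have h1 : (1 + u) * (u ^ m * z) = u ^ m * z := by
      linear_combination h
    rw [pow_succ, mul_assoc, h1, ih]

/-- two commuting nilpotent elements -/
theorem nil_two {C : Type*} [CommRing C] {u v z : C} {m n : ℕ} (hu : u ^ (m + 1) * z = 0)
    (hv : v ^ (n + 1) * z = 0) :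
    ((1 + u) * (1 + v) - 1) ^ (m + n) * z = ((m + n).choose m : C) * (u ^ m * v ^ n * z) ∧
      ((1 + u) * (1 + v) - 1) ^ (m + n + 1) * z = 0 := by
  have hw : (1 + u) * (1 + v) - 1 = u + v * (1 + u) := by ring
  have hu' : ∀ k, m < k → u ^ k * z = 0 := by
    intro k hk
    obtain ⟨l, rfl⟩ : ∃ l, k = m + 1 + l := ⟨k - (m + 1), by omega⟩
    rw [pow_add, mul_assoc, mul_comm (u ^ l) z, ← mul_assoc, hu, zero_mul]
  have hv' : ∀ k, n < k → v ^ k * z = 0 := by
    intro k hk
    obtain ⟨l, rfl⟩ : ∃ l, k = n + 1 + l := ⟨k - (n + 1), by omega⟩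
    rw [pow_add, mul_assoc, mul_comm (v ^ l) z, ← mul_assoc, hv, zero_mul]
  have hterm : ∀ N k, (m < k ∨ n < N - k) →
      u ^ k * (v * (1 + u)) ^ (N - k) * (N.choose k : C) * z = 0 := by
    intro N k h
    rw [mul_pow]
    rcases h with h | h
    · linear_combination (v ^ (N - k) * (1 + u) ^ (N - k) * (N.choose k : C)) * hu' k h
    · linear_combination (u ^ k * (1 + u) ^ (N - k) * (N.choose k : C)) * hv' (N - k) h
  constructor
  · rw [hw, add_pow, Finset.sum_mul, Finset.sum_eq_single m]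
    · rw [Nat.add_sub_cancel_left, mul_pow]
      have h1 := nil_aux hu n
      linear_combination (v ^ n * ((m + n).choose m : C)) * h1
    · intro k hk hkm
      apply hterm
      have := Finset.mem_range.1 hk
      omega
    · intro h
      exact absurd (Finset.mem_range.2 (by omega)) h
  · rw [hw, add_pow, Finset.sum_mul]
    apply Finset.sum_eq_zero
    intro k hk
    apply hterm
    have := Finset.mem_range.1 hk
    omega

theorem sum_eq {C : Type*} [CommRing C] (h3 : (3 : C) = 0) (x : C) : ∑ j ∈ range 9, x ^ j = (x - 1) ^ 8 := by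
  simp only [Finset.sum_range_succ, Finset.sum_range_zero]
  linear_combination (-(-3*x^7+9*x^6-19*x^5+23*x^4-19*x^3+9*x^2-3*x)) * h3

theorem comm_nil {C : Type*} [CommRing C] (h3 : (3 : C) = 0) {a b c : C} {e f g : ℕ} (he : 3 ≤ e)
    (hf : 3 ≤ f) (hg : 2 ≤ g) (ha : a ^ (e + 1) = 0) (hb : b ^ (f + 1) = 0) (hc : c ^ (g + 1) = 0)
    (h : a ^ e * b ^ f * c ^ g ≠ 0) : ∑ j ∈ range 9, ((1 + a) * (1 + b) * (1 + c)) ^ j ≠ 0 := by
  intro h0
  rw [sum_eq h3] at h0
  apply h
  set z : C := a ^ (e - 3) * b ^ (f - 3) with hz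
  have e1 : a ^ (3 + 1) * z = 0 := by
    rw [hz, ← mul_assoc, ← pow_add, show 3 + 1 + (e - 3) = e + 1 by omega, ha, zero_mul]
  have e2 : b ^ (3 + 1) * z = 0 := by
    rw [hz, mul_comm (a ^ (e - 3)), ← mul_assoc, ← pow_add, show 3 + 1 + (f - 3) = f + 1 by omega, hb, zero_mul]
  obtain ⟨f1, f2⟩ := nil_two e1 e2
  set w : C := (1 + a) * (1 + b) - 1 with hw
  have hw1 : 1 + w = (1 + a) * (1 + b) := by rw [hw]; ring
  have g1 : w ^ (6 + 1) * (z * c ^ (g - 2)) = 0 := by
    rw [← mul_assoc]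
    have : w ^ (6 + 1) * z = 0 := f2
    rw [this, zero_mul]
  have g2 : c ^ (2 + 1) * (z * c ^ (g - 2)) = 0 := by
    have : c ^ (2 + 1) * (z * c ^ (g - 2)) = z * (c ^ (2 + 1) * c ^ (g - 2)) := by ring
    rw [this, ← pow_add, show 2 + 1 + (g - 2) = g + 1 by omega, hc, mul_zero]
  obtain ⟨k1, -⟩ := nil_two g1 g2
  rw [hw1] at k1
  have h8 : ((1 + a) * (1 + b) * (1 + c) - 1) ^ (6 + 2) = 0 := h0
  rw [h8, zero_mul] at k1
  have c1 : ((3 + 3).choose 3 : ℕ) = 20 := by decide
  have c2 : ((6 + 2).choose 6 : ℕ) = 28 := by decide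
  rw [c1] at f1
  rw [c2] at k1
  push_cast at f1 k1
  have f1' : w ^ 6 * z = 20 * (a ^ 3 * b ^ 3 * z) := f1
  have k2 : w ^ 6 * c ^ 2 * (z * c ^ (g - 2)) = 20 * (a ^ e * b ^ f * c ^ g) := by
    have t1 : a ^ e = a ^ 3 * a ^ (e - 3) := by rw [← pow_add]; congr 1; omega
    have t2 : b ^ f = b ^ 3 * b ^ (f - 3) := by rw [← pow_add]; congr 1; omega
    have t3 : c ^ g = c ^ 2 * c ^ (g - 2) := by rw [← pow_add]; congr 1; omega
    rw [t1, t2, t3]
    calc w ^ 6 * c ^ 2 * (z * c ^ (g - 2)) = (w ^ 6 * z) * (c ^ 2 * c ^ (g - 2)) := by ring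
      _ = 20 * (a ^ 3 * b ^ 3 * z) * (c ^ 2 * c ^ (g - 2)) := by rw [f1']
      _ = 20 * (a ^ 3 * a ^ (e - 3) * (b ^ 3 * b ^ (f - 3)) * (c ^ 2 * c ^ (g - 2))) := by
          rw [hz]; ring
  rw [k2] at k1
  linear_combination k1 + 187 * (a ^ e * b ^ f * c ^ g) * h3

/-- the version for commuting elements of a ring -/
theorem ring_nil {E : Type*} [Ring E] (h3 : (3 : E) = 0) {a b c : E} (hab : Commute a b) (hac : Commute a c)
    (hbc : Commute b c) {e f g : ℕ} (he : 3 ≤ e)
    (hf : 3 ≤ f) (hg : 2 ≤ g) (ha : a ^ (e + 1) = 0) (hb : b ^ (f + 1) = 0) (hc : c ^ (g + 1) = 0)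
    (h : a ^ e * b ^ f * c ^ g ≠ 0) : ∑ j ∈ range 9, ((1 + a) * (1 + b) * (1 + c)) ^ j ≠ 0 := by
  have hcomm : ∀ x ∈ ({a, b, c} : Set E), ∀ y ∈ ({a, b, c} : Set E), x * y = y * x := by
    intro x hx y hy
    simp only [Set.mem_insert_iff, Set.mem_singleton_iff] at hx hy
    rcases hx with rfl | rfl | rfl <;> rcases hy with rfl | rfl | rfl
    · rfl
    · exact hab
    · exact hac
    · exact hab.symm
    · rfl
    · exact hbc
    · exact hac.symm
    · exact hbc.symm
    · rfl
  let : CommRing (Subring.closure ({a, b, c} : Set E)) := Subring.closureCommRingOfComm hcomm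
  let a' : Subring.closure ({a, b, c} : Set E) := ⟨a, Subring.subset_closure (by simp)⟩
  let b' : Subring.closure ({a, b, c} : Set E) := ⟨b, Subring.subset_closure (by simp)⟩
  let c' : Subring.closure ({a, b, c} : Set E) := ⟨c, Subring.subset_closure (by simp)⟩
  have h3' : (3 : Subring.closure ({a, b, c} : Set E)) = 0 := Subtype.ext h3
  intro h0
  refine comm_nil (C := Subring.closure ({a, b, c} : Set E)) h3' (a := a') (b := b') (c := c') he hf hg
    (Subtype.ext ha) (Subtype.ext hb) (Subtype.ext hc) (fun h1 => h (congrArg Subtype.val h1)) ?_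
  apply Subtype.ext
  exact (map_sum (Subring.closure ({a, b, c} : Set E)).subtype
    (fun j => ((1 + a') * (1 + b') * (1 + c')) ^ j) (range 9)).trans h0

end Nil

section Nine

variable {ι : Type*} [DecidableEq ι] {R : ι → Type*} [∀ l, Group (R l)] {A : Type*} [AddCommGroup A]
  (ρ : ((l : ι) → R l) →* AddMonoid.End A)

/-- **Three elements of order 9.** -/
theorem nine (hirr : Irr ρ) (h3 : ∀ a : A, 3 • a = 0) [∀ l, IsSimpleGroup (R l)] {i j k : ι} (hij : i ≠ j)
    (hik : i ≠ k) (hjk : j ≠ k) (hi : ¬ Triv ρ i) (hj : ¬ Triv ρ j) (hk : ¬ Triv ρ k) {x : R i} {y : R j}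
    {z : R k} (hx : x ^ 9 = 1) (hx3 : x ^ 3 ≠ 1) (hy : y ^ 9 = 1) (hy3 : y ^ 3 ≠ 1) (hz : z ^ 9 = 1)
    (hz3 : z ^ 3 ≠ 1) : ∃ a : A, ∑ m ∈ range 9,
      ρ ((Pi.mulSingle i x * Pi.mulSingle j y * Pi.mulSingle k z) ^ m) a ≠ 0 := by
  have hE3 : (3 : AddMonoid.End A) = 0 := by
    ext a
    have h1 : ((3 : ℕ) : AddMonoid.End A) a = 3 • a := by
      rw [← nsmul_one]
      rfl
    have h2 : ((3 : ℕ) : AddMonoid.End A) = 3 := rfl
    rw [← h2, h1, h3]
    rfl
  -- the nilpotent elements
  have key : ∀ (l : ι) (u : R l), u ^ 9 = 1 → u ^ 3 ≠ 1 → ¬ Triv ρ l →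
      ∃ e, 3 ≤ e ∧ (res ρ l u - 1) ^ (e + 1) = 0 ∧ (res ρ l u - 1) ^ e ≠ 0 := by
    intro l u hu hu3 hl
    have hnt : Nontrivial (AddMonoid.End A) := by
      rw [← not_subsingleton_iff_nontrivial]
      intro hs
      apply hl
      intro r a
      have : res ρ l r = 1 := Subsingleton.elim _ _
      rw [this]
      rfl
    have hch : CharP (AddMonoid.End A) 3 := by
      have := CharP.exists (AddMonoid.End A)
      obtain ⟨c, hc⟩ := this
      have h1 : c ∣ 3 := (CharP.cast_eq_zero_iff (AddMonoid.End A) c 3).1 (by exact_mod_cast hE3)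
      rcases (Nat.dvd_prime Nat.prime_three).1 h1 with h2 | h2
      · subst h2
        exact absurd (CharP.char_ne_one (AddMonoid.End A) 1 rfl) (by simp)
      · subst h2
        exact hc
    have hF : Fact (Nat.Prime 3) := ⟨Nat.prime_three⟩
    have h9 : (res ρ l u - 1) ^ 9 = 0 := by
      have h1 := sub_pow_char_pow_of_commute (p := 3) (n := 2) (x := res ρ l u) (y := 1) (Commute.one_right _)
      norm_num at h1
      rw [h1, ← map_pow, hu, map_one, sub_self]
    have h3' : (res ρ l u - 1) ^ 3 ≠ 0 := by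
      have h1 := sub_pow_char_pow_of_commute (p := 3) (n := 1) (x := res ρ l u) (y := 1) (Commute.one_right _)
      norm_num at h1
      rw [h1, ← map_pow, sub_ne_zero]
      intro h2
      apply hl
      intro r a
      refine triv_elem ρ (W := ⊤) (fun _ _ _ => trivial) hu3 ?_ r a trivial
      intro b _
      rw [h2]
      rfl
    have hex : ∃ e, (res ρ l u - 1) ^ (e + 1) = 0 := ⟨8, h9⟩
    classical
    refine ⟨Nat.find hex, ?_, Nat.find_spec hex, ?_⟩
    · by_contra hcon
      push Not at hcon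
      apply h3'
      have h4 := Nat.find_spec hex
      have h5 : Nat.find hex + 1 ≤ 3 := by omega
      exact pow_eq_zero_of_le h5 h4
    · intro h4
      rcases Nat.eq_zero_or_pos (Nat.find hex) with h5 | h5
      · rw [h5, pow_zero] at h4
        exact one_ne_zero h4
      · obtain ⟨m, hm⟩ : ∃ m, Nat.find hex = m + 1 := ⟨Nat.find hex - 1, by omega⟩
        rw [hm] at h4
        exact Nat.find_min hex (by omega : m < Nat.find hex) h4
  obtain ⟨e, he, ha1, ha2⟩ := key i x hx hx3 hi
  obtain ⟨f, hf, hb1, hb2⟩ := key j y hy hy3 hj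
  obtain ⟨g, hg, hc1, hc2⟩ := key k z hz hz3 hk
  set a : AddMonoid.End A := res ρ i x - 1 with ha
  set b : AddMonoid.End A := res ρ j y - 1 with hb
  set c : AddMonoid.End A := res ρ k z - 1 with hc
  have hab : Commute a b :=
    ((res_comm ρ hij x y).sub_left (Commute.one_left _)).sub_right (Commute.one_right _)
  have hac : Commute a c :=
    ((res_comm ρ hik x z).sub_left (Commute.one_left _)).sub_right (Commute.one_right _)
  have hbc : Commute b c :=
    ((res_comm ρ hjk y z).sub_left (Commute.one_left _)).sub_right (Commute.one_right _)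
  -- commutation with group elements
  have comm1 : ∀ (l : ι) (u : R l) (v : (l : ι) → R l), v l = 1 → Commute (res ρ l u - 1) (ρ v) := by
    intro l u v hv
    have h1 : Commute (Pi.mulSingle l u : (l : ι) → R l) v := by
      change _ * _ = _ * _
      rw [mulSingle_mul, hv]
      simp
    exact (h1.map ρ).sub_left (Commute.one_left _)
  have comm2 : ∀ (l m : ι) (hlm : l ≠ m) (u : R l) (r : R m), Commute (res ρ l u - 1) (res ρ m r) :=
    fun l m hlm u r => (res_comm ρ hlm u r).sub_left (Commute.one_left _)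
  have hbcne : b ^ f * c ^ g ≠ 0 :=
    tensor ρ hirr j hb2 hc2 (fun v hv => (comm1 j y v hv).pow_left f)
      (fun r => (comm2 k j hjk.symm z r).pow_left g)
  have hne : a ^ e * (b ^ f * c ^ g) ≠ 0 :=
    tensor ρ hirr i ha2 hbcne (fun v hv => (comm1 i x v hv).pow_left e)
      (fun r => ((comm2 j i hij.symm y r).pow_left f).mul_left ((comm2 k i hik.symm z r).pow_left g))
  rw [← mul_assoc] at hne
  have h := ring_nil hE3 hab hac hbc he hf (by omega : 2 ≤ g) ha1 hb1 hc1 hne
  by_contra hcon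
  push Not at hcon
  apply h
  ext v
  have h1 := hcon v
  have e1 : (1 + a) * (1 + b) * (1 + c) = ρ (Pi.mulSingle i x * Pi.mulSingle j y * Pi.mulSingle k z) := by
    rw [ha, hb, hc, add_sub_cancel, add_sub_cancel, add_sub_cancel, map_mul, map_mul]
    rfl
  rw [e1]
  have e2 : ∀ m, ρ (Pi.mulSingle i x * Pi.mulSingle j y * Pi.mulSingle k z) ^ m =
      ρ ((Pi.mulSingle i x * Pi.mulSingle j y * Pi.mulSingle k z) ^ m) := fun m => (map_pow ρ _ m).symm
  rw [Finset.sum_congr rfl (fun m _ => e2 m)]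
  exact (map_sum (AddMonoidHom.eval v : (A →+ A) →+ A)
    (fun m => ρ ((Pi.mulSingle i x * Pi.mulSingle j y * Pi.mulSingle k z) ^ m)) (range 9)).trans h1

end Nine

end Cfsg.Agent.H412.ProdMod
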