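import Cfsg.Agent.H412.KernelFree
import Cfsg.Agent.S1073
import Cfsg.Agent.S1155
import Cfsg.Agent.S1157
import Cfsg.Agent.S1158
import Cfsg.Agent.S1159

/-!
# The facts about the small Ree groups needed for the spectrum of products (helper412)
-/

set_option autoImplicit false

namespace Cfsg.Agent.H412.ReeFacts

open Cfsg.Agent.H412.ProdMod Cfsg.Agent.H412.ReeArith Cfsg.Agent.H412.ReeSeq Cfsg.Agent.H412.KernelFree

section Gen

variable {R : Type*} [Group R] [Finite R]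

/-- a nontrivial subgroup normalised by `g`, no element of order `r s` for `r ∣ |Q|`, `s ∣ n` -/
theorem fp_of {p t n : ℕ} (hord : ∀ x : R, Om1 p (orderOf x)) {Q : Subgroup R} (hQ : Q ≠ ⊥)
    (hcop : Nat.Coprime t (Nat.card Q)) {g : R} (hg : orderOf g = n)
    (hnorm : ∀ y ∈ Q, g⁻¹ * y * g ∈ Q)
    (hno : ∀ r s, r.Prime → s.Prime → r ∣ Nat.card Q → s ∣ n → r ≠ s ∧ ¬ Om1 p (r * s)) : FP R t n g := by
  refine ⟨Q, hQ, hcop, hg, hnorm, ?_⟩
  intro j hj0 hjn y hy hc
  by_contra hy1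
  have h1 : orderOf y ≠ 1 := fun h => hy1 (orderOf_eq_one_iff.1 h)
  obtain ⟨r, hr, hry⟩ := Nat.exists_prime_and_dvd h1
  have h2 : orderOf (g ^ j) ≠ 1 := by
    intro h
    rw [orderOf_eq_one_iff, ← orderOf_dvd_iff_pow_eq_one, hg] at h
    exact absurd (Nat.le_of_dvd hj0 h) (by omega)
  obtain ⟨s, hs, hsg⟩ := Nat.exists_prime_and_dvd h2
  have hrQ : r ∣ Nat.card Q := by
    refine hry.trans ?_
    have := orderOf_dvd_natCard (⟨y, hy⟩ : Q)
    rwa [← Subgroup.orderOf_coe] at this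
  have hsn : s ∣ n := by
    rw [← hg]
    exact hsg.trans (orderOf_pow_dvd j)
  obtain ⟨hne, hno'⟩ := hno r s hr hs hrQ hsn
  apply hno'
  have hcm : Commute (g ^ j) y := hc
  obtain ⟨a, ha⟩ := hry
  obtain ⟨b, hb⟩ := hsg
  have hy0 := orderOf_pos y
  have hg0 := orderOf_pos (g ^ j)
  have ha0 : a ≠ 0 := by rintro rfl; omega
  have hb0 : b ≠ 0 := by rintro rfl; omega
  have h3 : orderOf (y ^ a) = r := by
    rw [orderOf_pow' y ha0, ha, Nat.gcd_eq_right (Dvd.intro_left _ rfl)]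
    exact Nat.mul_div_cancel _ (Nat.pos_of_ne_zero ha0)
  have h4 : orderOf ((g ^ j) ^ b) = s := by
    rw [orderOf_pow' (g ^ j) hb0, hb, Nat.gcd_eq_right (Dvd.intro_left _ rfl)]
    exact Nat.mul_div_cancel _ (Nat.pos_of_ne_zero hb0)
  have h5 : orderOf (y ^ a * (g ^ j) ^ b) = r * s := by
    have hc' : Commute (y ^ a) ((g ^ j) ^ b) := (hcm.symm.pow_left a).pow_right b
    rw [hc'.orderOf_mul_eq_mul_orderOf_of_coprime, h3, h4]
    rw [h3, h4]
    exact (Nat.coprime_primes hr hs).2 hne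
  rw [← h5]
  exact hord _

end Gen

section Ree

variable {K : Type*} [Field K] [Fintype K] {m : ℕ}

theorem eq_half (m : ℕ) : (2 * m + 1 + 1) / 2 = m + 1 := by omega

theorem om1_iff (hm : 1 ≤ m) (hK : Fintype.card K = 3 ^ (2 * m + 1)) (d : ℕ) :
    (∃ g : ↥(Cfsg.Lie.twistedG2 K (3 ^ m)), orderOf g = d) ↔ Om1 (2 * m + 1) d := by
  rw [Cfsg.Agent.S1159.result hm hK d]
  unfold Om1
  have h0 : A (2 * m + 1) 0 = 3 ^ (2 * m + 1) - 1 := rfl
  have h1 : A (2 * m + 1) 1 = (3 ^ (2 * m + 1) + 1) / 2 := rfl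
  have h2 : A (2 * m + 1) 2 = 3 ^ (2 * m + 1) - 3 ^ (m + 1) + 1 := by rw [A_two, eq_half]
  have h3 : A (2 * m + 1) 3 = 3 ^ (2 * m + 1) + 3 ^ (m + 1) + 1 := by rw [A_three, eq_half]
  constructor
  · rintro (h | h | h | h | h | h)
    · exact Or.inl h
    · exact Or.inr (Or.inl h)
    · exact Or.inr (Or.inr ⟨0, by rw [h0]; exact h⟩)
    · exact Or.inr (Or.inr ⟨1, by rw [h1]; exact h⟩)
    · exact Or.inr (Or.inr ⟨2, by rw [h2]; exact h⟩)
    · exact Or.inr (Or.inr ⟨3, by rw [h3]; exact h⟩)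
  · rintro (h | h | ⟨j, h⟩)
    · exact Or.inl h
    · exact Or.inr (Or.inl h)
    · fin_cases j
      · exact Or.inr (Or.inr (Or.inl (by rw [← h0]; exact h)))
      · exact Or.inr (Or.inr (Or.inr (Or.inl (by rw [← h1]; exact h))))
      · exact Or.inr (Or.inr (Or.inr (Or.inr (Or.inl (by rw [← h2]; exact h)))))
      · exact Or.inr (Or.inr (Or.inr (Or.inr (Or.inr (by rw [← h3]; exact h)))))

/-- no elements of order `r s` for different `j`'s or `s ∣ 6` -/
theorem not_om1_six {p : ℕ} (hp : p.Prime) (h17 : 17 ≤ p) {j : Fin 4} {r s : ℕ} (hr : r.Prime) (hr2 : r ≠ 2)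
    (hj : j = 2 ∨ j = 3) (hrA : r ∣ A p j) (hs : s = 2 ∨ s = 3) : ¬ Om1 p (r * s) := by
  have hr3 : r ≠ 3 := by
    rintro rfl
    exact three_not_dvd (odd_of_prime hp (by omega)) (by omega) j hrA
  rintro (h | h | ⟨i, h⟩)
  · have h1 : r ∣ 2 * 3 := (Dvd.intro _ rfl).trans h
    rcases (Nat.Prime.dvd_mul hr).1 h1 with h2 | h2
    · exact hr2 ((Nat.prime_dvd_prime_iff_eq hr Nat.prime_two).1 h2)
    · exact hr3 ((Nat.prime_dvd_prime_iff_eq hr Nat.prime_three).1 h2)
  · have h1 : r ∣ 3 * 3 := (Dvd.intro _ rfl).trans h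
    rcases (Nat.Prime.dvd_mul hr).1 h1 with h2 | h2 <;>
    exact hr3 ((Nat.prime_dvd_prime_iff_eq hr Nat.prime_three).1 h2)
  · have h1 : r ∣ A p i := (Dvd.intro _ rfl).trans h
    have h2 : s ∣ A p i := (Dvd.intro_left _ rfl).trans h
    have h3 := coprime_torus hr hr2 (odd_of_prime hp (by omega)) (by omega) hrA h1
    subst h3
    rcases hs with rfl | rfl
    · have e2 := odd_two (odd_of_prime hp (by omega)) (by omega : 5 ≤ p)
      have e3 := odd_three (odd_of_prime hp (by omega)) (by omega : 5 ≤ p)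
      rcases hj with rfl | rfl <;> omega
    · exact three_not_dvd (odd_of_prime hp (by omega)) (by omega) j h2

/-- **The facts.** -/
theorem facts {p : ℕ} (hp : p.Prime) (h17 : 17 ≤ p) (hK : Fintype.card K = 3 ^ p) :
    Facts p ↥(Cfsg.Lie.twistedG2 K (3 ^ ((p - 1) / 2))) := by
  have hodd := odd_of_prime hp (by omega)
  obtain ⟨m, rfl⟩ := hodd
  have hm2 : (2 * m + 1 - 1) / 2 = m := by omega
  rw [hm2]
  have hm : 1 ≤ m := by omega
  have hfin : Finite ↥(Cfsg.Lie.twistedG2 K (3 ^ m)) := by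
    obtain ⟨U, h, n, D⟩ := Cfsg.Agent.ChevalleyStructure.Ree.Data.exists_data hK
    exact Cfsg.Agent.LieRecognition.ReeSylowThree.finite D
  have hord : ∀ x : ↥(Cfsg.Lie.twistedG2 K (3 ^ m)), Om1 (2 * m + 1) (orderOf x) :=
    fun x => (om1_iff hm hK _).1 ⟨x, rfl⟩
  refine
    { simple := (Cfsg.Agent.S1073.result hm hK).1
      orders := hord
      exists_order := fun d hd => (om1_iff hm hK d).2 hd
      fp7 := ?_
      fps := ?_
      fp6 := ?_ }
  · intro t ht ht2
    have h2 : Fact (Nat.Prime 2) := ⟨Nat.prime_two⟩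
    have h7 : Fact (Nat.Prime 7) := ⟨by norm_num⟩
    obtain ⟨a, haH, ha1, ha2⟩ := Cfsg.Agent.S1157.exists_involution hK
    obtain ⟨-, hS⟩ := Cfsg.Agent.S1152.result hK a haH ha1 ha2
    obtain ⟨S⟩ : Nonempty (Sylow 2 ↥(Cfsg.Lie.twistedG2 K (3 ^ m))) := inferInstance
    obtain ⟨-, hN⟩ := Cfsg.Agent.S1157.result hm hK S
    obtain ⟨hS8, hSq⟩ := hS S
    obtain ⟨g, hg⟩ := exists_prime_orderOf_dvd_card' 7
      (show 7 ∣ Nat.card (Subgroup.normalizer ((S : Subgroup ↥(Cfsg.Lie.twistedG2 K (3 ^ m))) :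
        Set ↥(Cfsg.Lie.twistedG2 K (3 ^ m)))) by rw [hN]; norm_num)
    have hg7 : orderOf (g : ↥(Cfsg.Lie.twistedG2 K (3 ^ m))) = 7 := by rw [Subgroup.orderOf_coe, hg]
    refine ⟨g, fp_of hord (Q := (S : Subgroup ↥(Cfsg.Lie.twistedG2 K (3 ^ m)))) ?_ ?_ hg7 ?_ ?_⟩
    · intro h
      have : Nat.card (S : Subgroup ↥(Cfsg.Lie.twistedG2 K (3 ^ m))) = 1 := by rw [h, Subgroup.card_bot]
      rw [hS8] at this
      omega
    · rw [hS8, show 8 = 2 ^ 3 by norm_num]
      exact Nat.Coprime.pow_right 3 ((Nat.coprime_primes ht Nat.prime_two).2 ht2)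
    · intro y hy
      have h3 := g.2
      rw [Subgroup.mem_normalizer_iff''] at h3
      exact (h3 y).1 hy
    · intro r s hr hs hrQ hsn
      rw [hS8, show 8 = 2 ^ 3 by norm_num] at hrQ
      have hr2 := (Nat.prime_dvd_prime_iff_eq hr Nat.prime_two).1 (hr.dvd_of_dvd_pow hrQ)
      have hs7 := (Nat.prime_dvd_prime_iff_eq hs (by norm_num)).1 hsn
      subst hr2
      subst hs7
      exact ⟨by norm_num, fun h => not_14 hp h17 h ⟨by norm_num, by norm_num⟩⟩
  · intro t ht ht3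
    obtain ⟨U, h, n, D⟩ := Cfsg.Agent.ChevalleyStructure.Ree.Data.exists_data hK
    obtain ⟨s, hs⟩ := exists_B hp h17 0
    have hsF : Fact s.Prime := ⟨hs.1⟩
    have hone : h 1 = 1 := by
      have := D.h_mul 1 1
      rw [mul_one] at this
      exact (mul_eq_left.1 this.symm)
    let hh : Kˣ →* ↥(Cfsg.Lie.twistedG2 K (3 ^ m)) :=
      { toFun := h
        map_one' := hone
        map_mul' := D.h_mul }
    have hinj : Function.Injective hh := by
      intro a b hab
      exact (D.inj₁ 0 0 0 a 0 0 0 b (by rw [show h a = h b from hab])).2.2.2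
    obtain ⟨a, ha⟩ := exists_prime_orderOf_dvd_card' (G := Kˣ) s (by
      rw [Nat.card_units, Nat.card_eq_fintype_card, hK]
      exact hs.2.2.2.2)
    have hgs : orderOf (hh a) = s := by rw [orderOf_injective hh hinj, ha]
    have hcardU : Nat.card (Cfsg.Agent.LieRecognition.ReeSylowThree.uSub D) = 3 ^ (3 * (2 * m + 1)) := by
      rw [Cfsg.Agent.LieRecognition.ReeSylowThree.card_uSub, hK, ← pow_mul, mul_comm]
    refine ⟨s, hs, hh a, fp_of hord (Q := Cfsg.Agent.LieRecognition.ReeSylowThree.uSub D) ?_ ?_ hgs ?_ ?_⟩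
    · intro h0
      rw [h0, Subgroup.card_bot] at hcardU
      have : 1 < 3 ^ (3 * (2 * m + 1)) := Nat.one_lt_pow (by omega) (by norm_num)
      omega
    · rw [hcardU]
      exact Nat.Coprime.pow_right _ ((Nat.coprime_primes ht Nat.prime_three).2 ht3)
    · intro y hy
      have h3 := Cfsg.Agent.LieRecognition.ReeSylowThree.h_conj_mem D a⁻¹ hy
      have h4 : h a⁻¹ = (hh a)⁻¹ := map_inv hh a
      rw [h4, inv_inv] at h3
      exact h3
    · intro r s' hr hs' hrQ hsn
      rw [hcardU] at hrQ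
      have hr3 := (Nat.prime_dvd_prime_iff_eq hr Nat.prime_three).1 (hr.dvd_of_dvd_pow hrQ)
      have hss := (Nat.prime_dvd_prime_iff_eq hs' hs.1).1 hsn
      subst hr3
      subst hss
      refine ⟨fun h => hs.2.2.1 h.symm, ?_⟩
      intro h
      have h3 := dvd_torus (odd_of_prime hp (by omega)) (by omega) hs h (Dvd.intro_left _ rfl)
      exact three_not_dvd (odd_of_prime hp (by omega)) (by omega) 0 ((Dvd.intro _ rfl).trans h3)
  · -- the element of order 6
    obtain ⟨T, hcyc, hTc, hTN, -⟩ := Cfsg.Agent.S1158.result hm hK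
      (3 ^ (2 * m + 1) - 3 ^ (m + 1) + 1, 6 * (3 ^ (2 * m + 1) - 3 ^ (m + 1) + 1)) (by simp)
    have hA2 : A (2 * m + 1) 2 = 3 ^ (2 * m + 1) - 3 ^ (m + 1) + 1 := by rw [A_two, eq_half]
    change Nat.card T = _ at hTc
    change Nat.card _ = _ at hTN
    rw [← hA2] at hTc hTN
    have hA2pos := A_pos (odd_of_prime hp (by omega)) (by omega : 5 ≤ 2 * m + 1) 2
    have hA2odd := odd_two (odd_of_prime hp (by omega)) (by omega : 5 ≤ 2 * m + 1)
    have hA23 := three_not_dvd (odd_of_prime hp (by omega)) (by omega : 5 ≤ 2 * m + 1) 2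
    -- a complement in the normalizer
    set N := Subgroup.normalizer (T : Set ↥(Cfsg.Lie.twistedG2 K (3 ^ m))) with hN
    have hTle : T ≤ N := Subgroup.le_normalizer
    have hTn : (T.subgroupOf N).Normal := Subgroup.normal_in_normalizer
    have hTcard : Nat.card (T.subgroupOf N) = A (2 * m + 1) 2 := by
      rw [Nat.card_congr (Subgroup.subgroupOfEquivOfLe hTle).toEquiv, hTc]
    have hindex : (T.subgroupOf N).index = 6 := by
      have h1 := Subgroup.card_mul_index (T.subgroupOf N)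
      rw [hTcard, hTN, mul_comm] at h1
      exact Nat.eq_of_mul_eq_mul_right (by omega) h1
    have hcop : Nat.Coprime (Nat.card (T.subgroupOf N)) (T.subgroupOf N).index := by
      rw [hTcard, hindex, show 6 = 2 * 3 by norm_num]
      refine Nat.Coprime.mul_right ?_ ?_
      · exact Nat.coprime_two_right.2 (Nat.odd_iff.2 hA2odd)
      · exact ((Nat.Prime.coprime_iff_not_dvd Nat.prime_three).2 hA23).symm
    obtain ⟨H, hH⟩ := Subgroup.exists_right_complement'_of_coprime hcop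
    have hHcard : Nat.card H = 6 := by
      have h1 := hH.card_mul
      rw [hTcard, hTN, mul_comm] at h1
      exact Nat.eq_of_mul_eq_mul_right (by omega) h1
    -- nontrivial elements of `H` centralize no nontrivial element of `T`
    have hno : ∀ r s, r.Prime → s.Prime → r ∣ Nat.card T → s ∣ 6 → r ≠ s ∧ ¬ Om1 (2 * m + 1) (r * s) := by
      intro r s hr hs hrT hs6
      rw [hTc] at hrT
      have hr2 : r ≠ 2 := by
        rintro rfl
        omega
      have hs' : s = 2 ∨ s = 3 := by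
        have h6 : s ∣ 2 * 3 := hs6
        rcases (Nat.Prime.dvd_mul hs).1 h6 with h | h
        · exact Or.inl ((Nat.prime_dvd_prime_iff_eq hs Nat.prime_two).1 h)
        · exact Or.inr ((Nat.prime_dvd_prime_iff_eq hs Nat.prime_three).1 h)
      refine ⟨?_, not_om1_six hp h17 hr hr2 (Or.inl rfl) hrT hs'⟩
      rintro rfl
      rcases hs' with rfl | rfl
      · exact hr2 rfl
      · exact hA23 hrT
    have h2F : Fact (Nat.Prime 2) := ⟨Nat.prime_two⟩
    have h3F : Fact (Nat.Prime 3) := ⟨Nat.prime_three⟩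
    obtain ⟨x, hx⟩ := exists_prime_orderOf_dvd_card' (G := H) 2 (by rw [hHcard]; norm_num)
    obtain ⟨y, hy⟩ := exists_prime_orderOf_dvd_card' (G := H) 3 (by rw [hHcard]; norm_num)
    set X : ↥(Cfsg.Lie.twistedG2 K (3 ^ m)) := ((x : N) : ↥(Cfsg.Lie.twistedG2 K (3 ^ m))) with hX
    set Y : ↥(Cfsg.Lie.twistedG2 K (3 ^ m)) := ((y : N) : ↥(Cfsg.Lie.twistedG2 K (3 ^ m))) with hY
    have hXo : orderOf X = 2 := by rw [hX, Subgroup.orderOf_coe, Subgroup.orderOf_coe, hx]
    have hYo : orderOf Y = 3 := by rw [hY, Subgroup.orderOf_coe, Subgroup.orderOf_coe, hy]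
    have hXN : X ∈ N := (x : N).2
    have hYN : Y ∈ N := (y : N).2
    -- the generator of `T`
    obtain ⟨⟨t0, ht0⟩, hgen⟩ := hcyc.exists_generator
    have hTmem : ∀ t ∈ T, ∃ k : ℤ, t0 ^ k = t := by
      intro t ht
      obtain ⟨k, hk⟩ := hgen ⟨t, ht⟩
      exact ⟨k, congrArg Subtype.val hk⟩
    obtain ⟨a, ha⟩ := hTmem _ ((Subgroup.mem_normalizer_iff.1 hXN t0).1 ht0)
    obtain ⟨b, hb⟩ := hTmem _ ((Subgroup.mem_normalizer_iff.1 hYN t0).1 ht0)
    have e1 : (X * Y) * t0 * (X * Y)⁻¹ = t0 ^ (a * b) := by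
      calc (X * Y) * t0 * (X * Y)⁻¹ = X * (Y * t0 * Y⁻¹) * X⁻¹ := by group
        _ = X * t0 ^ b * X⁻¹ := by rw [hb]
        _ = (X * t0 * X⁻¹) ^ b := (conj_zpow).symm
        _ = t0 ^ (a * b) := by rw [← ha, zpow_mul]
    have e2 : (Y * X) * t0 * (Y * X)⁻¹ = t0 ^ (a * b) := by
      calc (Y * X) * t0 * (Y * X)⁻¹ = Y * (X * t0 * X⁻¹) * Y⁻¹ := by group
        _ = Y * t0 ^ a * Y⁻¹ := by rw [ha]
        _ = (Y * t0 * Y⁻¹) ^ a := (conj_zpow).symm
        _ = t0 ^ (a * b) := by rw [← hb, ← zpow_mul, mul_comm]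
    set c : ↥(Cfsg.Lie.twistedG2 K (3 ^ m)) := (Y * X)⁻¹ * (X * Y) with hc
    have hct : c * t0 = t0 * c := by
      rw [← e2] at e1
      calc c * t0 = (Y * X)⁻¹ * ((X * Y) * t0 * (X * Y)⁻¹) * (X * Y) := by rw [hc]; group
        _ = (Y * X)⁻¹ * ((Y * X) * t0 * (Y * X)⁻¹) * (X * Y) := by rw [e1]
        _ = t0 * c := by rw [hc]; group
    have hc1 : c = 1 := by
      by_contra hne
      have hcH : orderOf c ∣ 6 := by
        have h1 : c = (((((y * x)⁻¹ * (x * y) : H) : N)) : ↥(Cfsg.Lie.twistedG2 K (3 ^ m))) := rfl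
        rw [h1, Subgroup.orderOf_coe, Subgroup.orderOf_coe, ← hHcard]
        exact orderOf_dvd_natCard _
      have hco1 : orderOf c ≠ 1 := fun h => hne (orderOf_eq_one_iff.1 h)
      obtain ⟨s, hs, hsc⟩ := Nat.exists_prime_and_dvd hco1
      have ht01 : orderOf t0 ≠ 1 := by
        intro h
        rw [orderOf_eq_one_iff] at h
        have : T = ⊥ := by
          rw [eq_bot_iff]
          intro t ht
          obtain ⟨k, hk⟩ := hTmem t ht
          rw [h, one_zpow] at hk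
          exact hk.symm
        rw [this, Subgroup.card_bot] at hTc
        omega
      obtain ⟨r, hr, hrt⟩ := Nat.exists_prime_and_dvd ht01
      have hrT : r ∣ Nat.card T := by
        refine hrt.trans ?_
        have := orderOf_dvd_natCard (⟨t0, ht0⟩ : T)
        rwa [← Subgroup.orderOf_coe] at this
      obtain ⟨hne', hno'⟩ := hno r s hr hs hrT (hsc.trans hcH)
      apply hno'
      obtain ⟨u, hu⟩ := hrt
      obtain ⟨v, hv⟩ := hsc
      have hp0 := orderOf_pos t0
      have hq0 := orderOf_pos c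
      have hu0 : u ≠ 0 := by rintro rfl; omega
      have hv0 : v ≠ 0 := by rintro rfl; omega
      have h3 : orderOf (t0 ^ u) = r := by
        rw [orderOf_pow' t0 hu0, hu, Nat.gcd_eq_right (Dvd.intro_left _ rfl)]
        exact Nat.mul_div_cancel _ (Nat.pos_of_ne_zero hu0)
      have h4 : orderOf (c ^ v) = s := by
        rw [orderOf_pow' c hv0, hv, Nat.gcd_eq_right (Dvd.intro_left _ rfl)]
        exact Nat.mul_div_cancel _ (Nat.pos_of_ne_zero hv0)
      have h5 : orderOf (t0 ^ u * c ^ v) = r * s := by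
        have hct' : Commute t0 c := hct.symm
        have hc' : Commute (t0 ^ u) (c ^ v) := (hct'.pow_left u).pow_right v
        rw [hc'.orderOf_mul_eq_mul_orderOf_of_coprime, h3, h4]
        rw [h3, h4]
        exact (Nat.coprime_primes hr hs).2 hne'
      rw [← h5]
      exact hord _
    have hXY : Commute X Y := by
      rw [hc, inv_mul_eq_one] at hc1
      exact hc1.symm
    have h6 : orderOf (X * Y) = 6 := by
      rw [hXY.orderOf_mul_eq_mul_orderOf_of_coprime, hXo, hYo]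
      rw [hXo, hYo]
      norm_num
    refine ⟨X * Y, fp_of hord (Q := T) ?_ ?_ h6 ?_ hno⟩
    · intro h
      rw [h, Subgroup.card_bot] at hTc
      omega
    · rw [hTc]
      exact (Nat.Prime.coprime_iff_not_dvd Nat.prime_three).2 hA23
    · intro t ht
      have h3 : X * Y ∈ N := N.mul_mem hXN hYN
      rw [Subgroup.mem_normalizer_iff''] at h3
      exact (h3 t).1 ht

end Ree

end Cfsg.Agent.H412.ReeFacts
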