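import Cfsg.Agent.H412.WalterThm
import Cfsg.Agent.H412.CoComp
import Cfsg.Agent.H412.ReeOut
import Cfsg.Agent.H412.ReeFacts
import Cfsg.Agent.H412.ReeField
import Cfsg.Agent.H412.PslCase
import Cfsg.Agent.SporadicB.J1.Main
import Cfsg.Agent.S1069

/-!
# The structure of a group with the element orders of a product of small Ree groups (helper412)
-/

set_option autoImplicit false

namespace Cfsg.Agent.H412.ProdStruct

open Cfsg Subgroup
open Cfsg.Agent.H412.ReeArith Cfsg.Agent.H412.ReeSeq Cfsg.Agent.H412.KernelFree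
open Cfsg.Agent.SignalizersComponents.Components
open Cfsg.Agent.Walter Cfsg.Agent.Walter.Types

variable {P : ℕ → ℕ} {k : ℕ}

/-- Sylow 2-subgroups are elementary abelian. -/
theorem sylow_sq (hP : Good P) {X : Type*} [Group X] [Finite X] {k : ℕ} (hX : ∀ x : X, Om P k (orderOf x))
    (S : Sylow 2 X) : ∀ x ∈ (S : Subgroup X), x * x = 1 := by
  intro x hx
  have h2 : Fact (Nat.Prime 2) := ⟨Nat.prime_two⟩
  obtain ⟨n, hn⟩ := S.2 ⟨x, hx⟩
  have h1 : x ^ 2 ^ n = 1 := congrArg Subtype.val hn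
  obtain ⟨m, hm, h3⟩ := (Nat.dvd_prime_pow Nat.prime_two).1 (orderOf_dvd_of_pow_eq_one h1)
  have h4 := not_four hP (hX x)
  have h5 : m ≤ 1 := by
    by_contra hcon
    apply h4
    rw [h3]
    exact (show 4 = 2 ^ 2 by norm_num) ▸ pow_dvd_pow 2 (by omega)
  have h6 : orderOf x ∣ 2 := by
    rw [h3]
    exact (pow_dvd_pow 2 h5).trans (by norm_num)
  rw [← sq]
  exact orderOf_dvd_iff_pow_eq_one.1 h6

theorem comm_of_sq {X : Type*} [Group X] {S : Subgroup X} (h : ∀ x ∈ S, x * x = 1) :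
    ∀ a ∈ S, ∀ b ∈ S, a * b = b * a := by
  intro a ha b hb
  have h1 := h a ha
  have h2 := h b hb
  have h3 := h (a * b) (S.mul_mem ha hb)
  have e1 : a⁻¹ = a := inv_eq_of_mul_eq_one_left h1
  have e2 : b⁻¹ = b := inv_eq_of_mul_eq_one_left h2
  have e3 : (a * b)⁻¹ = a * b := inv_eq_of_mul_eq_one_left h3
  rw [mul_inv_rev, e1, e2] at e3
  exact e3.symm

/-- **The large factor.** -/
theorem find_factor (hP : Good P) {X : Type} [Group X] [Finite X]
    (hX : ∀ N : Subgroup X, N.Normal → Group.IsSolvable N → N = ⊥)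
    (hO : ∀ x : X, Om P (k + 1) (orderOf x))
    (hA : ∃ j0 : Fin 4, ∀ j ≠ j0, ∃ x : X, orderOf x = A' (P k) j) :
    ∃ S : Subgroup X, S.Normal ∧ S ⊓ centralizer (S : Set X) = ⊥ ∧ S ⊔ centralizer (S : Set X) = ⊤ ∧
      ∃ (F : Type) (_ : Field F) (_ : Fintype F), Fintype.card F = 3 ^ P k ∧
        Nonempty (S ≃* ↥(Cfsg.Lie.twistedG2 F (3 ^ ((P k - 1) / 2)))) := by
  classical
  have h2F : Fact (Nat.Prime 2) := ⟨Nat.prime_two⟩
  have hp := hP.prime k
  have h17 := hP.ge17 k
  obtain ⟨j0, hA⟩ := hA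
  obtain ⟨T⟩ : Nonempty (Sylow 2 X) := inferInstance
  have hTsq := sylow_sq hP hO T
  have hTc := comm_of_sq hTsq
  -- the coclique
  have hs : ∀ j, ∃ s, B (P k) j s := fun j => exists_B hp h17 j
  choose s hs using hs
  have hsX : ∀ j, j ≠ j0 → s j ∣ Nat.card X := by
    intro j hj
    obtain ⟨x, hx⟩ := hA j hj
    have h1 := (B_iff hp h17 (hs j).1).1 (hs j)
    rw [← hx] at h1
    exact h1.trans (orderOf_dvd_natCard x)
  have hne : ∀ i j, i ≠ j → s i ≠ s j := by
    intro i j hij h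
    apply hij
    have h1 := (hs j).2.2.2.2
    rw [← h] at h1
    exact coprime_torus (hs i).1 (hs i).2.1 (hP.odd k) (le_trans (by norm_num) (hP.ge k)) (hs i).2.2.2.2 h1
  have hadj : ∀ i j, i ≠ j → ¬ ∃ x : X, orderOf x = s i * s j := by
    rintro i j hij ⟨x, hx⟩
    exact not_adj hP hij (hs i) (hs j) (hO x) (by rw [hx]; exact Dvd.intro _ rfl)
      (by rw [hx]; exact Dvd.intro_left _ rfl)
  obtain ⟨a, b, c, ha, hb, hc, hab, hac, hbc⟩ := PslCase.three_indices j0
  obtain ⟨hcore, S, hcomp, hSn, hdiv⟩ := CoComp.exists_normal hX T hTc (hs a).1 (hs b).1 (hs c).1 (hne a b hab)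
    (hne a c hac) (hne b c hbc) (hadj a b hab) (hadj a c hac) (hadj b c hbc) (hsX a ha) (hsX b hb) (hsX c hc)
  obtain ⟨i, i', hii, hiS, hiS'⟩ : ∃ i i' : Fin 4, i ≠ i' ∧ s i ∣ Nat.card S ∧ s i' ∣ Nat.card S := by
    rcases hdiv with ⟨h1, h2⟩ | ⟨h1, h2⟩ | ⟨h1, h2⟩
    · exact ⟨a, b, hab, h1, h2⟩
    · exact ⟨a, c, hac, h1, h2⟩
    · exact ⟨b, c, hbc, h1, h2⟩
  have hSC : S ⊓ centralizer (S : Set X) = ⊥ := AbStruct.inf_centralizer hcore hTc hcomp
  have hsimple : IsSimpleGroup S := AbStruct.isSimpleGroup hcore hTc hcomp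
  have hnc : ¬ IsMulCommutative S := AbStruct.not_comm hcomp
  have hna : ∃ a b : S, a * b ≠ b * a := by
    by_contra hcon
    push Not at hcon
    exact hnc ⟨⟨hcon⟩⟩
  have hOS : ∀ x : S, Om P (k + 1) (orderOf x) := fun x => by
    rw [← Subgroup.orderOf_coe]
    exact hO x
  -- large primes do not divide `|C(S)|`
  have hC : ∀ j t, B (P k) j t → ¬ t ∣ Nat.card (centralizer (S : Set X)) := by
    intro j t ht htC
    have key : ∀ i : Fin 4, i ≠ j → s i ∣ Nat.card S → False := by
      intro i hij hi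
      obtain ⟨x, hx⟩ := CoComp.adj (H := S) (L := centralizer (S : Set X))
        (fun a ha b hb => NormalSimple.comm_of_mem ha hb) (hs i).1 ht.1 (by
          intro h
          apply hij
          have h1 := ht.2.2.2.2
          rw [← h] at h1
          exact coprime_torus (hs i).1 (hs i).2.1 (hP.odd k) (le_trans (by norm_num) (hP.ge k))
            (hs i).2.2.2.2 h1) hi htC
      exact not_adj hP hij (hs i) ht (hO x) (by rw [hx]; exact Dvd.intro _ rfl)
        (by rw [hx]; exact Dvd.intro_left _ rfl)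
    by_cases h : i = j
    · exact key i' (fun h' => hii (h.trans h'.symm)) hiS'
    · exact key i h hiS
  -- the Sylow 2-subgroup of `S`
  obtain ⟨TS, hTS⟩ := AbStruct.exists_sylow T hcomp
  have hTSc : IsMulCommutative (TS : Subgroup S) := by
    refine ⟨⟨fun x y => Subtype.ext ?_⟩⟩
    have hx : (x : S) ∈ (T : Subgroup X).subgroupOf S := hTS ▸ x.2
    have hy : (y : S) ∈ (T : Subgroup X).subgroupOf S := hTS ▸ y.2
    exact AbStruct.comm_subgroupOf hTc (x : S) hx (y : S) hy
  -- `s i` is large and divides `|S|`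
  have hsi : 2 * P k + 1 ≤ s i := two_mul_lt hp h17 (hs i)
  have hge := hP.ge k
  norm_num at hge
  -- the case `PSL(2, u)`
  have psl : ∀ (F : Type) (_ : Field F) (_ : Fintype F),
      Nonempty (S ≃* Matrix.ProjectiveSpecialLinearGroup (Fin 2) F) → False := by
    rintro F i1 i2 ⟨e⟩
    obtain ⟨p₀, hch, ⟨f, hf⟩, hp₀, hcard⟩ := FiniteField.card' F
    change Fintype.card F = p₀ ^ f at hcard
    have hbig : 12 ≤ Fintype.card F := by
      by_contra hlt
      push Not at hlt
      have h1 : Nat.card S * Nat.gcd 2 (Fintype.card F - 1) = Fintype.card F * (Fintype.card F ^ 2 - 1) := by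
        rw [Nat.card_congr e.toEquiv]
        exact Cfsg.Agent.ClassicalGeometry.PSL2Basic.card_PSL2_gcd (F := F)
      have h2 : Nat.card S ≤ Fintype.card F * (Fintype.card F ^ 2 - 1) := by
        rw [← h1]
        exact Nat.le_mul_of_pos_right _ (Nat.gcd_pos_of_pos_left _ (by norm_num))
      have h3 : Fintype.card F * (Fintype.card F ^ 2 - 1) ≤ 12 * 144 := by
        apply Nat.mul_le_mul hlt.le
        have : Fintype.card F ^ 2 ≤ 12 ^ 2 := Nat.pow_le_pow_left hlt.le 2
        omega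
      have h4 := Nat.le_of_dvd Nat.card_pos hiS
      omega
    have hsz := PslCase.size hP hOS e hbig
    have hsz2 : 2 ^ f ≤ 4 * (Bd P k * 3 ^ P k) := by
      have : 2 ^ f ≤ p₀ ^ f := Nat.pow_le_pow_left hp₀.two_le f
      omega
    have hidx := PslCase.dvd_of_dvd_index S hSC e (by omega) hp₀ hf hcard
    refine PslCase.no_psl hP hOS e hbig (j0 := j0) ?_
    intro j hj
    obtain ⟨x, hx⟩ := hA j hj
    have h1 : Nat.Coprime (orderOf x) (S ⊔ centralizer (S : Set X)).index := by
      rw [hx, Nat.coprime_iff_gcd_eq_one]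
      by_contra hcon
      obtain ⟨t, ht, htd⟩ := Nat.exists_prime_and_dvd hcon
      exact PslCase.not_dvd_two_mul hP (B_of_dvd_A' hp h17 ht (htd.trans (Nat.gcd_dvd_left _ _))) hf hsz2
        ((htd.trans (Nat.gcd_dvd_right _ _)).trans hidx)
    have h2 : Nat.Coprime (orderOf x) (Nat.card (centralizer (S : Set X))) := by
      rw [hx, Nat.coprime_iff_gcd_eq_one]
      by_contra hcon
      obtain ⟨t, ht, htd⟩ := Nat.exists_prime_and_dvd hcon
      exact hC j t (B_of_dvd_A' hp h17 ht (htd.trans (Nat.gcd_dvd_left _ _))) (htd.trans (Nat.gcd_dvd_right _ _))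
    have h3 := NormalSimple.mem_of_coprime_coprime S hSC h1 h2
    exact ⟨⟨x, h3⟩, by rw [← Subgroup.orderOf_coe]; exact hx⟩
  rcases WalterThm.iso_of_abelian hnc TS hTSc with h | h | h | h
  · exfalso
    obtain ⟨F, i1, i2, -, -, -, he⟩ := h
    exact psl F i1 i2 he
  · exfalso
    obtain ⟨F, i1, i2, -, -, he⟩ := h
    exact psl F i1 i2 he
  · -- the Ree groups
    obtain ⟨F, i1, i2, m, hm, hcard, ⟨e⟩⟩ := h
    have hcardS : Nat.card S = (3 ^ (2 * m + 1)) ^ 3 * (3 ^ (2 * m + 1) - 1) * ((3 ^ (2 * m + 1)) ^ 3 + 1) := by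
      rw [Nat.card_congr e.toEquiv]
      exact Cfsg.Agent.S1069.result hcard
    -- `p ∣ 2m + 1`
    have hpn : P k ∣ 2 * m + 1 := by
      apply dvd_of_pow hp h17 (hs i)
      rw [hcardS] at hiS
      rcases (Nat.Prime.dvd_mul (hs i).1).1 hiS with h1 | h1
      · rcases (Nat.Prime.dvd_mul (hs i).1).1 h1 with h3 | h3
        · exfalso
          have h4 := (hs i).1.dvd_of_dvd_pow ((hs i).1.dvd_of_dvd_pow h3)
          exact (hs i).2.2.1 ((Nat.prime_dvd_prime_iff_eq (hs i).1 Nat.prime_three).1 h4)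
        · have h4 : (3 : ZMod (s i)) ^ (2 * m + 1) = 1 := cast_zero h3
          rw [mul_comm, pow_mul, h4, one_pow]
      · have h4 : (((3 ^ (2 * m + 1)) ^ 3 + 1 : ℕ) : ZMod (s i)) = 0 := (ZMod.natCast_eq_zero_iff _ _).2 h1
        push_cast at h4
        have h5 : ((3 : ZMod (s i)) ^ (2 * m + 1)) ^ 3 = -1 := eq_neg_of_add_eq_zero_left h4
        calc (3 : ZMod (s i)) ^ (6 * (2 * m + 1)) = (((3 : ZMod (s i)) ^ (2 * m + 1)) ^ 3) ^ 2 := by
              rw [← pow_mul, ← pow_mul]
              congr 1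
              ring
          _ = 1 := by rw [h5]; norm_num
    -- `2m + 1 < 2p`
    have hlt : 2 * m + 1 < 2 * P k := by
      obtain ⟨x, hx⟩ := (ReeFacts.om1_iff hm hcard (A (2 * m + 1) 0)).2 (Or.inr (Or.inr ⟨0, dvd_refl _⟩))
      have h1 := Om_le hP (hOS (e.symm x))
      rw [MulEquiv.orderOf_eq, hx, A_zero, Bd_succ] at h1
      by_contra hcon
      push Not at hcon
      have h3 : 3 ^ (2 * P k) ≤ 3 ^ (2 * m + 1) := Nat.pow_le_pow_right (by norm_num) hcon
      have h4 := hP.lt_three k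
      have h5 : 3 ^ (2 * P k) = 3 ^ P k * 3 ^ P k := by rw [two_mul, pow_add]
      have h6 : Bd P k * (2 * 3 ^ P k) = (2 * Bd P k) * 3 ^ P k := by ring
      rw [h6] at h1
      have h7 : (2 * Bd P k + 1) * 3 ^ P k ≤ 3 ^ P k * 3 ^ P k := by
        apply Nat.mul_le_mul_right
        omega
      have h8 : (2 * Bd P k + 1) * 3 ^ P k = 2 * Bd P k * 3 ^ P k + 3 ^ P k := by ring
      have h9 : 3 ^ 2 ≤ 3 ^ P k := Nat.pow_le_pow_right (by norm_num) (by omega)
      norm_num at h9
      omega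
    have hpm : 2 * m + 1 = P k := by
      obtain ⟨d, hd⟩ := hpn
      have h1 : d < 2 := by
        by_contra hcon
        push Not at hcon
        have : P k * 2 ≤ P k * d := Nat.mul_le_mul_left _ hcon
        omega
      have h2 : d ≠ 0 := by
        rintro rfl
        omega
      have h3 : d = 1 := by omega
      rw [hd, h3, mul_one]
    have hm2 : (P k - 1) / 2 = m := by omega
    refine ⟨S, hSn, hSC, ?_, F, i1, i2, by rw [hcard, hpm], ?_⟩
    · -- the index
      have hB : AutFacts.Bender S := Final.benderThm S hsimple hna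
      rw [← Subgroup.index_eq_one]
      by_contra hidx
      obtain ⟨t, ht, htd⟩ := Nat.exists_prime_and_dvd hidx
      have h1 := ReeOut.ree_dvd S hm hcard e hB ht htd
      rw [hpm] at h1
      rcases (Nat.Prime.dvd_mul ht).1 h1 with h3 | h3
      · have ht2 := (Nat.prime_dvd_prime_iff_eq ht Nat.prime_two).1 h3
        subst ht2
        -- the Sylow 2-subgroup lies in `S C(S)`
        apply T.not_dvd_index
        refine htd.trans (Subgroup.index_dvd_of_le ?_)
        intro x hx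
        obtain ⟨y, hy, z, hz, rfl⟩ := AbStruct.exists_inner hcore hTc hcomp hx
        exact Subgroup.mul_mem _ (Subgroup.mem_sup_left hy.2) (Subgroup.mem_sup_right hz.2)
      · have htp := (Nat.prime_dvd_prime_iff_eq ht hp).1 h3
        have htF : Fact t.Prime := ⟨ht⟩
        obtain ⟨x, hx⟩ := exists_prime_orderOf_dvd_card' (G := X) t (htd.trans (Subgroup.index_dvd_card _))
        exact not_self hP (hO x) (by rw [hx, htp])
    · rw [hm2]
      exact ⟨e⟩
  · -- `J₁`
    exfalso
    obtain ⟨e⟩ := h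
    have h1 : Nat.card S = 175560 := by
      rw [Nat.card_congr e.toEquiv]
      exact Cfsg.Agent.SporadicB.J1.Main.isJ1.2
    have h2 := Nat.le_of_dvd Nat.card_pos hiS
    omega

/-- the last factor of a product -/
def snocEquiv {k : ℕ} (R : Fin (k + 1) → Type) [∀ i, Group (R i)] :
    R (Fin.last k) × ((i : Fin k) → R i.castSucc) ≃* ((i : Fin (k + 1)) → R i) where
  toFun x := Fin.snoc (α := R) x.2 x.1
  invFun y := (y (Fin.last k), fun i => y i.castSucc)
  left_inv x := by
    refine Prod.ext ?_ ?_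
    · exact Fin.snoc_last _ _
    · funext i
      exact Fin.snoc_castSucc _ _ _
  right_inv y := by
    funext i
    refine Fin.lastCases ?_ (fun i => ?_) i
    · exact Fin.snoc_last _ _
    · exact Fin.snoc_castSucc _ _ _
  map_mul' x y := by
    funext i
    refine Fin.lastCases ?_ (fun i => ?_) i
    · rw [Pi.mul_apply, Fin.snoc_last, Fin.snoc_last, Fin.snoc_last]
      rfl
    · rw [Pi.mul_apply, Fin.snoc_castSucc, Fin.snoc_castSucc, Fin.snoc_castSucc]
      rfl

/-- **The structure theorem.** -/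
theorem structure_thm (hP : Good P) : ∀ (k : ℕ) (X : Type) [Group X] [Finite X],
    (∀ N : Subgroup X, N.Normal → Group.IsSolvable N → N = ⊥) →
    (∀ x : X, Om P k (orderOf x)) →
    (∀ l < k, ∃ j0 : Fin 4, ∀ j ≠ j0, ∃ x : X, orderOf x = A' (P l) j) →
    ∀ (K : Fin k → Type) [∀ i, Field (K i)] [∀ i, Fintype (K i)],
      (∀ i, Fintype.card (K i) = 3 ^ (P i)) →
      Nonempty (X ≃* ((i : Fin k) → ↥(Cfsg.Lie.twistedG2 (K i) (3 ^ ((P i - 1) / 2))))) := by
  intro k
  induction k with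
  | zero =>
    intro X _ _ _ hO _ K _ _ _
    have h1 : ∀ x : X, x = 1 := by
      intro x
      have := Om_zero (hO x)
      exact orderOf_eq_one_iff.1 this
    refine ⟨⟨⟨fun _ => 1, fun _ => 1, fun x => (h1 x).symm, fun y => ?_⟩, fun x y => ?_⟩⟩
    · funext i
      exact i.elim0
    · funext i
      exact i.elim0
  | succ k ih =>
    intro X _ _ hX hO hA K _ _ hK
    obtain ⟨S, hSn, hSC, htop, F, i1, i2, hF, ⟨e⟩⟩ := find_factor hP hX hO (hA k (Nat.lt_succ_self k))
    have hp := hP.prime k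
    have h17 := hP.ge17 k
    have hfacts := ReeFacts.facts hp h17 hF
    -- the centralizer
    have hCO : ∀ c : centralizer (S : Set X), Om P k (orderOf c) := by
      intro c
      apply Om_restrict hP
      intro j t ht
      obtain ⟨y, hy⟩ := hfacts.exists_order t (Or.inr (Or.inr ⟨j, ht.2.2.2.2⟩))
      have h1 := NormalSimple.orderOf_mul S hSC (e.symm y).2 c.2
      have h2 : orderOf ((e.symm y : S) : X) = t := by
        rw [Subgroup.orderOf_coe, MulEquiv.orderOf_eq, hy]
      have h3 := hO ((e.symm y : S) * (c : X))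
      rw [h1, h2, Subgroup.orderOf_coe, Nat.lcm_comm] at h3
      exact h3
    have hCA : ∀ l < k, ∃ j0 : Fin 4, ∀ j ≠ j0, ∃ c : centralizer (S : Set X), orderOf c = A' (P l) j := by
      intro l hl
      obtain ⟨j0, hj0⟩ := hA l (by omega)
      refine ⟨j0, fun j hj => ?_⟩
      obtain ⟨x, hx⟩ := hj0 j hj
      obtain ⟨y, hy, c, hc, rfl⟩ := NormalSimple.exists_mul S (show x ∈ S ⊔ centralizer (S : Set X) by
        rw [htop]; trivial)
      rw [NormalSimple.orderOf_mul S hSC hy hc] at hx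
      have hy1 : orderOf y = 1 := by
        by_contra hne
        obtain ⟨t, ht, htd⟩ := Nat.exists_prime_and_dvd hne
        have h1 : t ∣ A' (P l) j := by
          rw [← hx]
          exact htd.trans (Nat.dvd_lcm_left _ _)
        have h2 := B_of_dvd_A' (hP.prime l) (hP.ge17 l) ht h1
        have h3 := hfacts.orders (e ⟨y, hy⟩)
        rw [MulEquiv.orderOf_eq] at h3
        refine not_dvd_of_ne' (hP.prime l) (hP.ge17 l) h2 hp h17 ?_ h3 ?_
        · intro h
          have := hP.injective h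
          omega
        · rwa [← Subgroup.orderOf_coe]
      refine ⟨⟨c, hc⟩, ?_⟩
      rw [hy1, Nat.lcm_one_left] at hx
      rw [← Subgroup.orderOf_coe]
      exact hx
    obtain ⟨eC⟩ := ih (centralizer (S : Set X)) (fun N hN hs => NormalSimple.no_solvable S htop hX N hN hs) hCO hCA
      (fun i => K i.castSucc) (fun i => hK i.castSucc)
    obtain ⟨eF⟩ := ReeField.twistedG2_congr (F := F) (K := K (Fin.last k)) (by
      rw [hF, hK]
      rfl) (3 ^ ((P k - 1) / 2))
    let eS : S ≃* ↥(Cfsg.Lie.twistedG2 (K (Fin.last k)) (3 ^ ((P (Fin.last k) - 1) / 2))) := e.trans eF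
    exact ⟨((NormalSimple.prodEquiv S hSC htop).symm.trans (MulEquiv.prodCongr eS eC)).trans
      (snocEquiv (fun i : Fin (k + 1) => ↥(Cfsg.Lie.twistedG2 (K i) (3 ^ ((P i - 1) / 2)))))⟩

end Cfsg.Agent.H412.ProdStruct
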