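import Mathlib

/-!
# Arithmetic of the element orders of the small Ree groups `²G₂(3^p)`, `p` prime (helper412)
-/

set_option autoImplicit false

namespace Cfsg.Agent.H412.ReeArith

/-- The orders of the maximal tori of `²G₂(3^p)`. -/
def A (p : ℕ) (j : Fin 4) : ℕ :=
  ![3 ^ p - 1, (3 ^ p + 1) / 2, 3 ^ p - 3 ^ ((p + 1) / 2) + 1, 3 ^ p + 3 ^ ((p + 1) / 2) + 1] j

/-- The set of element orders of `²G₂(3^p)`. -/
def Om1 (p d : ℕ) : Prop := d ∣ 6 ∨ d ∣ 9 ∨ ∃ j, d ∣ A p j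

/-- The large primes dividing the order of the `j`-th torus. -/
def B (p : ℕ) (j : Fin 4) (s : ℕ) : Prop := s.Prime ∧ s ≠ 2 ∧ s ≠ 3 ∧ s ≠ 7 ∧ s ∣ A p j

theorem A_zero (p : ℕ) : A p 0 = 3 ^ p - 1 := rfl
theorem A_one (p : ℕ) : A p 1 = (3 ^ p + 1) / 2 := rfl
theorem A_two (p : ℕ) : A p 2 = 3 ^ p - 3 ^ ((p + 1) / 2) + 1 := rfl
theorem A_three (p : ℕ) : A p 3 = 3 ^ p + 3 ^ ((p + 1) / 2) + 1 := rfl

/-- Parametrisation by `x = 3^m`, `p = 2m+1`. -/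
theorem param {p : ℕ} (hp : Odd p) (h5 : 5 ≤ p) : ∃ m x : ℕ, p = 2 * m + 1 ∧ x = 3 ^ m ∧ 9 ≤ x ∧ 3 ^ p = 3 * x ^ 2 ∧
    3 ^ ((p + 1) / 2) = 3 * x ∧ A p 0 = 3 * x ^ 2 - 1 ∧ 2 * A p 1 = 3 * x ^ 2 + 1 ∧
    A p 2 + 3 * x = 3 * x ^ 2 + 1 ∧ A p 3 = 3 * x ^ 2 + 3 * x + 1 := by
  obtain ⟨m, rfl⟩ := hp
  have h1 : (2 * m + 1 + 1) / 2 = m + 1 := by omega
  have h2 : (3 : ℕ) ^ (2 * m + 1) = 3 * (3 ^ m) ^ 2 := by ring
  have h3 : (3 : ℕ) ^ ((2 * m + 1 + 1) / 2) = 3 * 3 ^ m := by rw [h1]; ring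
  have h9 : 9 ≤ 3 ^ m := by
    calc 9 = 3 ^ 2 := by norm_num
      _ ≤ 3 ^ m := Nat.pow_le_pow_right (by norm_num) (by omega)
  have hodd : (3 * (3 ^ m) ^ 2) % 2 = 1 := by
    rw [← h2, Nat.pow_mod]
    norm_num
  refine ⟨m, 3 ^ m, rfl, rfl, h9, h2, h3, ?_, ?_, ?_, ?_⟩
  · rw [A_zero, h2]
  · rw [A_one, h2]
    omega
  · rw [A_two, h2, h3]
    have h4 : 3 * 3 ^ m ≤ 3 * (3 ^ m) ^ 2 := by nlinarith
    omega
  · rw [A_three, h2, h3]

theorem A_pos {p : ℕ} (hp : Odd p) (h5 : 5 ≤ p) (j : Fin 4) : 1 < A p j := by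
  obtain ⟨m, x, -, -, hx, -, -, h0, h1, h2, h3⟩ := param hp h5
  fin_cases j
  · change 1 < A p 0
    have : 81 ≤ x ^ 2 := by nlinarith
    omega
  · change 1 < A p 1
    have : 81 ≤ x ^ 2 := by nlinarith
    omega
  · change 1 < A p 2
    have : 9 * x ≤ x ^ 2 := by nlinarith
    omega
  · change 1 < A p 3
    omega

theorem A_le {p : ℕ} (hp : Odd p) (h5 : 5 ≤ p) (j : Fin 4) : A p j ≤ 2 * 3 ^ p := by
  obtain ⟨m, x, -, -, hx, hq, -, h0, h1, h2, h3⟩ := param hp h5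
  have h9 : 9 * x ≤ x ^ 2 := by nlinarith
  rw [hq]
  fin_cases j
  · change A p 0 ≤ _
    omega
  · change A p 1 ≤ _
    omega
  · change A p 2 ≤ _
    omega
  · change A p 3 ≤ _
    omega

theorem pow_mod_three {p : ℕ} (hp : 0 < p) : 3 ^ p % 3 = 0 := by
  obtain ⟨k, rfl⟩ : ∃ k, p = k + 1 := ⟨p - 1, by omega⟩
  rw [pow_succ]
  omega

theorem three_not_dvd {p : ℕ} (hp : Odd p) (h5 : 5 ≤ p) (j : Fin 4) : ¬ 3 ∣ A p j := by
  obtain ⟨m, x, -, -, hx, hq, -, h0, h1, h2, h3⟩ := param hp h5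
  fin_cases j
  · change ¬ 3 ∣ A p 0
    omega
  · change ¬ 3 ∣ A p 1
    omega
  · change ¬ 3 ∣ A p 2
    omega
  · change ¬ 3 ∣ A p 3
    omega

theorem x_odd {m x : ℕ} (hx : x = 3 ^ m) : x % 2 = 1 := by
  rw [hx, Nat.pow_mod]
  norm_num

theorem sq_mod_eight {x : ℕ} (h : x % 2 = 1) : x ^ 2 % 8 = 1 := by
  have h1 : x % 8 = 1 ∨ x % 8 = 3 ∨ x % 8 = 5 ∨ x % 8 = 7 := by omega
  rcases h1 with h1 | h1 | h1 | h1 <;> rw [Nat.pow_mod, h1]

theorem odd_two {p : ℕ} (hp : Odd p) (h5 : 5 ≤ p) : A p 2 % 2 = 1 := by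
  obtain ⟨m, x, -, hxm, hx, hq, -, h0, h1, h2, h3⟩ := param hp h5
  have h4 := x_odd hxm
  have h6 := sq_mod_eight h4
  omega

theorem odd_three {p : ℕ} (hp : Odd p) (h5 : 5 ≤ p) : A p 3 % 2 = 1 := by
  obtain ⟨m, x, -, hxm, hx, hq, -, h0, h1, h2, h3⟩ := param hp h5
  have h4 := x_odd hxm
  have h6 := sq_mod_eight h4
  omega

theorem zero_mod_four {p : ℕ} (hp : Odd p) (h5 : 5 ≤ p) : A p 0 % 4 = 2 := by
  obtain ⟨m, x, -, hxm, hx, hq, -, h0, h1, h2, h3⟩ := param hp h5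
  have h4 := x_odd hxm
  have h6 := sq_mod_eight h4
  omega

theorem one_mod_four {p : ℕ} (hp : Odd p) (h5 : 5 ≤ p) : A p 1 % 4 = 2 := by
  obtain ⟨m, x, -, hxm, hx, hq, -, h0, h1, h2, h3⟩ := param hp h5
  have h4 := x_odd hxm
  have h6 := sq_mod_eight h4
  omega

theorem four_not_dvd {p : ℕ} (hp : Odd p) (h5 : 5 ≤ p) (j : Fin 4) : ¬ 4 ∣ A p j := by
  have e0 := zero_mod_four hp h5
  have e1 := one_mod_four hp h5
  have e2 := odd_two hp h5
  have e3 := odd_three hp h5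
  fin_cases j
  · change ¬ 4 ∣ A p 0
    omega
  · change ¬ 4 ∣ A p 1
    omega
  · change ¬ 4 ∣ A p 2
    omega
  · change ¬ 4 ∣ A p 3
    omega

theorem pow_mod_seven (n : ℕ) : 3 ^ (6 * n + 1) % 7 = 3 ∧ 3 ^ (6 * n + 5) % 7 = 5 := by
  have h : 3 ^ (6 * n) % 7 = 1 := by
    rw [pow_mul, Nat.pow_mod]
    norm_num
  constructor
  · rw [pow_add, Nat.mul_mod, h]
    norm_num
  · rw [pow_add, Nat.mul_mod, h]
    norm_num

theorem prime_mod_six {p : ℕ} (hp : p.Prime) (h5 : 5 ≤ p) : p % 6 = 1 ∨ p % 6 = 5 := by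
  have h2 : ¬ 2 ∣ p := fun h => by
    have := (Nat.prime_dvd_prime_iff_eq Nat.prime_two hp).1 h
    omega
  have h3 : ¬ 3 ∣ p := fun h => by
    have := (Nat.prime_dvd_prime_iff_eq Nat.prime_three hp).1 h
    omega
  omega

theorem pow_mod_seven' {p : ℕ} (hp : p.Prime) (h5 : 5 ≤ p) : 3 ^ p % 7 = 3 ∨ 3 ^ p % 7 = 5 := by
  rcases prime_mod_six hp h5 with h | h
  · left
    have : p = 6 * (p / 6) + 1 := by omega
    rw [this]
    exact (pow_mod_seven _).1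
  · right
    have : p = 6 * (p / 6) + 5 := by omega
    rw [this]
    exact (pow_mod_seven _).2

theorem odd_of_prime {p : ℕ} (hp : p.Prime) (h5 : 5 ≤ p) : Odd p := hp.odd_of_ne_two (by omega)

theorem seven_not_dvd_zero {p : ℕ} (hp : p.Prime) (h5 : 5 ≤ p) : ¬ 7 ∣ A p 0 := by
  have h := pow_mod_seven' hp h5
  rw [A_zero]
  have : 0 < 3 ^ p := by positivity
  omega

theorem seven_not_dvd_one {p : ℕ} (hp : p.Prime) (h5 : 5 ≤ p) : ¬ 7 ∣ A p 1 := by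
  have h := pow_mod_seven' hp h5
  obtain ⟨m, x, -, hxm, hx, hq, -, h0, h1, h2, h3⟩ := param (odd_of_prime hp h5) h5
  omega

/-- the product of the last two torus orders -/
theorem mul_eq {p : ℕ} (hp : Odd p) (h5 : 5 ≤ p) : A p 2 * A p 3 + 3 ^ p = (3 ^ p) ^ 2 + 1 := by
  obtain ⟨m, x, -, hxm, hx, hq, -, h0, h1, h2, h3⟩ := param hp h5
  rw [hq, h3]
  zify at h2 ⊢
  have h4 : (A p 2 : ℤ) = 3 * x ^ 2 + 1 - 3 * x := by linarith
  rw [h4]
  ring

/-! ### Primes dividing torus orders -/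

section Mod

variable {p s : ℕ}

theorem cast_zero (h : s ∣ A p 0) : (3 : ZMod s) ^ p = 1 := by
  rw [A_zero] at h
  have h1 : ((3 ^ p - 1 : ℕ) : ZMod s) = 0 := (ZMod.natCast_eq_zero_iff _ _).2 h
  have h2 : 1 ≤ 3 ^ p := Nat.one_le_pow _ _ (by norm_num)
  rw [Nat.cast_sub h2, sub_eq_zero] at h1
  exact_mod_cast h1

theorem cast_one (hp : Odd p) (h5 : 5 ≤ p) (h : s ∣ A p 1) : (3 : ZMod s) ^ p = -1 := by
  obtain ⟨m, x, -, hxm, hx, hq, -, h0, h1, h2, h3⟩ := param hp h5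
  have h4 : s ∣ 3 ^ p + 1 := by
    rw [hq, ← h1]
    exact h.mul_left 2
  have h6 : ((3 ^ p + 1 : ℕ) : ZMod s) = 0 := (ZMod.natCast_eq_zero_iff _ _).2 h4
  rw [Nat.cast_add, Nat.cast_one] at h6
  have := eq_neg_of_add_eq_zero_left h6
  exact_mod_cast this

theorem cast_mul (hp : Odd p) (h5 : 5 ≤ p) (h : s ∣ A p 2 * A p 3) :
    ((3 : ZMod s) ^ p) ^ 2 - (3 : ZMod s) ^ p + 1 = 0 := by
  have h1 := mul_eq hp h5
  have h2 : ((A p 2 * A p 3 : ℕ) : ZMod s) = 0 := (ZMod.natCast_eq_zero_iff _ _).2 h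
  have h3 := congrArg (Nat.cast : ℕ → ZMod s) h1
  rw [Nat.cast_add, h2, zero_add] at h3
  push_cast at h3
  rw [sub_add_eq_add_sub, ← h3, sub_self]

theorem cast_two (hp : Odd p) (h5 : 5 ≤ p) (h : s ∣ A p 2) :
    ((3 : ZMod s) ^ p) ^ 2 - (3 : ZMod s) ^ p + 1 = 0 := cast_mul hp h5 (h.mul_right _)

theorem cast_three (hp : Odd p) (h5 : 5 ≤ p) (h : s ∣ A p 3) :
    ((3 : ZMod s) ^ p) ^ 2 - (3 : ZMod s) ^ p + 1 = 0 := cast_mul hp h5 (h.mul_left _)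

/-- the three possibilities -/
theorem cast_cases (hp : Odd p) (h5 : 5 ≤ p) (j : Fin 4) (h : s ∣ A p j) :
    (j = 0 ∧ (3 : ZMod s) ^ p = 1) ∨ (j = 1 ∧ (3 : ZMod s) ^ p = -1) ∨
      ((j = 2 ∨ j = 3) ∧ ((3 : ZMod s) ^ p) ^ 2 - (3 : ZMod s) ^ p + 1 = 0) := by
  fin_cases j
  · exact Or.inl ⟨rfl, cast_zero h⟩
  · exact Or.inr (Or.inl ⟨rfl, cast_one hp h5 h⟩)
  · exact Or.inr (Or.inr ⟨Or.inl rfl, cast_two hp h5 h⟩)
  · exact Or.inr (Or.inr ⟨Or.inr rfl, cast_three hp h5 h⟩)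

theorem pow_six (hp : Odd p) (h5 : 5 ≤ p) {j : Fin 4} (h : s ∣ A p j) : (3 : ZMod s) ^ (6 * p) = 1 := by
  rw [mul_comm, pow_mul]
  rcases cast_cases hp h5 j h with ⟨-, h⟩ | ⟨-, h⟩ | ⟨-, h⟩
  · rw [h, one_pow]
  · rw [h]
    norm_num
  · set q : ZMod s := 3 ^ p
    linear_combination (q ^ 4 + q ^ 3 - q - 1) * h

theorem coprime_torus (hs : s.Prime) (hs2 : s ≠ 2) (hp : Odd p) (h5 : 5 ≤ p) {i j : Fin 4}
    (hi : s ∣ A p i) (hj : s ∣ A p j) : i = j := by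
  have hs3 : s ≠ 3 := by
    rintro rfl
    exact three_not_dvd hp h5 i hi
  have hF : Fact s.Prime := ⟨hs⟩
  have e2 : (2 : ZMod s) ≠ 0 := by
    intro h
    have h1 : ((2 : ℕ) : ZMod s) = 0 := by exact_mod_cast h
    rw [ZMod.natCast_eq_zero_iff, Nat.prime_dvd_prime_iff_eq hs Nat.prime_two] at h1
    exact hs2 h1
  have e3 : (3 : ZMod s) ≠ 0 := by
    intro h
    have h1 : ((3 : ℕ) : ZMod s) = 0 := by exact_mod_cast h
    rw [ZMod.natCast_eq_zero_iff, Nat.prime_dvd_prime_iff_eq hs Nat.prime_three] at h1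
    exact hs3 h1
  have e01 : ∀ x : ZMod s, x = 1 → x = -1 → False := by
    intro x h1 h2
    apply e2
    linear_combination h2 - h1
  have e02 : ∀ x : ZMod s, x = 1 → x ^ 2 - x + 1 = 0 → False := by
    intro x h1 h2
    rw [h1] at h2
    norm_num at h2
  have e12 : ∀ x : ZMod s, x = -1 → x ^ 2 - x + 1 = 0 → False := by
    intro x h1 h2
    rw [h1] at h2
    apply e3
    linear_combination h2
  have e23 : s ∣ A p 2 → s ∣ A p 3 → False := by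
    intro h1 h2
    obtain ⟨m, x, -, hxm, hx, hq, -, -, -, g2, g3⟩ := param hp h5
    have h3 : s ∣ 6 * x := by
      have h4 : A p 3 = A p 2 + 6 * x := by omega
      rw [h4] at h2
      exact (Nat.dvd_add_right h1).1 h2
    rcases (Nat.Prime.dvd_mul hs).1 h3 with h4 | h4
    · have h6 : s ∣ 2 * 3 := h4
      rcases (Nat.Prime.dvd_mul hs).1 h6 with h7 | h7
      · exact hs2 ((Nat.prime_dvd_prime_iff_eq hs Nat.prime_two).1 h7)
      · exact hs3 ((Nat.prime_dvd_prime_iff_eq hs Nat.prime_three).1 h7)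
    · rw [hxm] at h4
      exact hs3 ((Nat.prime_dvd_prime_iff_eq hs Nat.prime_three).1 (hs.dvd_of_dvd_pow h4))
  rcases cast_cases hp h5 i hi with ⟨rfl, h⟩ | ⟨rfl, h⟩ | ⟨hi', h⟩ <;>
    rcases cast_cases hp h5 j hj with ⟨rfl, h'⟩ | ⟨rfl, h'⟩ | ⟨hj', h'⟩
  · rfl
  · exact absurd h' (fun h' => e01 _ h h')
  · exact absurd h' (fun h' => e02 _ h h')
  · exact absurd h' (fun h' => e01 _ h' h)
  · rfl
  · exact absurd h' (fun h' => e12 _ h h')
  · exact absurd h' (fun h' => e02 _ h' h)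
  · exact absurd h' (fun h' => e12 _ h' h)
  · rcases hi' with rfl | rfl <;> rcases hj' with rfl | rfl
    · rfl
    · exact absurd hj (fun hj => e23 hi hj)
    · exact absurd hj (fun hj => e23 hj hi)
    · rfl

theorem not_thirteen (hp : p.Prime) (h5 : 5 ≤ p) (j : Fin 4) : ¬ 13 ∣ A p j := by
  intro h
  have h3 : (3 : ZMod 13) ^ 3 = 1 := by decide
  have hcase : (3 : ZMod 13) ^ p = 3 ∨ (3 : ZMod 13) ^ p = 9 := by
    have h1 : p = 3 * (p / 3) + p % 3 := by omega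
    have h2 : p % 3 = 1 ∨ p % 3 = 2 := by
      have := prime_mod_six hp h5
      omega
    rw [h1, pow_add, pow_mul, h3, one_pow, one_mul]
    rcases h2 with h2 | h2
    · left
      rw [h2]
      decide
    · right
      rw [h2]
      decide
  rcases cast_cases (odd_of_prime hp h5) h5 j h with ⟨-, h⟩ | ⟨-, h⟩ | ⟨-, h⟩ <;>
    rcases hcase with h' | h' <;> rw [h'] at h <;> revert h <;> decide

/-- the order of `3` modulo a large prime dividing a torus order is divisible by `p` -/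
theorem dvd_orderOf (hp : p.Prime) (h17 : 17 ≤ p) {j : Fin 4} (h : B p j s) :
    p ∣ orderOf (3 : ZMod s) := by
  obtain ⟨hs, hs2, hs3, hs7, hd⟩ := h
  by_contra hcon
  have h1 : orderOf (3 : ZMod s) ∣ 6 * p :=
    orderOf_dvd_of_pow_eq_one (pow_six (odd_of_prime hp (by omega)) (by omega) hd)
  have h2 : Nat.Coprime (orderOf (3 : ZMod s)) p := ((Nat.Prime.coprime_iff_not_dvd hp).2 hcon).symm
  have h3 : orderOf (3 : ZMod s) ∣ 6 := h2.dvd_of_dvd_mul_right h1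
  have h4 : (3 : ZMod s) ^ 6 = 1 := orderOf_dvd_iff_pow_eq_one.1 h3
  have h5 : ((728 : ℕ) : ZMod s) = 0 := by
    have : ((728 : ℕ) : ZMod s) = 3 ^ 6 - 1 := by norm_num
    rw [this, h4, sub_self]
  rw [ZMod.natCast_eq_zero_iff, show 728 = 2 * 2 * 2 * 7 * 13 by norm_num] at h5
  have e2 : ¬ s ∣ 2 := fun h => hs2 ((Nat.prime_dvd_prime_iff_eq hs Nat.prime_two).1 h)
  have e7 : ¬ s ∣ 7 := fun h => hs7 ((Nat.prime_dvd_prime_iff_eq hs (by norm_num)).1 h)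
  rw [Nat.Prime.dvd_mul hs, Nat.Prime.dvd_mul hs, Nat.Prime.dvd_mul hs, Nat.Prime.dvd_mul hs] at h5
  have h6 : s ∣ 13 := by tauto
  have h7 : s = 13 := (Nat.prime_dvd_prime_iff_eq hs (by norm_num)).1 h6
  subst h7
  exact not_thirteen hp (by omega) j hd

theorem three_ne_zero_zmod (hs : s.Prime) (hs3 : s ≠ 3) : (3 : ZMod s) ≠ 0 := by
  intro h
  have h1 : ((3 : ℕ) : ZMod s) = 0 := by exact_mod_cast h
  rw [ZMod.natCast_eq_zero_iff, Nat.prime_dvd_prime_iff_eq hs Nat.prime_three] at h1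
  exact hs3 h1

/-- such a prime is at least `2p + 1` -/
theorem two_mul_lt (hp : p.Prime) (h17 : 17 ≤ p) {j : Fin 4} (h : B p j s) : 2 * p + 1 ≤ s := by
  have hF : Fact s.Prime := ⟨h.1⟩
  have h1 := dvd_orderOf hp h17 h
  have h2 : orderOf (3 : ZMod s) ∣ s - 1 :=
    orderOf_dvd_of_pow_eq_one (ZMod.pow_card_sub_one_eq_one (three_ne_zero_zmod h.1 h.2.2.1))
  have h3 : p ∣ s - 1 := h1.trans h2
  have h4 : s % 2 = 1 := Nat.odd_iff.1 (h.1.odd_of_ne_two h.2.1)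
  obtain ⟨c, hc⟩ := h3
  have h6 : 2 ≤ s := h.1.two_le
  have h7 : c ≠ 0 := by
    rintro rfl
    omega
  have h8 : c ≠ 1 := by
    rintro rfl
    have := Nat.odd_iff.1 (odd_of_prime hp (by omega))
    omega
  have h9 : 2 ≤ c := by omega
  have h10 : p * 2 ≤ p * c := Nat.mul_le_mul_left p h9
  omega

/-- if `3 ^ (6 n) ≡ 1` modulo such a prime then `p ∣ n` -/
theorem dvd_of_pow (hp : p.Prime) (h17 : 17 ≤ p) {j : Fin 4} (h : B p j s) {n : ℕ}
    (hn : (3 : ZMod s) ^ (6 * n) = 1) : p ∣ n := by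
  have h1 : p ∣ 6 * n := (dvd_orderOf hp h17 h).trans (orderOf_dvd_of_pow_eq_one hn)
  rcases (Nat.Prime.dvd_mul hp).1 h1 with h2 | h2
  · have := Nat.le_of_dvd (by norm_num) h2
    omega
  · exact h2

/-- large primes for different exponents are different -/
theorem not_dvd_of_ne (hp : p.Prime) (h17 : 17 ≤ p) {j : Fin 4} (h : B p j s) {p' : ℕ} (hp' : p'.Prime)
    (h17' : 17 ≤ p') (hne : p ≠ p') (j' : Fin 4) : ¬ s ∣ A p' j' := by
  intro hd
  have h1 : p ∣ p' := dvd_of_pow hp h17 h (pow_six (odd_of_prime hp' (by omega)) (by omega) hd)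
  exact hne ((Nat.prime_dvd_prime_iff_eq hp hp').1 h1)

theorem not_dvd_six (h : ∃ p j, B p j s) : ¬ s ∣ 6 := by
  obtain ⟨p, j, hs, hs2, hs3, -, -⟩ := h
  intro h6
  have h7 : s ∣ 2 * 3 := h6
  rcases (Nat.Prime.dvd_mul hs).1 h7 with h7 | h7
  · exact hs2 ((Nat.prime_dvd_prime_iff_eq hs Nat.prime_two).1 h7)
  · exact hs3 ((Nat.prime_dvd_prime_iff_eq hs Nat.prime_three).1 h7)

theorem not_dvd_nine (h : ∃ p j, B p j s) : ¬ s ∣ 9 := by
  obtain ⟨p, j, hs, hs2, hs3, -, -⟩ := h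
  intro h6
  have h7 : s ∣ 3 * 3 := h6
  rcases (Nat.Prime.dvd_mul hs).1 h7 with h7 | h7 <;>
  exact hs3 ((Nat.prime_dvd_prime_iff_eq hs Nat.prime_three).1 h7)

/-- an element order divisible by a large prime divides the corresponding torus order -/
theorem dvd_torus (hp : Odd p) (h5 : 5 ≤ p) {j : Fin 4} (h : B p j s) {d : ℕ} (hd : Om1 p d)
    (hsd : s ∣ d) : d ∣ A p j := by
  rcases hd with h1 | h1 | ⟨j', h1⟩
  · exact absurd (hsd.trans h1) (not_dvd_six ⟨p, j, h⟩)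
  · exact absurd (hsd.trans h1) (not_dvd_nine ⟨p, j, h⟩)
  · have := coprime_torus h.1 h.2.1 hp h5 h.2.2.2.2 (hsd.trans h1)
    rw [this]
    exact h1

theorem not_dvd_of_ne' (hp : p.Prime) (h17 : 17 ≤ p) {j : Fin 4} (h : B p j s) {p' : ℕ} (hp' : p'.Prime)
    (h17' : 17 ≤ p') (hne : p ≠ p') {d : ℕ} (hd : Om1 p' d) : ¬ s ∣ d := by
  intro hsd
  rcases hd with h1 | h1 | ⟨j', h1⟩
  · exact absurd (hsd.trans h1) (not_dvd_six ⟨p, j, h⟩)
  · exact absurd (hsd.trans h1) (not_dvd_nine ⟨p, j, h⟩)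
  · exact not_dvd_of_ne hp h17 h hp' h17' hne j' (hsd.trans h1)

/-- `49` does not divide the torus orders -/
theorem not_fortynine (hp : p.Prime) (h17 : 17 ≤ p) (j : Fin 4) : ¬ 7 * 7 ∣ A p j := by
  intro h
  have h1 : (3 : ZMod 49) ^ (6 * p) = 1 := pow_six (odd_of_prime hp (by omega)) (by omega) h
  rw [pow_mul] at h1
  have h2 : ((3 : ZMod 49) ^ 6) ^ 7 = 1 := by decide
  have h3 : Nat.gcd 7 p = 1 := by
    rw [← Nat.coprime_iff_gcd_eq_one, Nat.coprime_primes (by norm_num) hp]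
    omega
  have h4 : ((3 : ZMod 49) ^ 6) ^ (Nat.gcd 7 p) = 1 := by
    rw [← orderOf_dvd_iff_pow_eq_one]
    exact Nat.dvd_gcd (orderOf_dvd_of_pow_eq_one h2) (orderOf_dvd_of_pow_eq_one h1)
  rw [h3] at h4
  revert h4
  decide

/-- `p` does not divide the torus orders -/
theorem self_not_dvd (hp : p.Prime) (h17 : 17 ≤ p) (j : Fin 4) : ¬ p ∣ A p j := by
  intro h
  have hF : Fact p.Prime := ⟨hp⟩
  have h1 : (3 : ZMod p) ^ p = 3 := ZMod.pow_card 3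
  have key : ∀ n : ℕ, 0 < n → n < 17 → ((n : ℕ) : ZMod p) ≠ 0 := by
    intro n hn0 hn
    rw [Ne, ZMod.natCast_eq_zero_iff]
    intro hd
    have := Nat.le_of_dvd hn0 hd
    omega
  rcases cast_cases (odd_of_prime hp (by omega)) (by omega) j h with ⟨-, h⟩ | ⟨-, h⟩ | ⟨-, h⟩ <;> rw [h1] at h
  · apply key 2 (by norm_num) (by norm_num)
    push_cast
    linear_combination h
  · apply key 4 (by norm_num) (by norm_num)
    push_cast
    linear_combination h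
  · apply key 7 (by norm_num) (by norm_num)
    push_cast
    linear_combination h

end Mod

/-! ### The part of the torus order prime to 42 -/

section Prime

variable {p : ℕ}

/-- the `{2, 7}`-part of the torus order -/
def D (p : ℕ) (j : Fin 4) : ℕ := Nat.gcd 14 (A p j)

/-- the large part of the torus order -/
def A' (p : ℕ) (j : Fin 4) : ℕ := A p j / D p j

theorem mul_A' (p : ℕ) (j : Fin 4) : D p j * A' p j = A p j :=
  Nat.mul_div_cancel' (Nat.gcd_dvd_right _ _)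

theorem D_dvd (p : ℕ) (j : Fin 4) : D p j ∣ 14 := Nat.gcd_dvd_left _ _

theorem A'_dvd (p : ℕ) (j : Fin 4) : A' p j ∣ A p j := Nat.div_dvd_of_dvd (Nat.gcd_dvd_right _ _)

theorem dvd_D_of_dvd {p : ℕ} {j : Fin 4} {n : ℕ} (h14 : n ∣ 14) (h : n ∣ A p j) : n ∣ D p j := Nat.dvd_gcd h14 h

theorem D_zero (hp : p.Prime) (h17 : 17 ≤ p) : D p 0 = 2 := by
  have h2 : 2 ∣ D p 0 := dvd_D_of_dvd (by norm_num) (by
    have := zero_mod_four (odd_of_prime hp (by omega)) (by omega)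
    omega)
  have h7 : ¬ 7 ∣ D p 0 := fun h => seven_not_dvd_zero hp (by omega) (h.trans (Nat.gcd_dvd_right _ _))
  have h14 := D_dvd p 0
  have h3 : D p 0 ∈ Nat.divisors 14 := Nat.mem_divisors.2 ⟨h14, by norm_num⟩
  have h4 : Nat.divisors 14 = {1, 2, 7, 14} := by decide
  rw [h4] at h3
  simp only [Finset.mem_insert, Finset.mem_singleton] at h3
  omega

theorem D_one (hp : p.Prime) (h17 : 17 ≤ p) : D p 1 = 2 := by
  have h2 : 2 ∣ D p 1 := dvd_D_of_dvd (by norm_num) (by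
    have := one_mod_four (odd_of_prime hp (by omega)) (by omega)
    omega)
  have h7 : ¬ 7 ∣ D p 1 := fun h => seven_not_dvd_one hp (by omega) (h.trans (Nat.gcd_dvd_right _ _))
  have h14 := D_dvd p 1
  have h3 : D p 1 ∈ Nat.divisors 14 := Nat.mem_divisors.2 ⟨h14, by norm_num⟩
  have h4 : Nat.divisors 14 = {1, 2, 7, 14} := by decide
  rw [h4] at h3
  simp only [Finset.mem_insert, Finset.mem_singleton] at h3
  omega

theorem D_two (hp : p.Prime) (h17 : 17 ≤ p) : D p 2 = 1 ∨ D p 2 = 7 := by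
  have h2 : ¬ 2 ∣ D p 2 := fun h => by
    have h1 := odd_two (odd_of_prime hp (by omega)) (by omega : 5 ≤ p)
    have h3 : 2 ∣ A p 2 := h.trans (Nat.gcd_dvd_right _ _)
    omega
  have h14 := D_dvd p 2
  have h3 : D p 2 ∈ Nat.divisors 14 := Nat.mem_divisors.2 ⟨h14, by norm_num⟩
  have h4 : Nat.divisors 14 = {1, 2, 7, 14} := by decide
  rw [h4] at h3
  simp only [Finset.mem_insert, Finset.mem_singleton] at h3
  omega

theorem D_three (hp : p.Prime) (h17 : 17 ≤ p) : D p 3 = 1 ∨ D p 3 = 7 := by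
  have h2 : ¬ 2 ∣ D p 3 := fun h => by
    have h1 := odd_three (odd_of_prime hp (by omega)) (by omega : 5 ≤ p)
    have h3 : 2 ∣ A p 3 := h.trans (Nat.gcd_dvd_right _ _)
    omega
  have h14 := D_dvd p 3
  have h3 : D p 3 ∈ Nat.divisors 14 := Nat.mem_divisors.2 ⟨h14, by norm_num⟩
  have h4 : Nat.divisors 14 = {1, 2, 7, 14} := by decide
  rw [h4] at h3
  simp only [Finset.mem_insert, Finset.mem_singleton] at h3
  omega

/-- the large part is prime to `2`, `3`, `7` -/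
theorem B_of_dvd_A' (hp : p.Prime) (h17 : 17 ≤ p) {j : Fin 4} {s : ℕ} (hs : s.Prime) (h : s ∣ A' p j) :
    B p j s := by
  have h1 : s ∣ A p j := h.trans (A'_dvd p j)
  refine ⟨hs, ?_, ?_, ?_, h1⟩
  · rintro rfl
    have h2 : 2 ∣ D p j := dvd_D_of_dvd (by norm_num) h1
    have h3 : 2 * 2 ∣ D p j * A' p j := Nat.mul_dvd_mul h2 h
    rw [mul_A'] at h3
    exact four_not_dvd (odd_of_prime hp (by omega)) (by omega) j h3
  · rintro rfl
    exact three_not_dvd (odd_of_prime hp (by omega)) (by omega) j h1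
  · rintro rfl
    have h2 : 7 ∣ D p j := dvd_D_of_dvd (by norm_num) h1
    have h3 : 7 * 7 ∣ D p j * A' p j := Nat.mul_dvd_mul h2 h
    rw [mul_A'] at h3
    exact not_fortynine hp h17 j h3

theorem B_iff (hp : p.Prime) (h17 : 17 ≤ p) {j : Fin 4} {s : ℕ} (hs : s.Prime) :
    B p j s ↔ s ∣ A' p j := by
  constructor
  · intro h
    have h1 : s ∣ D p j * A' p j := by
      rw [mul_A']
      exact h.2.2.2.2
    rcases (Nat.Prime.dvd_mul hs).1 h1 with h2 | h2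
    · exfalso
      have h3 : s ∣ 2 * 7 := h2.trans (D_dvd p j)
      rcases (Nat.Prime.dvd_mul hs).1 h3 with h4 | h4
      · exact h.2.1 ((Nat.prime_dvd_prime_iff_eq hs Nat.prime_two).1 h4)
      · exact h.2.2.2.1 ((Nat.prime_dvd_prime_iff_eq hs (by norm_num)).1 h4)
    · exact h2
  · exact B_of_dvd_A' hp h17 hs

/-- the large part is large -/
theorem le_A' (hp : p.Prime) (h17 : 17 ≤ p) (j : Fin 4) : 3 ^ p ≤ 14 * A' p j := by
  obtain ⟨m, x, -, -, hx, hq, -, h0, h1, h2, h3⟩ := param (odd_of_prime hp (by omega)) (by omega : 5 ≤ p)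
  have h9 : 9 * x ≤ x ^ 2 := by nlinarith
  have e0 := mul_A' p 0
  have e1 := mul_A' p 1
  have e2 := mul_A' p 2
  have e3 := mul_A' p 3
  rw [hq]
  fin_cases j
  · change _ ≤ 14 * A' p 0
    rw [D_zero hp h17] at e0
    omega
  · change _ ≤ 14 * A' p 1
    rw [D_one hp h17] at e1
    omega
  · change _ ≤ 14 * A' p 2
    rcases D_two hp h17 with h | h <;> rw [h] at e2 <;> omega
  · change _ ≤ 14 * A' p 3
    rcases D_three hp h17 with h | h <;> rw [h] at e3 <;> omega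

theorem one_lt_A' (hp : p.Prime) (h17 : 17 ≤ p) (j : Fin 4) : 1 < A' p j := by
  have h1 := le_A' hp h17 j
  have h2 : 3 ^ 17 ≤ 3 ^ p := Nat.pow_le_pow_right (by norm_num) h17
  norm_num at h2
  omega

theorem exists_B (hp : p.Prime) (h17 : 17 ≤ p) (j : Fin 4) : ∃ s, B p j s := by
  obtain ⟨s, hs, hd⟩ := Nat.exists_prime_and_dvd (one_lt_A' hp h17 j).ne'
  exact ⟨s, B_of_dvd_A' hp h17 hs hd⟩

theorem A'_odd (hp : p.Prime) (h17 : 17 ≤ p) (j : Fin 4) : A' p j % 2 = 1 := by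
  by_contra h
  have h2 : 2 ∣ A' p j := by omega
  exact (B_of_dvd_A' hp h17 Nat.prime_two h2).2.1 rfl

theorem A'_coprime (hp : p.Prime) (h17 : 17 ≤ p) {i j : Fin 4} (hij : i ≠ j) : Nat.Coprime (A' p i) (A' p j) := by
  rw [Nat.coprime_iff_gcd_eq_one]
  by_contra h
  obtain ⟨s, hs, hd⟩ := Nat.exists_prime_and_dvd h
  have h1 := B_of_dvd_A' hp h17 hs (hd.trans (Nat.gcd_dvd_left _ _))
  have h2 := B_of_dvd_A' hp h17 hs (hd.trans (Nat.gcd_dvd_right _ _))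
  exact hij (coprime_torus hs h1.2.1 (odd_of_prime hp (by omega)) (by omega) h1.2.2.2.2 h2.2.2.2.2)

end Prime

end Cfsg.Agent.H412.ReeArith
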