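import Cfsg.Agent.H412.ProdStruct

/-!
# Products of small Ree groups are recognizable by spectrum (helper412)
-/

set_option autoImplicit false

namespace Cfsg.Agent.H412.ReeFinal

open Cfsg Subgroup
open Cfsg.Agent.H412.ReeArith Cfsg.Agent.H412.ReeSeq Cfsg.Agent.H412.KernelFree

variable {P : ℕ → ℕ} {k : ℕ}

/-- the order of an element of a product -/
theorem om_of_pi {k : ℕ} {R : Fin k → Type*} [∀ l, Group (R l)] (hF : ∀ l : Fin k, Facts (P l) (R l))
    (x : (l : Fin k) → R l) : Om P k (orderOf x) := by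
  refine ⟨fun l => if h : l < k then orderOf (x ⟨l, h⟩) else 1, ?_, ?_⟩
  · intro l hl
    simp only [hl, dif_pos]
    exact (hF ⟨l, hl⟩).orders _
  · apply orderOf_dvd_of_pow_eq_one
    funext l
    rw [Pi.pow_apply, Pi.one_apply, ← orderOf_dvd_iff_pow_eq_one]
    have h1 := Finset.dvd_lcm (f := fun l => if h : l < k then orderOf (x ⟨l, h⟩) else 1)
      (Finset.mem_range.2 l.2)
    simp only [l.2, dif_pos] at h1
    exact h1

/-- a maximal solvable normal subgroup -/
theorem exists_radical (G : Type*) [Group G] [Finite G] : ∃ N : Subgroup G, N.Normal ∧ Group.IsSolvable N ∧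
    ∀ M : Subgroup G, M.Normal → Group.IsSolvable M → N ≤ M → M = N := by
  classical
  have : Nonempty {N : Subgroup G // N.Normal ∧ Group.IsSolvable N} := ⟨⟨⊥, inferInstance, inferInstance⟩⟩
  obtain ⟨⟨N, hN, hs⟩, hmax⟩ := Finite.exists_max (fun N : {N : Subgroup G // N.Normal ∧ Group.IsSolvable N} =>
    Nat.card N.1)
  refine ⟨N, hN, hs, fun M hM hMs hle => ?_⟩
  exact (Subgroup.eq_of_le_of_card_ge hle (hmax ⟨M, hM, hMs⟩)).symm

/-- the quotient has no solvable normal subgroup -/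
theorem quotient_radical {G : Type*} [Group G] [Finite G] {N : Subgroup G} [N.Normal] (hs : Group.IsSolvable N)
    (hmax : ∀ M : Subgroup G, M.Normal → Group.IsSolvable M → N ≤ M → M = N) :
    ∀ M : Subgroup (G ⧸ N), M.Normal → Group.IsSolvable M → M = ⊥ := by
  intro M hM hMs
  set L : Subgroup G := M.comap (QuotientGroup.mk' N) with hL
  have hNL : N ≤ L := by
    intro x hx
    rw [hL, Subgroup.mem_comap, QuotientGroup.mk'_apply, (QuotientGroup.eq_one_iff x).2 hx]
    exact M.one_mem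
  have hLs : Group.IsSolvable L := by
    let f : L →* M := ((QuotientGroup.mk' N).comp L.subtype).codRestrict M (fun x => x.2)
    have hker : f.ker = N.subgroupOf L := by
      ext x
      rw [MonoidHom.mem_ker, Subgroup.mem_subgroupOf, ← QuotientGroup.eq_one_iff]
      constructor
      · intro h
        exact congrArg Subtype.val h
      · intro h
        exact Subtype.ext h
    have h1 : Group.IsSolvable f.ker := by
      rw [hker]
      exact Group.isSolvable_of_surjective (f := (Subgroup.subgroupOfEquivOfLe hNL).symm.toMonoidHom)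
        (Subgroup.subgroupOfEquivOfLe hNL).symm.surjective
    exact Group.isSolvable_of_ker_le_range f.ker.subtype f (by rw [Subgroup.range_subtype])
  have h2 := hmax L (hM.comap _) hLs hNL
  rw [eq_bot_iff]
  intro x hx
  obtain ⟨y, rfl⟩ := QuotientGroup.mk_surjective x
  have hy : y ∈ L := hx
  rw [h2] at hy
  rw [Subgroup.mem_bot]
  exact (QuotientGroup.eq_one_iff y).2 hy

/-- minimal normal solvable subgroups are elementary abelian -/
theorem elementary {G : Type*} [Group G] [Finite G] {V : Subgroup G} [V.Normal] (hs : Group.IsSolvable V)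
    (hbot : V ≠ ⊥) (hmin : ∀ N : Subgroup G, N.Normal → N ≤ V → N = ⊥ ∨ N = V) :
    (∀ a ∈ V, ∀ b ∈ V, a * b = b * a) ∧ ∃ t : ℕ, t.Prime ∧ ∀ a ∈ V, a ^ t = 1 := by
  have h1 : ⁅V, V⁆ < V := H395.Coclique.commutator_lt hs hbot
  have h2 : ⁅V, V⁆ = ⊥ := (hmin _ inferInstance h1.le).resolve_right h1.ne
  have hc : ∀ a ∈ V, ∀ b ∈ V, a * b = b * a := by
    intro a ha b hb
    rw [Subgroup.commutator_eq_bot_iff_le_centralizer] at h2
    exact (mem_centralizer_iff.1 (h2 ha) b hb).symm
  refine ⟨hc, ?_⟩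
  have h3 : Nat.card V ≠ 1 := fun h => hbot (Subgroup.card_eq_one.1 h)
  obtain ⟨t, ht, htd⟩ := Nat.exists_prime_and_dvd h3
  have htF : Fact t.Prime := ⟨ht⟩
  refine ⟨t, ht, ?_⟩
  let W : Subgroup G :=
    { carrier := {a | a ∈ V ∧ a ^ t = 1}
      mul_mem' := by
        rintro a b ⟨ha, ha'⟩ ⟨hb, hb'⟩
        have hcm : Commute a b := hc a ha b hb
        exact ⟨V.mul_mem ha hb, by rw [hcm.mul_pow, ha', hb', one_mul]⟩
      one_mem' := ⟨V.one_mem, one_pow t⟩
      inv_mem' := by
        rintro a ⟨ha, ha'⟩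
        exact ⟨V.inv_mem ha, by rw [inv_pow, ha', inv_one]⟩ }
  have hW : W.Normal := by
    refine ⟨?_⟩
    rintro a ⟨ha, ha'⟩ g
    exact ⟨(inferInstance : V.Normal).conj_mem a ha g, by rw [conj_pow, ha', mul_one, mul_inv_cancel]⟩
  have hWV : W ≤ V := fun a ha => ha.1
  rcases hmin W hW hWV with h | h
  · exfalso
    obtain ⟨x, hx⟩ := exists_prime_orderOf_dvd_card' t htd
    have h4 : (x : G) ∈ W := ⟨x.2, by
      rw [← hx, ← Subgroup.orderOf_coe, pow_orderOf_eq_one]⟩
    rw [h, Subgroup.mem_bot] at h4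
    have h5 : x = 1 := Subtype.ext h4
    rw [h5, orderOf_one] at hx
    exact ht.one_lt.ne hx
  · intro a ha
    rw [← h] at ha
    exact ha.2

theorem exists_ne_ne (a b : Fin 4) : ∃ i : Fin 4, i ≠ a ∧ i ≠ b := by
  revert a b
  decide

/-- **Main theorem.** -/
theorem main (hP : Good P) (k : ℕ) (K : Fin k → Type) [∀ i, Field (K i)] [∀ i, Fintype (K i)]
    (hK : ∀ i, Fintype.card (K i) = 3 ^ (P i)) (G : Type) [Group G] [Finite G]
    (hG : Set.range (orderOf : G → ℕ) =
      Set.range (orderOf : ((i : Fin k) → ↥(Cfsg.Lie.twistedG2 (K i) (3 ^ ((P i - 1) / 2)))) → ℕ)) :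
    Nonempty (G ≃* ((i : Fin k) → ↥(Cfsg.Lie.twistedG2 (K i) (3 ^ ((P i - 1) / 2))))) := by
  classical
  have hF : ∀ l : Fin k, Facts (P l) ↥(Cfsg.Lie.twistedG2 (K l) (3 ^ ((P l - 1) / 2))) :=
    fun l => ReeFacts.facts (hP.prime l) (hP.ge17 l) (hK l)
  have hfin : ∀ l : Fin k, Finite ↥(Cfsg.Lie.twistedG2 (K l) (3 ^ ((P l - 1) / 2))) := by
    intro l
    have hodd := hP.odd l
    obtain ⟨m, hm⟩ := hodd
    have h1 : (P l - 1) / 2 = m := by omega
    rw [h1]
    have h2 := hK l
    rw [hm] at h2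
    obtain ⟨U, h, n, D⟩ := Cfsg.Agent.ChevalleyStructure.Ree.Data.exists_data h2
    exact Cfsg.Agent.LieRecognition.ReeSylowThree.finite D
  -- the orders of the elements of `G`
  have hO : ∀ x : G, Om P k (orderOf x) := by
    intro x
    have h1 : orderOf x ∈ Set.range (orderOf : G → ℕ) := ⟨x, rfl⟩
    rw [hG] at h1
    obtain ⟨y, hy⟩ := h1
    rw [← hy]
    exact om_of_pi hF y
  have hE : ∀ (l : Fin k) (d : ℕ), Om1 (P l) d → ∃ x : G, orderOf x = d := by
    intro l d hd
    obtain ⟨y, hy⟩ := (hF l).exists_order d hd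
    have h1 : d ∈ Set.range
        (orderOf : ((i : Fin k) → ↥(Cfsg.Lie.twistedG2 (K i) (3 ^ ((P i - 1) / 2)))) → ℕ) :=
      ⟨Pi.mulSingle l y, by rw [orderOf_piMulSingle, hy]⟩
    rw [← hG] at h1
    exact h1
  obtain ⟨N, hN, hNs, hNmax⟩ := exists_radical G
  have hrad := quotient_radical hNs hNmax
  have hOq : ∀ x : G ⧸ N, Om P k (orderOf x) := by
    intro x
    obtain ⟨y, hy⟩ := CoComp.exists_lift (N := N) ⟨x, rfl⟩
    rw [← hy]
    exact hO y
  have hAq : ∀ l < k, ∃ j0 : Fin 4, ∀ j ≠ j0, ∃ x : G ⧸ N, orderOf x = A' (P l) j := by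
    intro l hl
    have hp := hP.prime l
    have h17 := hP.ge17 l
    -- the tori whose large part is prime to `|N|` survive
    have key : ∀ j, (∀ s, B (P l) j s → ¬ s ∣ Nat.card N) → ∃ x : G ⧸ N, orderOf x = A' (P l) j := by
      intro j hj
      obtain ⟨x, hx⟩ := hE ⟨l, hl⟩ (A' (P l) j) (Or.inr (Or.inr ⟨j, A'_dvd _ _⟩))
      refine ⟨(x : G ⧸ N), ?_⟩
      rw [NormalSimple.orderOf_mk_eq N, hx]
      rw [hx, Nat.coprime_iff_gcd_eq_one]
      by_contra hcon
      obtain ⟨t, ht, htd⟩ := Nat.exists_prime_and_dvd hcon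
      exact hj t (B_of_dvd_A' hp h17 ht (htd.trans (Nat.gcd_dvd_left _ _))) (htd.trans (Nat.gcd_dvd_right _ _))
    by_cases hbad : ∃ j s, B (P l) j s ∧ s ∣ Nat.card N
    · obtain ⟨j0, s, hs, hsN⟩ := hbad
      refine ⟨j0, fun j hj => key j ?_⟩
      intro t ht htN
      obtain ⟨i, hij0, hij⟩ := exists_ne_ne j0 j
      obtain ⟨u, hu⟩ := exists_B hp h17 i
      have hne : ∀ {a b : Fin 4} {x y : ℕ}, a ≠ b → B (P l) a x → B (P l) b y → x ≠ y := by
        intro a b x y hab hx hy h
        apply hab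
        have h1 := hy.2.2.2.2
        rw [← h] at h1
        exact coprime_torus hx.1 hx.2.1 (hP.odd l) (le_trans (by norm_num) (hP.ge l)) hx.2.2.2.2 h1
      have hadj : ∀ {a b : Fin 4} {x y : ℕ}, a ≠ b → B (P l) a x → B (P l) b y → ¬ ∃ g : G, orderOf g = x * y := by
        rintro a b x y hab hx hy ⟨g, hg⟩
        exact not_adj hP hab hx hy (hO g) (by rw [hg]; exact Dvd.intro _ rfl)
          (by rw [hg]; exact Dvd.intro_left _ rfl)
      obtain ⟨g, hg⟩ := hE ⟨l, hl⟩ u (Or.inr (Or.inr ⟨i, hu.2.2.2.2⟩))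
      exact H395.Coclique.coclique hs.1 ht.1 hu.1 (hne hj.symm hs ht) (hne hij0.symm hs hu) (hne hij.symm ht hu)
        (hadj hj.symm hs ht) (hadj hij0.symm hs hu) (hadj hij.symm ht hu) N hNs hsN htN
        (by rw [← hg]; exact orderOf_dvd_natCard g)
    · push Not at hbad
      exact ⟨0, fun j _ => key j (fun s hs => hbad j s hs)⟩
  obtain ⟨φ⟩ := ProdStruct.structure_thm hP k (G ⧸ N) hrad hOq hAq K hK
  by_cases hbot : N = ⊥
  · subst hbot
    exact ⟨(QuotientGroup.quotientBot (G := G)).symm.trans φ⟩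
  · exfalso
    -- a chief factor
    have : Nonempty {M : Subgroup G // M.Normal ∧ M < N} := ⟨⟨⊥, inferInstance, bot_lt_iff_ne_bot.2 hbot⟩⟩
    obtain ⟨⟨M, hM, hMN⟩, hmax⟩ := Finite.exists_max (fun M : {M : Subgroup G // M.Normal ∧ M < N} => Nat.card M.1)
    have hMmax : ∀ L : Subgroup G, L.Normal → M ≤ L → L ≤ N → L = M ∨ L = N := by
      intro L hL hML hLN
      by_cases h : L = N
      · exact Or.inr h
      · left
        exact (Subgroup.eq_of_le_of_card_ge hML (hmax ⟨L, hL, lt_of_le_of_ne hLN h⟩)).symm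
    let ψ : G ⧸ M →* G ⧸ N := QuotientGroup.map M N (MonoidHom.id G) hMN.le
    have hψ : ∀ x : G, ψ (x : G ⧸ M) = (x : G ⧸ N) := fun x => rfl
    let π : G ⧸ M →* ((i : Fin k) → ↥(Cfsg.Lie.twistedG2 (K i) (3 ^ ((P i - 1) / 2)))) := φ.toMonoidHom.comp ψ
    have hπ : Function.Surjective π := by
      intro y
      obtain ⟨z, rfl⟩ := φ.surjective y
      obtain ⟨x, rfl⟩ := QuotientGroup.mk_surjective z
      exact ⟨(x : G ⧸ M), rfl⟩
    have hker : π.ker = N.map (QuotientGroup.mk' M) := by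
      ext y
      obtain ⟨x, rfl⟩ := QuotientGroup.mk_surjective y
      rw [MonoidHom.mem_ker]
      have h1 : π (x : G ⧸ M) = φ (x : G ⧸ N) := rfl
      rw [h1, map_eq_one_iff φ φ.injective, QuotientGroup.eq_one_iff]
      constructor
      · intro h
        exact ⟨x, h, rfl⟩
      · rintro ⟨z, hz, hzx⟩
        have h2 : z⁻¹ * x ∈ M := QuotientGroup.eq.1 hzx
        have h3 : x = z * (z⁻¹ * x) := by group
        rw [h3]
        exact N.mul_mem hz (hMN.le h2)
    have hkbot : π.ker ≠ ⊥ := by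
      intro h
      rw [hker, Subgroup.map_eq_bot_iff, QuotientGroup.ker_mk'] at h
      exact absurd h (not_le_of_gt hMN)
    have hks : Group.IsSolvable π.ker := by
      rw [hker]
      exact Group.isSolvable_of_surjective (f := (QuotientGroup.mk' M).subgroupMap N)
        ((QuotientGroup.mk' M).subgroupMap_surjective N)
    have hmin : ∀ L : Subgroup (G ⧸ M), L.Normal → L ≤ π.ker → L = ⊥ ∨ L = π.ker := by
      intro L hL hLk
      have h1 : M ≤ L.comap (QuotientGroup.mk' M) := by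
        intro x hx
        rw [Subgroup.mem_comap, QuotientGroup.mk'_apply, (QuotientGroup.eq_one_iff x).2 hx]
        exact L.one_mem
      have h2 : L.comap (QuotientGroup.mk' M) ≤ N := by
        intro x hx
        have h3 : (x : G ⧸ M) ∈ π.ker := hLk hx
        rw [MonoidHom.mem_ker] at h3
        have h4 : φ (x : G ⧸ N) = 1 := h3
        rw [map_eq_one_iff φ φ.injective, QuotientGroup.eq_one_iff] at h4
        exact h4
      have h3 := Subgroup.map_comap_eq_self_of_surjective (QuotientGroup.mk'_surjective M) L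
      rcases hMmax _ (hL.comap _) h1 h2 with h | h
      · left
        rw [← h3, h, Subgroup.map_eq_bot_iff, QuotientGroup.ker_mk']
      · right
        rw [hker, ← h, h3]
    obtain ⟨hcomm, t, ht, hexp⟩ := elementary hks hkbot hmin
    obtain ⟨x, hx⟩ := KernelFree.main hP hF π hπ hcomm ht hexp hkbot hmin
    apply hx
    obtain ⟨y, hy⟩ := CoComp.exists_lift (N := M) ⟨x, rfl⟩
    rw [← hy]
    exact hO y

end Cfsg.Agent.H412.ReeFinal
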