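import Mathlib
import Cfsg.Agent.Characters.Core
import Cfsg.Agent.Characters.Central
import Cfsg.Agent.OddOrderCharacters.CommutingTrace
import Cfsg.Agent.Blocks.Local
import Cfsg.Agent.CharactersDeep.ModCongr
import Cfsg.Agent.S0145
import Cfsg.Agent.H520.CcpBasic

/-!
# Twisted character sums (helper412)

For an automorphism `α` of a finite group `K` and an irreducible character `χ` put `s(χ) = ∑ g, χ(g⁻¹ α(g))`.

* `sum_twist` : if `A ρ(g) = ρ(α g) A`, `A B = 1` then `s(χ) χ(1) = |K| tr(A) tr(B)`;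
* `exists_sum_twist` : in general `s(χ) χ(1) = |K| t`, `t` an algebraic integer;
* `sum_zero` : if no `g⁻¹ α(g)` is conjugate to `z` then `∑ χ, χ(z⁻¹) s(χ) = 0`;
* `mem_of_ccp` : if `α` satisfies `CCP`, `α z = z ≠ 1`, and all the central characters but the one of `st` vanish modulo `M`
  at `z⁻¹`, where `st` extends to `α` with trace `± 1`, then the central character of `st` vanishes modulo `M` at `z⁻¹`.
-/

set_option autoImplicit false

namespace Cfsg.Agent.H412.TwSum

open Cfsg Representation Cfsg.Agent.Characters.Central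
open scoped ComplexConjugate

section Rep

variable {G V : Type*} [Group G] [Fintype G] [AddCommGroup V] [Module ℂ V] [FiniteDimensional ℂ V]
  (ρ : Representation ℂ G V)

/-- The twisted sum in the presence of an intertwiner. -/
theorem sum_twist (h : ρ.IsIrreducible) (α : MulAut G) (A B : Module.End ℂ V) (hAB : A * B = 1)
    (hA : ∀ g, A * ρ g = ρ (α g) * A) :
    (∑ g, ρ.character (g⁻¹ * α g)) * ρ.character 1 =
      (Nat.card G : ℂ) * (LinearMap.trace ℂ V A * LinearMap.trace ℂ V B) := by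
  have h0 : ρ.character 1 ≠ 0 := char_one_ne_zero ρ h
  have h1 : ∀ g, ρ (α g) = A * ρ g * B := by
    intro g
    rw [hA, mul_assoc, hAB, mul_one]
  have key : ∀ y : G, (∑ g, ρ g⁻¹ * A * ρ g) * ρ y = ρ y * (∑ g, ρ g⁻¹ * A * ρ g) := by
    intro y
    rw [Finset.sum_mul, Finset.mul_sum]
    refine Fintype.sum_equiv (Equiv.mulRight y) _ _ fun a => ?_
    simp only [Equiv.coe_mulRight]
    rw [mul_assoc, ← map_mul, ← mul_assoc (ρ y), ← mul_assoc (ρ y), ← map_mul]
    congr 3
    group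
  have h2 := eq_trace_smul_of_comm ρ h _ key
  have h3 : LinearMap.trace ℂ V (∑ g, ρ g⁻¹ * A * ρ g) = (Nat.card G : ℂ) * LinearMap.trace ℂ V A := by
    rw [map_sum]
    have : ∀ g ∈ Finset.univ, LinearMap.trace ℂ V (ρ g⁻¹ * A * ρ g) = LinearMap.trace ℂ V A := by
      intro g _
      rw [LinearMap.trace_mul_comm, ← mul_assoc, ← map_mul, mul_inv_cancel, map_one, one_mul]
    rw [Finset.sum_congr rfl this, Finset.sum_const, Finset.card_univ, Fintype.card_eq_nat_card, nsmul_eq_mul]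
  have h4 : ∑ g, ρ.character (g⁻¹ * α g) = LinearMap.trace ℂ V ((∑ g, ρ g⁻¹ * A * ρ g) * B) := by
    rw [Finset.sum_mul, map_sum]
    refine Finset.sum_congr rfl fun g _ => ?_
    show LinearMap.trace ℂ V (ρ (g⁻¹ * α g)) = _
    rw [map_mul, h1, mul_assoc (ρ g⁻¹) A, ← mul_assoc (ρ g⁻¹) (A * ρ g)]
  rw [h4, h2, h3, smul_mul_assoc, one_mul, map_smul, smul_eq_mul]
  field_simp

/-- The twisted sum is an algebraic integer multiple of `|G| / χ(1)`. -/
theorem exists_sum_twist (h : ρ.IsIrreducible) (α : MulAut G) :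
    ∃ t : ℂ, IsIntegral ℤ t ∧ (∑ g, ρ.character (g⁻¹ * α g)) * ρ.character 1 = (Nat.card G : ℂ) * t := by
  classical
  set T : Module.End ℂ V := ∑ g, ρ g⁻¹ * ρ (α g) with hT
  have hint : ∀ y : G, ρ y * T = T * ρ (α y) := by
    intro y
    rw [hT, Finset.sum_mul, Finset.mul_sum]
    refine Fintype.sum_equiv (Equiv.mulRight y⁻¹) _ _ fun a => ?_
    simp only [Equiv.coe_mulRight]
    rw [← mul_assoc, ← map_mul, mul_assoc (ρ (a * y⁻¹)⁻¹), ← map_mul ρ (α (a * y⁻¹)), ← map_mul α]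
    congr 2
    · group
    · rw [inv_mul_cancel_right]
  have htr : ∑ g, ρ.character (g⁻¹ * α g) = LinearMap.trace ℂ V T := by
    rw [hT, map_sum]
    refine Finset.sum_congr rfl fun g _ => ?_
    show LinearMap.trace ℂ V (ρ (g⁻¹ * α g)) = _
    rw [map_mul]
  by_cases hT0 : T = 0
  · refine ⟨0, isIntegral_zero, ?_⟩
    rw [htr, hT0, map_zero, zero_mul, mul_zero]
  -- `T` is invertible
  have hran : LinearMap.range T = ⊤ := by
    have hsub : ∀ (g : G) ⦃v : V⦄, v ∈ LinearMap.range T → ρ g v ∈ LinearMap.range T := by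
      rintro g _ ⟨v, rfl⟩
      refine ⟨ρ (α g) v, ?_⟩
      exact (LinearMap.congr_fun (hint g) v).symm
    rcases h.eq_bot_or_eq_top ⟨LinearMap.range T, hsub⟩ with h1 | h1
    · exfalso
      apply hT0
      have h2 : LinearMap.range T = ⊥ := congrArg (Subrepresentation.toSubmodule (ρ := ρ)) h1
      exact LinearMap.range_eq_bot.1 h2
    · exact congrArg (Subrepresentation.toSubmodule (ρ := ρ)) h1
  have hunit : IsUnit T := (LinearMap.isUnit_iff_range_eq_top T).2 hran
  obtain ⟨u, hu⟩ := hunit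
  have hA : ∀ g, (↑u⁻¹ : Module.End ℂ V) * ρ g = ρ (α g) * (↑u⁻¹ : Module.End ℂ V) := by
    intro g
    have h1 := hint g
    rw [← hu] at h1
    rw [Units.inv_mul_eq_iff_eq_mul, ← mul_assoc, ← h1, mul_assoc, Units.mul_inv, mul_one]
  set A : Module.End ℂ V := ↑u⁻¹ with hAdef
  have hn : 0 < orderOf α := orderOf_pos α
  set n := orderOf α with hndef
  have hApow : ∀ k : ℕ, ∀ g, A ^ k * ρ g = ρ ((α ^ k : MulAut G) g) * A ^ k := by
    intro k
    induction k with
    | zero => intro g; simp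
    | succ k ih =>
      intro g
      rw [pow_succ, mul_assoc, hA, ← mul_assoc, ih, mul_assoc, ← pow_succ]
      congr 2
  obtain ⟨c, hc⟩ := exists_smul_of_comm ρ h (A ^ n) (by
    intro g
    rw [hApow, hndef, pow_orderOf_eq_one, MulAut.one_apply])
  have hV : Nontrivial V := by
    have := finrank_pos_of_irr ρ h
    exact Module.nontrivial_of_finrank_pos this
  have hc0 : c ≠ 0 := by
    rintro rfl
    rw [zero_smul] at hc
    have h1 : IsUnit (A ^ n) := (Units.isUnit u⁻¹).pow n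
    rw [hc, isUnit_zero_iff] at h1
    exact zero_ne_one h1
  obtain ⟨d, hd⟩ := IsAlgClosed.exists_pow_nat_eq c⁻¹ hn
  have hA' : (d • A) ^ n = 1 := by
    rw [smul_pow, hc, hd, smul_smul, inv_mul_cancel₀ hc0, one_smul]
  have hB' : (d • A) * (d • A) ^ (n - 1) = 1 := by
    rw [← pow_succ', Nat.sub_add_cancel hn, hA']
  have hBn : ((d • A) ^ (n - 1)) ^ n = 1 := by
    rw [← pow_mul, mul_comm, pow_mul, hA', one_pow]
  refine ⟨_, (Cfsg.Agent.OddOrderCharacters.CommutingTrace.isIntegral_trace hn hA').mul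
    (Cfsg.Agent.OddOrderCharacters.CommutingTrace.isIntegral_trace hn hBn), ?_⟩
  apply sum_twist ρ h α _ _ hB'
  intro g
  rw [smul_mul_assoc, hA, mul_smul_comm]

end Rep

section Grp

variable {K : Type*} [Group K] [Finite K]

omit [Finite K] in
/-- the twisted sums of the irreducible characters -/
theorem exists_sum_irr [Fintype K] (α : MulAut K) (χ : IrrCharacter K) :
    ∃ t : ℂ, IsIntegral ℤ t ∧ (∑ g, (χ : K → ℂ) (g⁻¹ * α g)) * (χ : K → ℂ) 1 = (Nat.card K : ℂ) * t := by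
  obtain ⟨χ, m, ρ, hρ, rfl⟩ := χ
  exact exists_sum_twist ρ hρ α

/-- If `g⁻¹ α(g)` is never conjugate to `z` then `∑ χ, s(χ) χ(z⁻¹) = 0`. -/
theorem sum_zero [Fintype K] [Fintype (IrrCharacter K)] {α : MulAut K} {z : K}
    (h : ∀ g : K, ¬ IsConj (g⁻¹ * α g) z) :
    ∑ χ : IrrCharacter K, (∑ g, (χ : K → ℂ) (g⁻¹ * α g)) * (χ : K → ℂ) z⁻¹ = 0 := by
  classical
  have h1 : ∀ χ : IrrCharacter K, (∑ g, (χ : K → ℂ) (g⁻¹ * α g)) * (χ : K → ℂ) z⁻¹ =
      ∑ g, (χ : K → ℂ) (g⁻¹ * α g) * conj ((χ : K → ℂ) z) := by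
    intro χ
    rw [Finset.sum_mul, Characters.Core.isCharacter_apply_inv (Characters.Core.isIrr_isCharacter χ.2) z]
  rw [Finset.sum_congr rfl fun χ _ => h1 χ, Finset.sum_comm]
  refine Finset.sum_eq_zero fun g _ => ?_
  rw [S0145.sum_irr_mul_conj, if_neg (h g)]

/-- **The twisted form of Gow's argument.** -/
theorem mem_of_ccp {α : MulAut K} (hc : H520.CCP α) {z : K} (hz : α z = z) (hz1 : z ≠ 1)
    {p : ℕ} {M : Ideal AlgInt} (hM : IsPModular p M) (st : IrrCharacter K)
    (hmem : ∀ ψ : IrrCharacter K, ψ ≠ st → MemLocalIdeal M (centralChar (ψ : K → ℂ) z⁻¹))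
    {V : Type*} [AddCommGroup V] [Module ℂ V] [FiniteDimensional ℂ V] (ρ : Representation ℂ K V)
    (hρ : ρ.IsIrreducible) (hst : ρ.character = (st : K → ℂ)) (A B : Module.End ℂ V) (hAB : A * B = 1)
    (hA : ∀ g, A * ρ g = ρ (α g) * A)
    (htA : LinearMap.trace ℂ V A = 1 ∨ LinearMap.trace ℂ V A = -1)
    (htB : LinearMap.trace ℂ V B = 1 ∨ LinearMap.trace ℂ V B = -1) :
    MemLocalIdeal M (centralChar (st : K → ℂ) z⁻¹) := by
  classical
  have : Fintype K := Fintype.ofFinite K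
  have : Fintype (IrrCharacter K) := @Fintype.ofFinite _ Characters.Core.finite_irr
  have hMp := Blocks.Local.isPrime_of_isPModular hM
  have hcard : (Nat.card K : ℂ) ≠ 0 := by exact_mod_cast Nat.card_pos.ne'
  choose t ht hts using exists_sum_irr α
  have h0 : ∀ g : K, ¬ IsConj (g⁻¹ * α g) z := by
    intro g hg
    obtain ⟨k, hk⟩ := isConj_iff.1 hg
    have h1 := hc.eq_of_fix (g := g) (k := k) (by rw [hk]; exact hz)
    apply hz1
    rw [← hk, h1, inv_mul_cancel, mul_one, mul_inv_cancel]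
  have h1 := sum_zero h0
  -- the sum of the `t(χ) ω_χ(z⁻¹)` vanishes
  have h2 : ∑ χ : IrrCharacter K, t χ * centralChar (χ : K → ℂ) z⁻¹ = 0 := by
    have h3 : ∀ χ : IrrCharacter K, t χ * centralChar (χ : K → ℂ) z⁻¹ =
        (((Subgroup.centralizer ({z⁻¹} : Set K)).index : ℂ) / (Nat.card K : ℂ)) *
          ((∑ g, (χ : K → ℂ) (g⁻¹ * α g)) * (χ : K → ℂ) z⁻¹) := by
      intro χ
      have h4 := irr_one_ne_zero χ.2
      have h5 : t χ = (∑ g, (χ : K → ℂ) (g⁻¹ * α g)) * (χ : K → ℂ) 1 / (Nat.card K : ℂ) := by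
        rw [hts χ]
        field_simp
      rw [h5]
      unfold centralChar
      field_simp
    rw [Finset.sum_congr rfl fun χ _ => h3 χ, ← Finset.mul_sum, h1, mul_zero]
  have hts' : t st = LinearMap.trace ℂ V A * LinearMap.trace ℂ V B := by
    have h3 := sum_twist ρ hρ α A B hAB hA
    rw [hst, hts st] at h3
    exact mul_left_cancel₀ hcard h3
  have h3 : MemLocalIdeal M (t st * centralChar (st : K → ℂ) z⁻¹) := by
    have h4 : t st * centralChar (st : K → ℂ) z⁻¹ =
        - ∑ ψ ∈ Finset.univ.erase st, t ψ * centralChar (ψ : K → ℂ) z⁻¹ := by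
      rw [eq_neg_iff_add_eq_zero]
      rw [← Finset.add_sum_erase Finset.univ (fun ψ : IrrCharacter K => t ψ * centralChar (ψ : K → ℂ) z⁻¹)
        (Finset.mem_univ st)] at h2
      exact h2
    rw [h4]
    refine Blocks.Local.memLocalIdeal_neg (Blocks.Local.memLocalIdeal_sum fun ψ hψ => ?_)
    exact Blocks.Local.memLocalIdeal_mul_left (Blocks.Local.memLocalRing_of_isIntegral (ht ψ))
      (hmem ψ (Finset.ne_of_mem_erase hψ))
  rw [hts'] at h3
  rcases htA with h4 | h4 <;> rcases htB with h5 | h5 <;> rw [h4, h5] at h3 <;>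
    simpa [Blocks.Local.memLocalIdeal_neg_iff] using h3

/-- a fixed-point-free automorphism leaves a Sylow subgroup invariant, thus it is not elliptic -/
theorem fixA_ne_bot {r : ℕ} [hr : Fact r.Prime] (hd : r ∣ Nat.card K) {α : MulAut K}
    (hE : ∀ R : Subgroup K, IsPGroup r R → (∀ m ∈ R, α m ∈ R) → R = ⊥) : ∃ z : K, α z = z ∧ z ≠ 1 := by
  by_contra hcon
  push Not at hcon
  have hinj : Function.Injective fun g : K => g⁻¹ * α g := by
    intro a b hab
    have hab' : a⁻¹ * α a = b⁻¹ * α b := hab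
    have h1 : α (b * a⁻¹) = b * a⁻¹ := by
      rw [map_mul, map_inv]
      have h2 : α b = b * (a⁻¹ * α a) := by rw [hab', mul_inv_cancel_left]
      rw [h2]
      group
    exact (mul_inv_eq_one.1 (hcon _ h1)).symm
  have hsur := Finite.surjective_of_injective hinj
  obtain ⟨P⟩ : Nonempty (Sylow r K) := inferInstance
  obtain ⟨x, hx⟩ := MulAction.exists_smul_eq K (α • P) P
  obtain ⟨g, hg⟩ := hsur x
  have hg' : α g = g * x := by
    rw [← hg]
    exact (mul_inv_cancel_left g (α g)).symm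
  have hxm : ∀ y ∈ (P : Subgroup K), x * α y * x⁻¹ ∈ (P : Subgroup K) := by
    intro y hy
    rw [← hx]
    exact Subgroup.smul_mem_pointwise_smul _ (MulAut.conj x) _ (Subgroup.smul_mem_pointwise_smul y α _ hy)
  have h1 := hE ((P : Subgroup K).map (MulAut.conj g).toMonoidHom) (P.isPGroup'.map _) (by
    rintro _ ⟨y, hy, rfl⟩
    refine ⟨x * α y * x⁻¹, hxm y hy, ?_⟩
    show g * (x * α y * x⁻¹) * g⁻¹ = α (g * y * g⁻¹)
    rw [map_mul, map_mul, map_inv, hg']
    group)
  have h2 : (P : Subgroup K) = ⊥ := by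
    rwa [Subgroup.map_eq_bot_iff_of_injective _ (MulAut.conj g).injective] at h1
  have h3 := P.dvd_card_of_dvd_card hd
  rw [h2, Subgroup.card_bot] at h3
  exact hr.out.one_lt.ne' (Nat.dvd_one.1 h3)

end Grp

end Cfsg.Agent.H412.TwSum
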