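import Mathlib
import Cfsg.Agent.H330.Gow
import Cfsg.Agent.H520.CcpCfg
import Cfsg.Agent.H412.TwSum

/-!
# The twisted Gow theorem (helper412)

Let `K` be a finite simple group of Lie type in characteristic `p` and let `α` be an automorphism with
`K = C_K(α) {g⁻¹ α(g)}`, which leaves no nontrivial `p`-subgroup invariant. The Steinberg representation extends to `α`
with trace `± 1`; the class function `∑ χ, s(χ) χ` gives a contradiction as in Gow's theorem.

* `false_of_st` : the argument, given the extension of the Steinberg representation.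
-/

set_option autoImplicit false

namespace Cfsg.Agent.H412.TwGow

open Cfsg Subgroup
open Cfsg.Agent.BpLieP.Big (LocChar)
open Cfsg.Agent.Omega.ML.LieRow.CRB (HasSplitAb)

/-- There is no `CCP` automorphism `α` fixing a nontrivial `p`-regular element such that the Steinberg representation extends
to `α` with trace `± 1`. -/
theorem false_of_st {K : Type*} [Group K] [Finite K] {p : ℕ} [Fact p.Prime] (hS : HasSplitAb p K)
    (hL : LocChar p K) (hcen : center K = ⊥) (hperf : commutator K = ⊤) {α : MulAut K} (hc : H520.CCP α)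
    {z : K} (hz : α z = z) (hz1 : z ≠ 1) (hzr : ¬ p ∣ orderOf z)
    {V : Type*} [AddCommGroup V] [Module ℂ V] [FiniteDimensional ℂ V] (ρ : Representation ℂ K V)
    (hρ : ρ.IsIrreducible) (hχ : IsIrrCharacter K ρ.character)
    (hχ1 : ρ.character 1 = ((p ^ (Nat.card K).factorization p : ℕ) : ℂ))
    (hχv : ∀ g : K, ¬ p ∣ orderOf g →
      ρ.character g = ((p ^ (Nat.card ↥(Subgroup.centralizer ({g} : Set K))).factorization p : ℕ) : ℂ) ∨
      ρ.character g = -((p ^ (Nat.card ↥(Subgroup.centralizer ({g} : Set K))).factorization p : ℕ) : ℂ))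
    (A B : Module.End ℂ V) (hAB : A * B = 1) (hA : ∀ g, A * ρ g = ρ (α g) * A)
    (htA : LinearMap.trace ℂ V A = 1 ∨ LinearMap.trace ℂ V A = -1)
    (htB : LinearMap.trace ℂ V B = 1 ∨ LinearMap.trace ℂ V B = -1) : False := by
  classical
  have hp : p.Prime := Fact.out
  have : Fintype (IrrCharacter K) := @Fintype.ofFinite _ S0909.finite_irr
  obtain ⟨M, hM⟩ := Blocks.ExistsModular.exists_isPModular hp
  have hMp := Blocks.Local.isPrime_of_isPModular hM
  have hdvd := H330.Gow.dvd_card (H330.Gow.hasSplit_of_ab hS)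
  let st : IrrCharacter K := ⟨ρ.character, hχ⟩
  have hdeg : charDegree ρ.character = p ^ (Nat.card K).factorization p := Blocks.Basic.charDegree_of_eq hχ1
  have hst : ¬ p ∣ Nat.card K / charDegree (st : K → ℂ) := by
    rw [H143.ChevBlocks.not_dvd_iff st.2]
    show _ ≤ (charDegree ρ.character).factorization p
    rw [hdeg, hp.factorization_pow]
    simp
  have huniq : ∀ ψ : IrrCharacter K, ¬ p ∣ Nat.card K / charDegree (ψ : K → ℂ) → ψ = st := fun ψ hψ =>
    H330.GowOne.unique_of_hasSplitAb hS hperf ψ st hψ hst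
  have hzi : z⁻¹ ≠ 1 := inv_ne_one.2 hz1
  have hzri : ¬ p ∣ orderOf z⁻¹ := by rwa [orderOf_inv]
  have hmem : ∀ ψ : IrrCharacter K, ψ ≠ st → MemLocalIdeal M (centralChar (ψ : K → ℂ) z⁻¹) := fun ψ hψ =>
    H330.GowBlock.centralChar_mem hM hdvd hL hcen st hst huniq ψ hψ hzi hzri
  have hstm : MemLocalIdeal M (centralChar ρ.character z⁻¹) :=
    TwSum.mem_of_ccp hc hz hz1 hM st hmem ρ hρ rfl A B hAB hA htA htB
  obtain ⟨m, hm, hω⟩ : ∃ m : ℕ, ¬ p ∣ m ∧
      (centralChar ρ.character z⁻¹ = (m : ℂ) ∨ centralChar ρ.character z⁻¹ = -(m : ℂ)) := by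
    have h1 := (centralizer ({z⁻¹} : Set K)).card_mul_index
    have hi0 : (centralizer ({z⁻¹} : Set K)).index ≠ 0 := Subgroup.index_ne_zero_of_finite
    have hfac : (Nat.card K).factorization p = (Nat.card ↥(centralizer ({z⁻¹} : Set K))).factorization p +
        (centralizer ({z⁻¹} : Set K)).index.factorization p := by
      rw [← h1, Nat.factorization_mul Nat.card_pos.ne' hi0]
      rfl
    refine ⟨ordCompl[p] (centralizer ({z⁻¹} : Set K)).index, Nat.not_dvd_ordCompl hp hi0, ?_⟩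
    have h2 : ((centralizer ({z⁻¹} : Set K)).index : ℂ) =
        (p : ℂ) ^ (centralizer ({z⁻¹} : Set K)).index.factorization p *
          ((ordCompl[p] (centralizer ({z⁻¹} : Set K)).index : ℕ) : ℂ) := by
      rw [← Nat.cast_pow, ← Nat.cast_mul, Nat.ordProj_mul_ordCompl_eq_self]
    have hp0 : (p : ℂ) ≠ 0 := by exact_mod_cast hp.ne_zero
    unfold centralChar
    rcases hχv z⁻¹ hzri with h3 | h3
    · left
      rw [h3, hχ1, hfac, h2, pow_add, Nat.cast_mul, Nat.cast_pow, Nat.cast_pow]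
      field_simp
    · right
      rw [h3, hχ1, hfac, h2, pow_add, Nat.cast_mul, Nat.cast_pow, Nat.cast_pow]
      field_simp
  have hmm : MemLocalIdeal M (m : ℂ) := by
    rcases hω with h4 | h4 <;> rw [h4] at hstm <;> simpa [Blocks.Local.memLocalIdeal_neg_iff] using hstm
  exact hm ((Blocks.Local.memLocalIdeal_natCast_iff hM m).1 hmm)

/-- The conclusion of the construction of the extended Steinberg representation. -/
def StTw.{u} (K : Type u) [Group K] (r : ℕ) (α : MulAut K) : Prop :=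
  ∃ (V : Type u) (_ : AddCommGroup V) (_ : Module ℂ V) (_ : FiniteDimensional ℂ V)
    (ρ : Representation ℂ K V) (A : V ≃ₗ[ℂ] V),
    ρ.IsIrreducible ∧ IsIrrCharacter K ρ.character ∧
    ρ.character 1 = ((r ^ (Nat.card K).factorization r : ℕ) : ℂ) ∧
    (∀ g : K, ¬ r ∣ orderOf g →
      ρ.character g = ((r ^ (Nat.card ↥(Subgroup.centralizer ({g} : Set K))).factorization r : ℕ) : ℂ) ∨
      ρ.character g = -((r ^ (Nat.card ↥(Subgroup.centralizer ({g} : Set K))).factorization r : ℕ) : ℂ)) ∧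
    (∀ (g : K) (v : V), A (ρ g v) = ρ (α g) (A v)) ∧
    (LinearMap.trace ℂ V (A : V →ₗ[ℂ] V) = 1 ∨ LinearMap.trace ℂ V (A : V →ₗ[ℂ] V) = -1) ∧
    (LinearMap.trace ℂ V (A.symm : V →ₗ[ℂ] V) = 1 ∨ LinearMap.trace ℂ V (A.symm : V →ₗ[ℂ] V) = -1)

theorem elRow_of_stTw {K : Type*} [Group K] [Finite K] {p : ℕ} [Fact p.Prime] (hS : HasSplitAb p K)
    (hL : LocChar p K) (hcen : center K = ⊥) (hperf : commutator K = ⊤)
    (h : ∀ α : MulAut K, H520.EL p α → StTw K p α) : H520.ElRow p K := by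
  intro α hα hE
  obtain ⟨V, i1, i2, i3, ρ, A, hρ, hχ, hχ1, hχv, hA, htA, htB⟩ := h α hE
  obtain ⟨z, hz, hz1⟩ := TwSum.fixA_ne_bot (H330.Gow.dvd_card (H330.Gow.hasSplit_of_ab hS)) hE
  have hzr : ¬ p ∣ orderOf z := by
    intro hd
    apply hE.not_dvd_fix
    refine hd.trans ?_
    have h1 : orderOf (⟨z, hz⟩ : ↥(H520.fixA α)) = orderOf z :=
      (orderOf_injective (H520.fixA α).subtype (H520.fixA α).subtype_injective ⟨z, hz⟩).symm
    rw [← h1]
    exact orderOf_dvd_natCard _
  refine false_of_st hS hL hcen hperf hα.ccp hz hz1 hzr ρ hρ hχ hχ1 hχv (A : V →ₗ[ℂ] V) (A.symm : V →ₗ[ℂ] V) ?_ ?_ htA htB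
  · ext v
    exact A.apply_symm_apply v
  · intro g
    ext v
    exact hA g v

end Cfsg.Agent.H412.TwGow
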