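import Mathlib
import Cfsg.Agent.H412.TwGow
import Cfsg.Agent.H885.Ell.Wrap

/-!
# Elliptic rows for the groups of Lie type (helper412; trace: helper274, wrapper: helper885)

`elRow_of_lie` : a finite simple group of Lie type in characteristic `r` has no configuration `Cfg α` with `EL r α`
(`α` leaves no nontrivial `r`-subgroup invariant).
-/

set_option autoImplicit false

namespace Cfsg.Agent.H412.TwRow

open Cfsg

universe u

/-- **The elliptic case of Stein's theorem for the groups of Lie type.** -/
theorem elRow_of_lie {r : ℕ} [Fact r.Prime] {G : Type u} [Group G] [Finite G] (hG : Cfsg.IsLieTypeChar r G) :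
    Cfsg.Agent.H520.ElRow r G := by
  have hr : r.Prime := Fact.out
  have : IsSimpleGroup G := H400.LieSimple.isSimple_of_lie hG
  have hS := H716.SplitAb.hasSplitAb_of_lie hr hG
  have hS' := H330.Gow.hasSplit_of_ab hS
  refine TwGow.elRow_of_stTw hS (H330.Gow.locChar_of_lie hG) (H400.LieLocal.center_eq_bot hS')
    (H330.Gow.perfect_of_split hS') fun α hE => ?_
  obtain ⟨V, i1, i2, i3, ρ, A, n, hρ, hχ, hχ1, hχv, hA, -, -, htA, htB⟩ := H885.Ell.exists_st_tw hS' hE
  exact ⟨V, i1, i2, i3, ρ, A, hρ, hχ, hχ1, hχv, hA, htA, htB⟩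

end Cfsg.Agent.H412.TwRow
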