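import Cfsg.Agent.Walter.StepAll
import Cfsg.Agent.ClassificationK.WalterIso

/-!
# Walter's theorem at the level of isomorphism, without hypotheses (helper412)
-/

set_option autoImplicit false

namespace Cfsg.Agent.H412.WalterThm

open Cfsg Cfsg.Agent.Walter.Types

universe u

/-- A non-abelian finite simple group with abelian Sylow 2-subgroups is `PSL(2, 2^n)`, `n ≥ 2`,
`PSL(2, q)`, `q ≡ 3, 5 mod 8`, `q ≥ 5`, a small Ree group, or `J₁`. -/
theorem iso_of_abelian {G : Type u} [Group G] [Finite G] [IsSimpleGroup G]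
    (hG : ¬ IsMulCommutative G) (S : Sylow 2 G) (hS : IsMulCommutative (S : Subgroup G)) :
    IsEvenType G ∨ IsOddType G ∨ Cfsg.Lie.IsoRee G ∨ Cfsg.Spor.IsoJ1 G :=
  Cfsg.Agent.ClassificationK.WalterIso.iso_of_wType Cfsg.Agent.Walter.Final.centThm
    Cfsg.Agent.Walter.Final.reeThm hG
    (Cfsg.Agent.Walter.Main.wType_of_step Cfsg.Agent.Walter.StepAll.step G inferInstance hG S
      (Cfsg.Agent.Walter.Main.comm_of_isMulCommutative hS))

end Cfsg.Agent.H412.WalterThm
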